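/-
Orbit certificate A.
-/
import Cfsg.Agent.Lib.Spor.Leech.Census.Data.Gens

set_option autoImplicit false
set_option maxRecDepth 20000
set_option maxHeartbeats 0

namespace CfsgLib.Spor.Leech.Census32

open Cfsg

/-- The tests. -/
def testsA : List (leechLattice × ℤ) := [(u3L, 24), (w0L, -24)]

/-- Their numbers. -/
def codeA : List (ℕ × ℕ) := [(84422585336595084411719813305156662600740575543670887098873042517394523179145638498894440270584955825472164, 4344), (28141788158368731238348077574910779016653881759205986124609041347873163565572711955263012398531767844962372, 3848)]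

/-- Part of the paths. -/
def pathsA0 : List (List ℕ) := [
[0,3,0,0], [0,0,0,0], [2,2,3,0,0,0], [2,1,2,3], [3,3,0,0], [2,2,1,1], [2,3,0,0,0], [1,2,1,0,3], [3,0,0,3], [1,0,0,0], [2,1,2,1,1], [3,3,0,3], [2,2,2,1,1], [2,2,3,0,0], [3,0,0,0], [1,1,2,3], [1,0,3,0], [1,2,1,1], [1,2,3,3], [1,0,3,3,3], [0,3,0,3], [2,2,2,3,0], [1,0,0,0,0], [3], [3,3,3,3], [1,1,0], [0,0], [3,3], [2,1,2,3,0], [3,0], [0,3,3,0], [2,1,0,3,0], [0,0,3], [0], [0,0,0,1,0], [0,1,0,3], [3,3,2,3], [3,0,3,3], [1,0,0], [0,3,3,3], [2,3,3,0], [2,1,0,0,0,0], [2,3,0,0], [3,0,3], [3,2,3,0], [1,2,2,3], [3,3,0], [0,0,3,3,0], [0,1,0,0,0], [3,2,3,0,0], [2,1,0,1,0], [2,2,3,3], [3,2,1,1], [0,0,1,2,3], [2,1,0,3], [2,3,0], [2,3,3,3,0], [1,1], [1,0,1,1,0], [1,1,0,0], [2,3,3], [2,2,3,3,0], [1,1,1,0,0], [0,1,0], [3,2,1,0,0], [3,2,3], [0,3], [0,3,0], [1,0], [2,2,3], [2,1,1,0,0], [0,3,3], [3,3,3,0], [2,3], [1,1,1,0], [1], [3,2,2,3,0], [1,2,3], [3,3,3], [3,0,3,3,0], [0,3,3,0,0],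 [0,1,1,0,0], [0,1,2,3], [0,1,2,2,3], [0,0,3,3], [2,2,3,0], [3,0,0], [3,0,3,0], [0,0,0], [1,0,3], [1,2,3,0], [1,0,3,3,0], [0,0,1,0], [2,1,0,0], [3,2,2,3], [0,1,1,0], [1,0,1,0], [0,0,3,0,0], [2,1,1], []]

/-- The paths. -/
def pathsA : List (List ℕ) := ([pathsA0] : List (List (List ℕ))).flatten

theorem testsOKA : testsOK (plain testsA) codeA = true := by decide +kernel

theorem certA : certAll hsMats (enc (v1L : GolayPt → ℤ)) (chosen codeA) pathsA = true ∧
    Nat.beq (chosen codeA).length 100 = true := by decide +kernel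

theorem ncardA : (pickL testsA).ncard = 100 := by
  rw [ncard_pickL testsOKA]; exact Nat.eq_of_beq_eq_true certA.2

theorem reachA {S : Subgroup Co0} (hS : ∀ g ∈ hsElts, g ∈ S) :
    ∀ y ∈ pickL testsA, ∃ g ∈ S, g • v1L = y :=
  transitive_of_cert isMat_hs hS testsOKA (by decide +kernel) certA.1

theorem memA : v1L ∈ pickL testsA := by
  refine ⟨by decide +kernel, ?_⟩
  simp only [testsA, List.forall_mem_cons]
  exact ⟨by decide +kernel, by decide +kernel, fun _ h => absurd h List.not_mem_nil⟩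

end CfsgLib.Spor.Leech.Census32
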