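/-
Orbit certificate AEight.
-/
import Cfsg.Agent.Lib.Spor.Leech.Census.Data.Gens

set_option autoImplicit false
set_option maxRecDepth 20000
set_option maxHeartbeats 0

namespace CfsgLib.Spor.Leech.Census32

open Cfsg

/-- The tests. -/
def testsAEight : List (leechLattice × ℤ) := [(u3L, 24), (w0L, -24), (v1L, 8)]

/-- Their numbers. -/
def codeAEight : List (ℕ × ℕ) := [(84422585336595084411719813305156662600740575543670887098873042517394523179145638498894440270584955825472164, 4344), (28141788158368731238348077574910779016653881759205986124609041347873163565572711955263012398531767844962372, 3848), (112562520735956409447851611267016991984580410813578825706846029514451041733003352209561054719109825197491232, 4168)]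

/-- The representative. -/
def repAEight : leechLattice :=
  ⟨fun p => [1, -3, 1, 1, 1, 1, 1, 1, 1, 1, 1, 1, 1, 1, 1, 1, 1, 1, 1, 1, 1, 1, 1, 1].getD (ptIdx p) 0, leechTest_spec (by decide +kernel)⟩

/-- Part of the paths. -/
def pathsAEight0 : List (List ℕ) := [
[], [0,0,0], [0], [0,1], [1,1,1], [1,0], [0,0,1], [0,0], [0,1,0], [0,1,1], [0,0,0,1], [1,0,0,0,0], [1], [0,0,0,0], [1,0,0], [0,0,1,0], [0,0,0,0,1], [0,0,0,0,0,1], [1,0,0,0], [1,1,0], [1,1], [0,0,0,1,0]]

/-- The paths. -/
def pathsAEight : List (List ℕ) := ([pathsAEight0] : List (List (List ℕ))).flatten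

theorem testsOKAEight : testsOK (plain testsAEight) codeAEight = true := by decide +kernel

theorem certAEight : certAll mTwoMats (enc (repAEight : GolayPt → ℤ)) (chosen codeAEight) pathsAEight = true ∧
    Nat.beq (chosen codeAEight).length 22 = true := by decide +kernel

theorem ncardAEight : (pickL testsAEight).ncard = 22 := by
  rw [ncard_pickL testsOKAEight]; exact Nat.eq_of_beq_eq_true certAEight.2

theorem reachAEight {S : Subgroup Co0} (hS : ∀ g ∈ mTwoElts, g ∈ S) :
    ∀ y ∈ pickL testsAEight, ∃ g ∈ S, g • repAEight = y :=
  transitive_of_cert isMat_mTwo hS testsOKAEight (by decide +kernel) certAEight.1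

theorem memAEight : repAEight ∈ pickL testsAEight := by
  refine ⟨by decide +kernel, ?_⟩
  simp only [testsAEight, List.forall_mem_cons]
  exact ⟨by decide +kernel, by decide +kernel, by decide +kernel, fun _ h => absurd h List.not_mem_nil⟩

end CfsgLib.Spor.Leech.Census32
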