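/-
Orbit certificate ASixteen.
-/
import Cfsg.Agent.Lib.Spor.Leech.Census.Data.Gens

set_option autoImplicit false
set_option maxRecDepth 20000
set_option maxHeartbeats 0

namespace CfsgLib.Spor.Leech.Census32

open Cfsg

/-- The tests. -/
def testsASixteen : List (leechLattice × ℤ) := [(u3L, 24), (w0L, -24), (v1L, 16)]

/-- Their numbers. -/
def codeASixteen : List (ℕ × ℕ) := [(84422585336595084411719813305156662600740575543670887098873042517394523179145638498894440270584955825472164, 4344), (28141788158368731238348077574910779016653881759205986124609041347873163565572711955263012398531767844962372, 3848), (112562520735956409447851611267016991984580410813578825706846029514451041733003352209561054719109825197491232, 4176)]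

/-- The representative. -/
def repASixteen : leechLattice :=
  ⟨fun p => [2, 0, 0, 0, 0, 0, 0, 0, 0, 0, 0, 0, 2, 0, 2, 0, 2, 2, 2, 0, 0, 0, 2, 2].getD (ptIdx p) 0, leechTest_spec (by decide +kernel)⟩

/-- Part of the paths. -/
def pathsASixteen0 : List (List ℕ) := [
[], [1,0], [1,0,0,1,0,1,0], [0,0,1,1,0], [0,0,0], [1,0,1,0,1,0], [1,0,0,0], [0,0,0,0,0,1,0], [0,1,0,1,0,1,0], [1,1,0,0,0,0,0], [1,0,1,1,0,1,0], [0,0,1,0], [1,0,0], [1,1,1,0,0,0,0], [0,0,0,1,1,1,1,0], [0,1,1,1,1,0], [0,1,0,0,1,0], [1,1,0,0,0,0], [0,1,0,1,1,1,1,0], [1,0,1,1,1,1,0], [0,0,0,1,1,1,0], [0,1,0,0,0,0], [0,1,1,1,0,0], [1,1,1,0,0], [1,1,1,1,0,1,1,0], [1,1,1,0,0,1,0], [0,1,0], [0,0,0,1,0,1,0], [1,0,0,0,0], [0,1,1,0,1,0], [0,0,0,1,0,0,0,0], [0,1,0,1,1,1,0,0], [0,1,1,0,1,1,0], [1,1,1,1,0], [1,0,1,0], [0,1,1,0], [0,0], [0,0,0,0,1,0], [0,0,0,0,0], [1,1,1,0], [0,0,1,1,1,1,0,0], [0,0,0,1,1,0], [0,1,0,0], [0,1,1,1,1,0,0], [0,0,1,0,1,0], [0,1,0,1,0], [0,0,1,1,1,1,0],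 [1,0,0,1,0,0,0,0], [1,1,0,0,0], [1,0,1,1,1,1,0,0], [1,0,0,1,0], [1,0,1,1,0], [1,1,0,0,1,0], [0,0,1,1,1,0], [1,0,0,0,0,0], [1,1,1,1,0,0], [0,1,1,1,0,0,0,0], [1,0,1,0,1,0,1,0], [1,0,1,0,0], [1,1,1,0,1,0], [0,0,1,1,1,0,0], [1,1,0,1,0], [0,1,0,0,1,0,1,0], [0,0,0,1,0], [0], [1,1,0], [0,0,1,0,1,0,1,0], [0,1,1,1,0], [1,0,0,0,1,1,1,0], [1,1,0,1,1,1,1,0], [1,1,1,0,1,1,0], [1,1,0,1,1,0], [1,1,0,0], [1,0,1,0,0,1,0], [0,0,1,0,0,0,0], [0,0,0,0], [1,0,1,1,1,0,0]]

/-- The paths. -/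
def pathsASixteen : List (List ℕ) := ([pathsASixteen0] : List (List (List ℕ))).flatten

theorem testsOKASixteen : testsOK (plain testsASixteen) codeASixteen = true := by decide +kernel

theorem certASixteen : certAll mTwoMats (enc (repASixteen : GolayPt → ℤ)) (chosen codeASixteen) pathsASixteen = true ∧
    Nat.beq (chosen codeASixteen).length 77 = true := by decide +kernel

theorem ncardASixteen : (pickL testsASixteen).ncard = 77 := by
  rw [ncard_pickL testsOKASixteen]; exact Nat.eq_of_beq_eq_true certASixteen.2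

theorem reachASixteen {S : Subgroup Co0} (hS : ∀ g ∈ mTwoElts, g ∈ S) :
    ∀ y ∈ pickL testsASixteen, ∃ g ∈ S, g • repASixteen = y :=
  transitive_of_cert isMat_mTwo hS testsOKASixteen (by decide +kernel) certASixteen.1

theorem memASixteen : repASixteen ∈ pickL testsASixteen := by
  refine ⟨by decide +kernel, ?_⟩
  simp only [testsASixteen, List.forall_mem_cons]
  exact ⟨by decide +kernel, by decide +kernel, by decide +kernel, fun _ h => absurd h List.not_mem_nil⟩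

end CfsgLib.Spor.Leech.Census32
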