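/-
Orbit certificate D.
-/
import Cfsg.Agent.Lib.Spor.Leech.Census.Data.Gens

set_option autoImplicit false
set_option maxRecDepth 20000
set_option maxHeartbeats 0

namespace CfsgLib.Spor.Leech.Census32

open Cfsg

/-- The tests. -/
def testsD : List (leechLattice × ℤ) := [(u3L, -16)]

/-- Their numbers. -/
def codeD : List (ℕ × ℕ) := [(84422585336595084411719813305156662600740575543670887098873042517394523179145638498894440270584955825472164, 4304)]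

/-- Part of the paths. -/
def pathsD0 : List (List ℕ) := [
[4,7,5,2,0], [2,4,7,6,4], [4,2,4,7,6,4], [7,4,7,6,4], [4,7,2,0], [4,1,4,3,0,0], [3,6,0,0,3], [0,2,4,7,0,0], [7,4,7,2,5,0], [4,6,0,7,0,0], [4,1,7,2,5,0], [7,5,4,7], [7,1,3,6,0], [1,2,7,6,3], [3,2,3,2,2,3], [7,2,3,2,3], [1,0,3,3], [3,2,3,6,1,3], [7,2,7,5,2,3], [7,6,3,5,2,3], [5,0,1,3,0,0], [4,4,7,2,0], [4,2,1,3,0,0], [6,4,7,6,4], [1,4,4,3,0,0], [4,6,3,1,7,0,0], [6,4,7,6,3,0], [2,4,1,3,0,0], [2,4,7,5,2,0], [4,7,1,2,0], [4,1,7,2,0], [4,5,5,2,3,0], [4,7,5,0], [2,4,7,0,0], [3,6,7,0,0,7], [7,1,4,4,3], [1,4,7,0,0], [1,6,4,2,3,0], [1,4,7,2,5,0], [3,0,1,2,1,7], [7,5,0,6,3], [5,7,5,2,7,0], [6,7,1,6,7], [1,3,1,2,3], [0,1,3,3], [6,5,0,3,3], [5,7,5,2,7], [0,0,5,2,3,3],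 [4,7,1,3,6,0], [4,5,3,2,4], [4,2,5,3,0], [5,4,1,3,0,0], [4,1,6,3,0], [4,4,4,7,2,0], [4,5,7,5,0], [7,5,4,7,0,0], [1,4,2,2,3,0], [7,2,3,4,6,3], [4,3,2,3,3,0], [6,7,4,7,0], [4,1,4,4,3,0,0], [7,5,3,4], [6,4,7,2,7], [1,3,6,1,3], [1,7,7,5,2,3], [1,7,7,7], [5,7,4,3,4,7], [5,7,6,3], [2,2,3,2,7], [0,6,4,4,3,0], [5,4,7,5,2,0], [5,2,0,1,3,0], [2,5,2,7,4,3], [0,0,3,1,3], [7,6,1,3,3], [2,7,1,1,7], [3,2,7,7], [7,1,2,2,7], [2,7,2,0,1,3], [3,5,7,2,2,3], [1,1,4,7,0,0], [7,4,2,3,1,4], [3,0,7,4,3,0], [4,2,7,5,2,0], [7,6,4,7,0,0], [2,3,4,5,4,3], [4,5,7,2,0], [4,3,0,7,5,0], [7,6,1,4,7,0], [4,3,1,4,3], [5,3,3,0,7], [0,1,7,4,3], [6,1,0,1,3,3], [6,5,7,7,7], [4,7,1,4,7,0], [7,5,2,1,3], [7,5,5,5,3], [0,6,3,6,3], [4,4,7,1,2,0], [4,7,6,6,3,0]]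

/-- Part of the paths. -/
def pathsD1 : List (List ℕ) := [
[1,4,7,2,0], [1,4,7,5,0], [1,4,2,5,3,0], [7,0,7,7,0,3], [4,2,7,1,4], [6,5,7,4,3], [2,1,0,1,3,3], [7,7,2,1,2,3], [7,7,4,3,4], [7,2,3,1,7], [1,1,0,3,3], [6,5,7,4,3,4], [7,1,1,1,7], [4,7,6,1,3,0], [6,1,4,7,2,0], [4,4,7,5,0], [2,0,2,0,3,0], [4,7,6,5,3,4], [4,2,4,7,0,0], [6,0,3,3,3,0], [1,4,2,7,5,0], [7,0,7,2,3,4], [5,7,4,1,3,0], [7,5,4,5,3], [4,5,7,0,2,4], [1,4,2,7,2,0], [1,0,3,1,3], [0,2,7,0,3], [7,2,2,3,3], [3,6,3,0,7,0], [7,5,2,5,3], [7,2,2,3], [4,7,0,6,3], [4,3,4,5,3], [4,2,7,2,0], [4,1,4,7,0,0], [4,6,1,3,0,0], [4,4,7,0,0,0], [5,7,0,1,0,7], [4,5,7,1,2,0], [2,7,4,7,2,0], [2,0,1,3,0,0], [2,7,6,3,2,0], [7,7,5,3,3], [0,3,3], [2,7,4,3,4,7], [1,2,0,1,3,3],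 [2,7,6,3], [0,3,3,3], [2,7,2,2,1,1,3], [5,0,1,3,0], [0,7,4,5,3,4], [4,1,7,6,4], [4,2,2,3,0,0], [7,1,3,4], [7,5,5,7,7], [3,5,7,7,7], [2,7,6,4,3,4], [1,7,2,5,2,3], [2,5,7,7], [7,1,3,1,3], [1,7,7,5,7], [5,0,2,7,5,0], [4,2,7,5,0], [4,4,4,3,5,0], [1,3,3,5,4], [1,3,3,3], [1,3,3], [4,6,5,0,3,3], [4,5,7,5,2,7], [0,5,2,3,3], [3,4,5,7,1,3], [1,7,0,1,3], [2,0,6,7,6,0], [2,5,4,1,3,0], [3,2,0,0,7], [7,1,6,4,7], [2,1,4,1,3,0], [4,5,3,4,6,0], [4,4,3,0,0], [1,4,6,3,0], [2,3,2,4,1,3], [3,4,3,0,0,3], [6,1,4,2,3,0], [5,4,7,2,0], [3,0,6,5,7], [6,4,7,2,3,0,0], [5,7,4,3], [3,1,7,7], [1,3,1,1,3], [7,1,6,3,2,7], [0,6,1,6,3,3], [5,3,5,6,3], [5,7,4,3,4], [1,7,1,1,1,3], [5,4,5,7,2,0], [2,5,4,6,3,0], [7,7,7,0,3,0], [6,6,7,7,7], [5,3,6,3]]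

/-- Part of the paths. -/
def pathsD2 : List (List ℕ) := [
[5,3,1,1,7], [5,3,1,0,1,3], [5,7,5,5,2,3], [1,7,6,1,6,3], [7,6,3,3,1,3], [5,5,0,1,3,0,0], [4,1,2,3,0], [4,4,3,2,5,0], [4,6,7,4,7,0], [7,4,7,4,5,4], [5,0,5,7,5,0], [3,5,4,3,3], [3,2,7,2,7], [6,7,5,3,3], [4,1,7,7,7], [7,5,4,7,5,3], [4,5,7,6,3], [5,7,5,6,7], [4,7,5,3,4], [5,4,7,6,0], [6,4,4,3,0], [2,5,4,2,3,0], [1,7,0,1,2,3], [3,3,6,0,7,0], [1,3,3,1,3], [7,5,7,6,7], [5,0,1,7,4,3], [3,0,7,1,7,7], [2,1,3,6,3], [6,7,2,1,3,3], [3,3,5,7,0], [3,3,5,7], [6,6,3,3], [5,5,5,7,7], [7,6,1,1,7], [6,6,3,3,3], [6,4,7,2,3], [5,7,5,5,7], [6,0,0,3,6,0], [5,7,5,4,7], [0,3,1,3], [0,1,6,7,7,0], [1,6,7,2,3], [4,3,2,7,7], [6,6,7,2,7], [5,7,2,2,3], [1,6,0,6,3,3], [7,6,5,6,7],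 [7,4,7,7,5,0], [4,5,5,7,0,0], [5,4,2,7,2,0], [7,5,4,6,5,3], [5,2,7,4,3], [0,7,5,5,7,0], [7,1,1,7], [2,3,2,1,3,3], [3,5,5,6,3,3], [3,3,3,1,3], [0,7,5,5,7], [7,2,0,1,3], [4,5,7,0,0,0], [2,7,4,7,0], [7,4,7,1,2,0], [5,6,4,7,0,0], [4,2,5,3,0,0], [2,0,0,7,6,0], [7,6,0,6,7], [7,1,2,2,4,7], [5,5,4,7,2,0], [6,4,7,5,0], [4,7,0,0], [2,5,4,7,0,0], [2,4,4,7,0,0], [5,5,4,7,0,0], [4,4,5,7,2,0], [4,6,0,7,6,0], [4,6,3,3,0,3], [5,7,5,0,6,3], [2,0,0,5,3,0], [4,4,3,1,4,3], [6,0,5,3,2,4], [2,4,7,2,5,0], [6,4,7,6,0], [1,7,4,3], [6,7,5,5,2,3], [5,3,5,2,1,3], [2,7,1,6,7], [5,3,5,0,7,0], [5,7,5,0,1,3], [6,3,6,3], [1,7,4,3,4], [7,0,0,5,3,0], [0,3,4,2,0,3], [2,2,7,5,3,4], [5,2,1,0,3,3], [3,5,5,7,2,3], [2,4,7,2,7], [5,3,2,1,3,3], [3,1,3,3,3],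 [6,3,2,7]]

/-- Part of the paths. -/
def pathsD3 : List (List ℕ) := [
[3,5,7,1,1,7], [6,0,2,7,1,0,0], [4,1,4,7,2,0], [1,6,4,5,3,0], [4,7,6,3,0], [4,5,3,0,0], [4,1,3,1,4,3], [4,1,4,7,5,0], [3,1,0,0,3], [4,5,7,2,4], [0,2,0,1,3,0], [4,6,5,6,3,0], [6,4,2,3,0], [6,0,7,5,7,0], [4,5,6,3,0], [2,3,6,3,3,0], [1,1,6,3,3], [0,5,7,7,7], [7,7,7,7], [4,1,1,0,3,3], [7,5,3,2,7], [0,7,5,2,7], [1,1,4,7,2,3], [2,0,3,3,5,0], [5,5,7,4,3], [3,1,1,3], [3,5,7,6,6,3], [1,3,3,1,3,3], [0,1,7,2,2,3], [7,1,1,1,3], [5,3,1,7,7], [6,3,2,1,7], [2,7,0,3,3,0], [7,6,1,7,4,7], [7,6,4,2,7], [2,4,5,7,0,0], [3,0,1,7,0], [2,5,5,3,3], [3,1,3,6,3], [1,6,6,7,7], [0,6,5,3,3], [6,1,1,3,1,3], [7,4,7,2,3], [3,0,7,0,3], [1,1,4,4,3,0], [4,2,3,4,6,0], [2,4,2,5,3,0],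 [1,2,4,5,3,0], [4,5,7,0,0], [1,0,3,3,5,0], [5,7,2,4,5,3], [7,5,4,3,3,0], [0,5,3,6,0,3], [5,5,3,3,3], [5,5,3,3], [1,2,1,2,7,7], [6,7,4,7,2,3], [7,6,6,7,7], [5,5,7,0,1,3], [6,7,1,1,4,7], [2,7,2,4,5,3], [1,4,7,2,1,4], [4,7,2,5,0], [7,0,3,3,6,0], [6,1,7,4,3], [5,0,3,3], [2,0,1,3,3], [5,2,7,6,3], [1,6,3,1,1,3], [3,4,7,2,2,3], [7,1,6,7], [6,1,7,4,3,4], [4,7,1,7,2,0], [4,6,3,0], [6,6,4,3,3], [3,2,5,2,7], [6,3,0,3,3], [3,4,5,2,7], [5,5,5,7,2,3], [7,7,2,5,5,3], [6,6,4,3,3,3], [0,7,2,0,3,3], [6,0,2,7,7,4], [4,6,5,3,6,0], [6,1,0,2,3,0], [4,7,5,4,5,3], [5,4,7,1,2,0], [3,4,6,4,4,3], [7,1,1,4,7], [1,3,4,7,0,0], [7,6,5,2,7,0], [2,3,6,1,7], [0,7,7,1,3], [7,6,5,2,7], [6,3,6,6,1,3], [2,3,6,4,3,4], [5,3,5,2,7], [4,4,6,7,0,3],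 [2,0,5,7,6,0], [6,4,3,2,3,0]]

/-- Part of the paths. -/
def pathsD4 : List (List ℕ) := [
[2,7,0,3], [4,7,2,2,3,3], [5,6,6,7,2,3], [0,2,1,2,3,3], [4,7,2,2,3], [2,7,0,3,3], [0,3,5,3,3], [0,1,3,1,3], [7,2,7,2,3,0], [3,1,2,3], [6,3,5,5,7], [7,4,3,4,3], [2,7,1,2,2,3], [5,0,1,3,3], [0,1,6,3,1,3], [3,6,6,5,3], [1,4,1,3,0], [1,4,4,7,0,0], [3,2,4,2,3], [5,3,4,2,7,0], [4,4,6,1,3,0,0], [2,4,1,3,6,0], [0,6,4,1,3,0], [0,1,0,2,3,0], [4,7,7,7,4], [2,1,4,2,3,0], [5,0,2,2,3,0], [5,5,4,7,6,0], [5,3,4,2,0,3], [4,5,4,3,5,0], [2,0,0,3,6,0], [5,4,1,6,3,0], [1,0,2,3,0,3], [0,7,1,0,7,0], [2,2,1,3,3], [2,7,6,1,1,3], [3,1,7,1,3], [6,3,5,6,7], [7,5,6,1,7], [7,1,2,0,7,0], [3,6,5,7,1,3], [3,3,5,4], [3,3], [6,1,0,7,0,3], [3,1,7,2,2,3],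 [7,0,1,3], [3,3,3], [3,5,5,3,1,3], [3,1,1,6,3], [5,4,1,7,2,0], [0,0,3,3,5,0], [1,4,1,3,0,0], [5,4,1,3,0], [4,7,2,3,0,0], [3,2,3,4,3], [0,2,3,2,0,3], [7,7,7,5,3], [2,1,3,1,1,3], [7,4,7,7,7], [1,3,2,7], [3,1,3,2,1,3], [2,3,1,7,7], [7,4,5,3,4], [4,3,1,3,0,0], [1,4,7,6,4], [1,7,0,5,7,4], [4,1,6,4,3,0], [1,6,7,0,3], [3,5,4,3,1,3], [6,6,7,5,3,3], [7,0,2,7,2,3], [4,2,5,7,7], [2,3,5,2,7], [1,3,5,5,3], [1,7,6,6,3], [6,6,4,4,3,0], [0,7,4,7,0], [1,0,3,3,3,0], [6,0,1,3,0], [5,5,0,1,3,0], [4,7,6,7,2,0], [4,1,3,3,3], [0,7,0,3], [5,2,3,3,3], [7,7,2,3,1,3], [5,2,3,3], [0,2,7,6,6,3], [4,1,7,0,1,3], [3,6,7,2,7], [7,2,4,1,3,0], [5,0,5,7,2,4], [6,5,4,3,3], [7,7,6,3,2,3], [5,3,0,7,0], [7,6,0,1,3], [7,2,1,7], [6,7,4,7,5,3], [7,1,7,2,5,3],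 [7,2,7], [3,6,7,7,0,0]]

/-- Part of the paths. -/
def pathsD5 : List (List ℕ) := [
[5,7,7,1,3], [5,3,6,3,1,3], [2,5,3,1,2,3], [7,6,6,5,3], [3,5,7,1,7], [7,5,5,6,3], [3,3,3,2,1,3], [5,7,0,5,7,0], [6,3,4,2,7,0], [5,4,5,3,0], [3,1,4,4,7], [7,7,7,5,0], [3,6,1,3], [7,7,7], [5,5,7,6,3], [6,3,6,3,1,3], [7,7,5,2,3], [7,6,1,0,7,0], [0,3,3,1,1,7], [3,0,3,6,7], [5,2,4,7,0,0], [6,0,1,3,6,0], [1,2,7,4,3], [2,2,0,3,3], [7,7,6,0,7,0], [1,6,3,3,1,3], [7,6,1,2,1,3], [6,6,7,6,3], [7,6,1,6,3], [6,7,5,3,3,3], [2,4,4,3,0,0], [2,4,2,7,2,0], [5,6,5,7,7,0], [1,1,7,2,3,3], [3,4,4,7,1,3], [3,3,3,6,3], [5,6,5,7,7], [0,1,3,6,3], [3,3,3,1,2,3], [3,2,2,7,1,3], [3,6,0,2,3], [4,6,3,0,3], [1,7,0,3,3,0], [4,4,4,3,0,0], [4,1,1,3,6,4], [6,1,6,7,7,0],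 [2,5,3,3,3], [0,2,7,2,3], [5,5,0,7,0,3], [2,5,3,3], [7,5,3,5,7], [6,1,6,7,7], [6,3,1,3], [4,1,4,6,3,0], [7,6,4,2,7,0], [2,1,4,6,3,0], [7,0,0,5,3], [6,3,4,7,0,0], [4,7,7,4,3], [1,0,6,0,3,0], [1,0,0,0,3,0], [5,0,2,3,0], [4,5,4,7,2,0], [5,3,3,5,7,0], [5,6,6,3,3], [0,2,2,3,3], [3,4,7,2,7], [7,6,0,3,3], [1,2,1,3,1,3], [0,5,5,3,1,3], [0,5,6,7,7], [4,2,3,2,4], [4,3,3,3,3,0], [0,6,0,2,3,0], [6,6,7,4,3], [3,5,5,5,7], [6,3,0,3,3,3], [7,6,7,1,1,7], [1,1,7,6,3], [6,6,7,4,3,4], [0,6,3,2,1,3], [2,3,3,1,3], [6,4,7,7,7,0], [1,7,7,0], [2,7,2,3,3], [5,3,1,3,5,7], [6,1,6,3,3], [2,7,7,1,7], [0,6,7,5,7], [0,6,1,7,2,3], [1,7,7], [7,1,0,2,7], [5,7,5,3,2,0], [3,0,3,3,4], [6,4,3,1,3], [3,2,1,1,3,3], [0,2,3,1,3], [2,7,1,7,7], [3,1,1,6,3,3],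 [7,6,0,1,3,3]]

/-- Part of the paths. -/
def pathsD6 : List (List ℕ) := [
[1,2,4,2,3,0], [6,5,0,2,3,0], [4,2,2,3,0], [7,0,1,2,3], [3,3,1,3], [4,5,3,1,1,7], [4,5,3,1,0,1,3], [5,2,1,3,6,3], [0,7,1,7,7], [6,1,1,7,6,3], [1,2,3,2,7], [0,0,2,4,3,0], [3,2,2,0,2,7], [1,4,2,3,0], [1,6,4,6,3,0], [3,0,5,5,3], [2,5,4,7,2,0], [6,1,2,7,4,3], [6,7,6,1,6,3], [2,0,3,3], [2,2,7,6,3], [2,0,3,3,3], [5,3,1,3,2,3], [2,7,7,5,3,3], [1,7,1,0,7,0], [3,0,3,2,7], [1,0,2,7,2,4], [4,1,4,3,0], [0,5,0,7,7,4], [3,3,4,3,3], [7,5,7,2,3], [6,0,6,7,7,0], [6,0,5,3,1,3], [3,1,3,3], [3,2,7,0,3,3], [7,6,5,7,7], [5,3,2,7], [5,0,3,1,3], [6,7,2,3], [4,3,5,4,1,3], [6,0,6,3,3], [7,2,1,1,3], [2,7,1,6,1,3], [7,7,7,1,3], [7,2,3,1,3], [0,0,0,0,3,0], [5,6,7,0,3],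 [4,6,7,5,3,3], [1,4,7,7,7], [2,5,5,7,2,3], [1,3,6,6,1,3], [5,7,6,6,3], [6,0,2,7,7], [5,3,5,5,3], [1,4,3,0,3], [0,0,5,0,3,0], [1,3,6,0,3], [6,4,6,3,1,3], [0,6,3,3], [6,1,3,0,7,0], [0,6,3,3,3], [7,2,3], [5,7,5,7], [2,7,2,3,1,3], [4,2,3,6,4], [4,2,5,4,3,0], [7,2,7,7,0], [3,6,6,5,7], [1,2,3,2,1,3], [3,2,3,1,3], [3,2,7,1,3], [0,6,7,2,7], [2,2,7,5,7], [3,5,3,6,1,3], [6,1,4,4,3,0], [5,3,2,0,3], [1,4,3,1,3,3], [3,2,3,3,5,7], [3,6,3,3,3], [5,5,7,5,3,3], [4,4,3,2,7], [6,6,5,7,2,3], [0,2,1,3,1,3], [2,1,7,4,7,0], [2,0,2,4,3,0], [5,7,1,3,4], [0,2,2,7,7,0], [1,6,1,3,3], [7,7,5,7], [1,6,1,3,3,3], [6,3,2,0,1,3], [7,2,5,2,3], [5,2,5,7,7], [2,1,7,0,3], [0,7,1,3,3,0], [3,2,2,3,3,3], [6,7,6,7,1,3], [2,2,3,0,7,0], [1,4,3,4,7],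 [1,3,2,1,2,3]]

/-- Part of the paths. -/
def pathsD7 : List (List ℕ) := [
[0,3,3,2,2,3], [1,0,2,4,3,0], [4,3,3,5,7], [0,6,7,7,0], [2,3,1,3,3], [2,5,3,2,7], [0,5,3,1,3], [1,6,7,7,7], [0,6,7,7], [4,3,3,5,7,0], [5,5,4,3,3], [0,2,7,7,0], [3,1,3,5,2,7], [3,5,7,1,3], [0,5,5,6,3,3], [3,5,5,2,3], [3,6,1,7,2,3], [0,2,7,7], [5,0,5,6,3,0], [1,2,0,2,3,0], [1,6,7,7,0], [3,5,2,2,3], [1,6,7,7], [2,2,5,3,3], [4,5,7,2,2,3], [3,5,6,7,7], [5,3,5,3,3], [3,1,3], [4,1,3,0,0], [0,6,0,7,0,0], [3,4,6,3,4], [5,5,4,6,3,0], [0,6,5,7,2,0], [4,6,1,2,3,0], [4,1,7,2,4], [0,5,3,2,4], [0,1,6,3,0], [0,5,7,5,0], [2,0,5,3,6,4], [7,4,4,7,0,0], [7,5,5,7,0], [3,6,7,2,3], [2,5,7,2,3,3], [1,6,6,3,3], [4,3,3,3,1,3], [7,5,5,7], [5,5,7,7], [3,2,7,1,7],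 [4,3,6,7,0,0], [4,7,6,4], [7,4,2,3,0], [0,2,7,1,4], [0,7,6,1,3,0], [2,4,7,6,0], [6,4,2,5,3,0], [5,0,6,7,6,0], [0,3,4,5,3], [2,3,6,3], [6,0,1,3,3], [3,5,5,3,3], [3,5,7,2,7], [7,6,3,5,7], [2,3,1,1,7], [3,1,7,2,3], [0,6,1,0,3,0], [0,5,3,3,0,3], [4,3,0,3,4], [0,2,7,5,0], [3,5,6,5,4,7], [7,0,2,7,6,0], [2,0,2,7,6,0], [4,7,6,0], [7,0,1,0,7], [2,1,7,4,3], [3,2,3,5,7], [3,2,5,2,1,3], [3,6,3], [7,5,6,5,3], [3,1,1,7], [3,1,0,1,3], [7,5,5,2,3], [0,7,5,7,2,0], [3,3,6,3,4], [2,1,0,3,3], [6,7,1,1,7], [1,6,3,2,7], [5,5,3,1,1,3], [7,1,6,0,3,3], [7,0,7,0,2,3], [3,2,1,3,3], [0,5,7,0,0,0], [0,2,5,3,0,0], [5,0,6,0,3,0], [4,6,4,7,5,0], [4,5,5,7,2,0], [0,5,5,3,5,0], [6,6,4,7,5,0], [4,4,7,0,0], [4,5,3,0], [0,5,7,2,4]]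

/-- Part of the paths. -/
def pathsD8 : List (List ℕ) := [
[0,5,6,3,0], [7,0,5,7,4], [5,0,5,5,3,0], [4,2,3,4,2,0], [7,2,4,6,5,3], [7,4,7,4,2,0], [0,7,1,7,2,0], [1,6,6,7,4,3], [6,6,3,1,1,3], [7,6,7,6,3], [7,1,1,3,6,3], [7,2,5,5,7], [0,7,0,2,1,7], [1,2,3,3,1,3], [3,2,4,3,3,3], [1,1,4,2,3,0], [4,2,0,7,0,0], [6,7,0,3], [3,3,5,5,6,3], [3,2,2,1,7], [3,2,3,2,3], [7,6,6,3], [6,7,0,3,3], [3,1,2,3,2,3], [3,5,5,3], [5,6,4,7,5,0], [0,5,7,2,5,0], [2,0,1,6,3,0], [4,3,1,0,7], [0,2,3,3,5,0], [7,4,1,3,2,0], [6,4,7,0,0], [5,4,7,0,0], [7,0,3,3,0,0], [7,2,4,5,3], [6,4,5,7,0,0], [7,5,3,1,3,0], [5,6,1,3,3], [0,0,3,6,1,3], [0,0,7,7,7], [2,5,5,7,7], [5,3,0,6,3,3], [2,7,5,5,7], [3,6,6,7,2,3], [3,0,1,3,2,3], [0,2,7,1,0,0], [7,0,5,7,0],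 [0,7,7,4,3], [3,2,0,3], [2,5,7,0,3,3], [5,7,5,3,3], [2,4,7,0,1,3], [7,6,6,3,2,3], [3,5,7,5,7], [2,4,3,3,3], [1,3,6,3,3,3], [0,3,3,3,3,0], [1,2,1,7,0,3], [6,3,6,1,7], [7,2,2,3,2,7], [5,2,2,7,2,7], [2,3,3,1,1,3], [4,6,3,6,3], [3,1,1,7,1,3], [4,1,7,4,3], [0,2,2,3,0], [2,0,3,6,3,0], [3,3,5,3,3,0], [7,7,0,3,3], [2,7,1,4,3,4], [0,0,2,0,3,3], [5,5,6,7,7], [7,7,0,3,3,4], [3,1,1,1,7], [5,5,5,3,1,3], [3,4,2,0,3], [4,1,3,0], [7,6,6,7,4], [7,0,2,3,1,3], [5,3,3,3,1,3], [0,3,5,4,1,3], [3,5,3,3,3], [5,7,1,1,7], [2,7,1,0,7,0], [1,1,3,2,7], [0,2,3,6,4], [0,2,5,4,3,0], [3,2,7,4,2,0], [6,3,3,0,1,3], [1,3,1,3,3], [6,5,3,3,1,3], [6,6,5,7,6,3], [3,2,2,3,2,7], [3,2,7], [3,2,5,7,2,3], [6,0,2,7,6,4], [0,1,3,0,0], [7,4,7,2,0], [7,5,4,1,7],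 [0,3,3,3,0]]

/-- Part of the paths. -/
def pathsD9 : List (List ℕ) := [
[4,6,7,6,0,3], [3,2,4,1,3], [4,6,6,3,5,0], [6,7,4,7,2,0], [2,0,3,1,7,0], [4,6,7,5,0,3], [4,4,5,3,0,0], [6,1,2,7,0,3], [2,2,7,2,3], [5,3,3,1,1,3], [2,1,3,2,1,3], [4,4,7,6,3], [7,5,6,7], [2,7,2,4,3,4], [2,2,0,6,3,3], [0,3,1,0,7], [0,5,0,7,0,0], [2,4,3,0,3], [7,5,3,2,4], [6,3,5,2,1,3], [2,1,7,6,3], [7,6,0,1,3,4], [7,1,3,5,7], [5,5,7,7,1,3], [7,5,0,7,0], [7,7,1,6,3], [0,2,3,0,0,0], [4,1,3,0,0,0], [0,1,3,0], [0,2,1,0,3,0], [3,0,1,3,0], [6,4,2,7,2,0], [2,0,1,3,0], [7,6,3,2,0], [3,6,5,2,3,3], [6,0,3,3], [6,7,7,5,3,3], [7,4,3,4,7], [7,6,3], [7,2,2,1,1,3], [6,0,3,3,3], [2,0,1,3,6,0], [0,1,3,0,0,0], [4,7,6,0,3], [6,5,4,7,2,0], [5,2,4,2,3,0], [3,5,4,5,3,0],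 [0,5,2,7,0,0], [1,4,1,7,2,0], [0,6,4,7,7,4], [7,5,2,7,0], [5,7,7,7], [4,7,7,7,7], [1,0,1,3,3], [5,3,6,1,3], [7,5,2,7], [6,7,1,1,1,7], [2,0,6,3,6,3], [4,7,6,7,0], [3,4,5,6,0,7], [7,0,1,1,3], [1,0,2,7,0,3], [5,7,6,3,1,3], [1,7,2,2,3], [3,5,2,7,7], [7,0,2,2,3], [5,6,7,5,7], [7,4,5,2,7], [7,4,1,3,0], [6,3,2,4,1,3], [6,0,1,3,0,0], [0,1,3,6,0], [0,6,3,5,0], [0,2,3,0,3,0], [3,3,0,7], [1,0,1,7,4,3], [2,7,6,1,6,3], [7,6,1,2,3,3], [7,5,3,3,3], [6,7,6,3], [1,0,6,3,6,3], [4,3,4,1,3], [1,1,4,7,2,0], [3,0,1,3,0,0], [1,7,1,3,4], [6,5,3,3,3], [2,7,7,5,6,3], [6,5,3,3], [2,3,3,5,5,3], [3,1,7,5,3], [3,3,2,1,3], [5,5,2,7,7], [7,4,3], [1,3,1,7,7], [1,1,3,1,1,3], [3,5,6,3], [7,4,3,4], [7,5,5,2,3,3], [3,1,7,1,6,3], [3,1,0,2,2,3]]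

/-- Part of the paths. -/
def pathsD10 : List (List ℕ) := [
[7,6,6,4,7], [6,4,4,6,3,0], [2,5,2,7,7,0], [1,1,3,3,3], [1,1,3,3], [0,0,2,3,3,3], [6,7,6,3,2,7], [7,5,6,0,1,3], [0,0,2,3,3], [1,1,7,0,1,3], [6,3,6,0,2,3], [4,4,5,3,5,0], [3,4,5,3,3,0], [7,4,7,5,3,0], [0,2,0,3,0,3], [2,4,5,7,2,0], [3,4,5,7,4], [0,1,3,1,2,0], [6,4,2,2,3,0], [2,7,4,1,3,0], [1,2,7,0,3], [3,5,6,1,3,3], [6,7,2,3,1,3], [6,6,7,2,3], [7,1,6,1,3], [6,7,2,1,1,3], [7,7,6,7,1,3], [5,4,3,4,7], [1,3,1,0,0,3], [0,6,5,3,5,0], [5,3,6,0,3], [7,7,1,1,7], [4,5,5,3,3], [1,6,3,0,3,3], [6,5,7,6,6,3], [5,5,7,2,3], [2,7,0,2,2,3], [5,5,5,7,5,7], [0,5,3,1,2,0], [4,6,1,3,0], [0,2,3,0], [0,6,5,7,0,0], [7,5,3,2,0], [1,3,0,3,3,4], [7,1,2,3,1,3], [1,0,2,3,1,3],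 [7,5,3,6,7], [7,6,1,6,1,3], [6,7,1,7,7], [3,5,3,3,2,7], [0,5,6,3,1,4], [5,3,0,3,6,7], [6,1,7,0,3], [5,2,7,2,3], [1,7,2,1,7], [3,0,7,0], [5,4,6,3,1,3], [5,7,2,4,3,4], [1,7,6,0,1,3], [3,2,1,3], [1,6,0,1,3,0], [0,2,3,0,3], [3,4,7,5,2,0], [6,0,6,0,3,0], [6,5,7,7,0], [2,5,2,3,3,3], [3,5,3,1,1,7], [4,6,0,2,3,3], [2,5,2,3,3], [6,5,7,7], [2,0,7,0,3], [4,3,4,5,2,3], [5,4,3,3], [2,5,3,0,7,0], [2,7,6,0,1,3], [1,3,5,5,2,3], [7,4,7,5,3], [3,2,5,3], [7,4,1,7,7,7], [2,7,2,7], [4,1,3,6,0], [0,1,3,1,4], [1,6,4,7,5,0], [4,4,6,3,0], [4,3,5,3,4], [4,6,3,5,0], [1,3,0,1,7,0], [2,1,1,3,3], [7,5,7,6,3], [1,7,4,7,2,3], [2,0,0,2,3,3], [7,6,3,2,7], [7,2,0,3,3], [5,5,6,3,1,3], [7,7,1,0,3], [0,0,3,6,0,3], [5,3,3,3], [6,0,2,7,2,3], [6,6,3,1,3],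 [5,3,3]]

/-- Part of the paths. -/
def pathsD11 : List (List ℕ) := [
[7,1,3,5,5,7], [5,7,0,1,3], [2,0,3,1,0,7], [2,7,4,3], [0,0,5,7,7,0], [6,3,3,1,3], [5,6,6,7,6,3], [7,6,1,0,1,3], [7,2,7,7,1,3], [2,3,5,6,3], [2,7,4,3,4], [5,4,3,0,3], [4,2,1,3,5,0], [1,1,7,4,3], [2,2,1,7,6,3], [3,5,2,1,3], [3,3,5,7,2,3], [7,5,0,1,3], [1,6,3,6,3], [3,5,0,7,0], [6,5,3,2,7], [0,3,3,6,7,0], [6,5,4,1,3,0], [3,5,2,7,6,0], [0,0,6,7,4,3], [5,6,3,0,7,0], [0,7,0,0,3,3], [3,5,2,7], [2,0,2,7,0,3], [5,6,3,2,1,3], [2,4,3,4,5,3], [0,6,0,0,3,0], [0,3,1,0,7,4], [6,0,2,4,3,0], [6,4,6,4,3,0], [2,3,6,0,3], [5,5,3,0,7,0], [5,7,2,1,7], [3,5,3,1,2,3], [2,5,7,2,3], [7,5,2,5,7], [7,6,3,1,2,3], [5,7,2,7], [1,1,7,7,0], [1,2,7,2,3,3], [3,5,6,7], [3,3,0,3,3,3],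 [3,1,3,5,7], [5,3,1,2,2,7], [6,6,1,3,3], [1,1,7,7], [2,5,4,5,3,0], [4,2,3,1,4], [0,1,3,5,3,0], [0,1,2,0,3,0], [3,5,7,2,0,3], [5,2,4,7,2,7], [3,1,3,2,3], [1,2,0,3,3], [0,0,7,2,5,7], [7,7,2,3,3], [2,5,7,7,1,3], [2,7,5,5,6,3], [1,1,4,1,3,0], [0,7,7,5,0], [5,6,7,4,3], [7,7,1,3], [3,6,3,1,3], [6,5,3,1,1,3], [2,5,5,7,6,3], [2,3,6,1,3], [5,6,7,4,3,4], [3,1,3,5,2,3], [3,4,2,7,0], [3,4,5,7,2,0], [2,3,3,5,4], [1,0,7,0,3], [2,3,3,3], [5,6,1,3,1,3], [7,1,7,6,3], [2,3,3], [2,7,0,1,3], [6,5,6,7,7], [0,7,7,7,0], [3,5,7,0,7], [0,3,5,4,7], [2,1,2,3,3], [4,4,7,2,2,3], [2,3,3,5,2,3], [3,5,3,3], [1,3,1,3], [4,2,7,0,3], [4,3,1,2,3], [6,7,2,3,3], [1,0,2,7,2,3], [6,6,1,7,7], [5,0,7,0,3], [1,6,3,1,3], [5,5,2,3,3], [3,2,2,1,1,7]]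

/-- Part of the paths. -/
def pathsD12 : List (List ℕ) := [
[7,5,7,4], [3,2,3,0,7,0], [1,7,2,3], [1,0,6,3,3], [7,5,7], [2,7,6,3,1,3], [7,7,5,0,7,0], [5,3,6,7], [3,4,4,6,7], [0,6,7,5,2,0], [4,7,6,1,2,0], [0,0,7,5,0], [0,5,5,3,0], [2,0,5,6,3,0], [5,6,4,6,3,0], [4,5,4,3,0,0], [0,5,3,6,4], [5,4,6,4,3,0], [6,6,7,0,3], [1,1,7,2,3], [3,1,1,3,1,3], [6,3,5,5,3], [1,7,5,7], [3,2,2,0,3,3], [5,7,0,7,0,3], [3,6,7], [2,2,4,6,3,0], [0,3,1,7,0,0], [0,1,2,7,2,0], [1,0,1,3,0], [6,4,1,3,0], [7,5,3,1,2,0], [1,7,5,6,7], [3,6,3,1,1,3], [3,6,3,3,1,3], [3,3,1,1,3], [2,3,3,1,1,7], [6,4,6,3,6,3], [5,7,6,5,7], [2,4,2,3,0], [0,7,4,3,3,0], [1,0,2,3,0], [6,4,7,2,0], [7,2,4,5,3,0], [6,4,1,7,2,0], [0,2,7,6,4], [5,4,5,3,0,0], [4,6,3,1,2,0],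 [6,7,5,3,4], [2,1,3,1,3,3], [1,2,3,6,3], [3,3,0,1,3], [6,5,7,6,3], [2,3,2,7], [5,3,3,1,3], [1,3,1,7,2,3], [0,6,3,0,3,0], [6,7,1,3,6,0], [6,7,2,3,2,3], [2,7,1,2,2,7], [5,5,3,1,2,3], [2,3,2,7,7], [5,7,2,1,3,3], [6,1,0,3,3], [3,1,2,3,3,1,3], [2,2,4,7,0,0], [0,0,6,3,0], [7,4,7,7,0,0], [4,1,7,1,0,0], [6,4,5,3,0], [5,0,5,0,3,0], [1,3,3,0,7], [1,6,7,6,3], [7,7,6,6,3], [2,3,2,1,7], [7,4,6,0,6,3], [1,4,3,4,1,3], [5,7,1,2,2,3], [7,6,3,3,2,3], [0,2,7,2,4], [6,0,1,6,3,0], [0,1,7,5,0,3], [6,0,5,7,5,0], [3,3,0,1,7], [5,7,2,3,3], [3,6,3,6,7], [2,0,6,5,3,3], [1,3,5,3,3], [7,1,3,3,2,3], [1,1,3,1,3], [5,6,1,7,7], [0,6,3,1,4], [0,2,4,3,6,0], [5,2,4,1,3,0], [0,2,7,6,0], [0,3,4,3,0,0], [0,3,6,3,0], [7,1,0,7,4], [5,2,0,3,3], [4,3,1,7,1,3]]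

/-- Part of the paths. -/
def pathsD13 : List (List ℕ) := [
[7,1,6,1,7], [1,3,5,2,1,3], [7,6,6,3,3], [7,7,4,7,2,3], [7,1,0,7,0], [4,3,3], [2,3,0,3,3], [5,7,0,3,3], [4,7,0,1,3], [4,3,3,3], [3,5,7,7,1,3], [1,2,7,2,7], [4,3,3,5,4], [6,0,2,2,3,0], [7,6,7,6,0,3], [7,1,4,3,4], [5,2,5,3,3], [2,3,3,1,2,3], [5,0,2,7,2,3], [7,1,7,0,7,0], [3,6,4,7,2,7], [5,6,3,1,3], [4,1,2,3,0,0], [0,3,3,5,0], [0,5,3,2,3,0], [4,5,7,7,2,4], [0,0,7,6,0], [4,5,3,1,2,0], [0,0,5,3,0], [0,6,3,2,4], [2,4,5,3,0], [2,3,2,0,3], [6,6,3,0,3,3], [7,7,6,1,3,3], [6,3,2,5,2,7], [4,1,3,2,7], [5,6,7,2,3], [3,1,2,7,7], [5,7,2,3,1,3], [3,6,4,3,6,0], [6,0,7,7,1,3], [1,6,3,6,7], [3,6,1,7], [7,5,4,3,4], [7,1,3,6,3], [3,6,4,3,4], [0,7,0,5,3], [7,4,6,0,7],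 [4,2,3,0], [2,4,6,3,0], [0,1,1,6,3,0], [4,7,2,1,4], [1,0,0,3,6,0], [7,5,3,5,2,0], [6,7,1,7,2,3], [6,7,2,3,3,3], [1,7,7,1,7], [1,7,2,3,3], [0,1,7,5,4,7,0], [7,1,2,1,3], [3,0,0,3,1,3], [0,6,7,1,0,0], [4,6,5,7,0,0], [3,4,7,1,0,3], [7,5,5,4,3], [7,1,7,2,3], [1,2,3,1,3], [2,1,7,2,3,3], [1,7,7,5,6,3], [6,1,2,7,7], [5,7,5,6,1,3], [7,2,3,3,3], [0,5,2,4,3,0], [0,2,7,7,4], [1,2,2,7,7,0], [7,1,7,5,3], [6,5,6,3,1,3], [3,3,1,2,3], [0,5,7,4,6,3], [5,6,5,2,3,3], [1,2,2,7,7], [3,5,2,2,7], [0,7,5,7,0], [2,4,5,6,3,0], [6,4,3,3], [3,0,3,3], [2,3,4,5,2,7], [0,1,0,7,2,3], [6,4,3,3,3], [6,5,7,0,3,3], [5,2,7,5,7], [4,4,4,7,0,3], [0,2,7,2,5,0], [7,4,7,0], [1,6,4,7,2,0], [3,6,7,4,7], [1,2,4,1,3,0], [3,3,6,3,2,0], [5,5,2,7,6,3], [6,3,1,1,3]]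

/-- Part of the paths. -/
def pathsD14 : List (List ℕ) := [
[4,2,5,0,7,7,0], [5,7,1,6,7], [5,5,0,3,3], [1,4,7,2,7], [3,3,2,7,7], [3,6,3,3,0], [6,0,5,7,7,7], [1,7,1,7,2,3], [3,3,5,7,7], [5,2,1,3,1,3], [7,5,6,1,3], [0,1,3,4,1,3], [1,7,2,3,3,3], [4,6,0,1,3,0], [7,0,3,3,0], [6,4,6,3,0], [0,5,7,6,0], [2,7,6,6,7,4], [5,6,3,6,1,3], [6,3,1,2,3], [2,3,5,3,3,3], [7,1,2,2,3], [6,3,6,6,5,3], [7,1,2,7,2,3], [3,6,3,3,2,3], [0,3,0,7,2,0], [2,4,1,3,0], [7,0,3], [3,6,6,3,3], [7,7,1,6,7], [7,0,3,3], [2,7,6,6,3], [2,3,5,5,3], [2,3,2,3,2,3], [1,4,3,3,3], [0,6,3,6,4], [5,0,3,3,6,4], [0,0,3,2,3,0], [2,7,5,3,4], [3,2,5,3,3], [1,3,5,5,7], [2,5,7,6,3], [3,5,0,1,3,3], [2,1,7,7,7], [4,7,2,7], [6,6,3,2,7], [0,2,2,3,6,0], [3,1,1,7,7,0],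 [5,2,1,3,3], [1,3,3,5,2,3], [3,6,7,1,3], [5,7,6,1,1,3], [1,6,1,3,1,3], [6,7,1,2,1,3], [1,3,6,1,3,3], [3,4,3,5,7,0], [1,0,3,1,7,0], [4,3,2,3,0], [6,6,4,1,3,0], [1,0,6,7,0,0], [2,2,7,0,3], [5,3,6,1,7], [6,6,3,5,5,3], [6,1,7,5,7], [7,5,5,0,3,3], [6,3,6,7], [1,0,7,0,2,3], [5,7,1,3,6,3], [4,3,6,1,3], [4,7,7,7], [3,6,6,1,3], [5,5,3,5,5,3], [3,4,3,4,7], [1,2,1,7,2,3], [3,3,1,1,7], [4,7,7,7,5,0], [5,4,5,7,0,0], [1,6,7,4,3], [3,5,5,7], [3,5,6,0,1,3], [5,4,7,2,7], [3,1,0,3,3], [7,7,1,3,3], [2,3,1,2,3], [6,7,1,0,7,0], [5,4,7,7,5,0], [3,6,3,0,2,3], [5,3,3,4,3,3], [3,5,3,2,7], [7,2,1,0,3,3], [3,2,1,7], [2,7,1,1,1,3], [1,1,3,6,3], [2,3,1,1,3], [7,1,3,5,3,3], [1,2,7,7,0], [5,6,3,3], [4,5,3,4,1,7], [5,4,1,3,6,0,3], [1,2,7,7]]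

/-- Part of the paths. -/
def pathsD15 : List (List ℕ) := [
[5,6,3,3,3], [5,4,7,2,3], [4,7,7,4,7,0], [0,6,0,3,0,0,0], [2,1,2,7,7,0], [5,5,5,3,3], [3,2,2,0,7,0], [7,2,3,0,7,0], [7,2,3,6,3], [2,1,2,7,7], [0,1,7,4,5,3], [7,1,0,7,0,3], [5,7,1,7,7,0], [0,0,0,7,7,0], [7,5,3,5,5,3], [0,0,0,7,7], [3,3,3,0,1,3], [5,7,1,7,7], [3,0,2,7,0,3], [4,1,2,7,4,3], [0,1,3,4,2,0], [0,3,2,2,0,3], [5,4,7,7,7,0], [0,1,0,7,2,0], [0,7,5,4,3], [7,1,3,1,2,0], [6,1,3,3], [3,0,6,3,3], [6,1,3,3,3], [3,1,1,0,7,0], [1,0,0,7,7,7], [6,1,7,0,1,3], [2,1,1,7,7], [4,1,3,1,4], [3,2,4,6,7], [6,1,3,3,1,3], [1,3,1,1,7], [3,5,7,0,1,3], [1,3,6,3], [1,3,1,0,1,3], [1,7,5,5,2,3], [1,7,5,6,5,3], [5,4,6,3,0], [0,5,3,0,3,0], [0,0,7,0,0,0], [0,1,3,2,4], [2,5,0,1,3,0],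 [0,7,1,0,3,0], [1,3,2,0,3], [6,7,2,2,3,3], [7,1,4,3,1,3], [7,5,3,3], [3,4,7,4,5,3], [6,7,2,2,3], [7,1,1,7,2,3], [3,3,0,3,3,4], [5,5,0,7,7,4], [0,3,3,2,3,0], [3,1,0,0,7], [3,1,1,4,7], [4,3,0,3], [0,3,1,7,0], [7,0,2,5,7], [2,7,2,3], [2,0,6,3,3], [1,3,2,1,3], [6,4,4,7,6,3], [1,3,0,7,0], [4,6,3,1,3], [7,2,4,3,4], [1,4,4,6,3,0], [0,6,1,7,0,0], [1,0,1,3,0,0], [5,2,7,7,0], [3,6,3,5,7], [3,5,5,5,3], [3,0,3,3,2,0], [1,3,3,2,1,3], [6,1,1,3,3], [3,2,2,3,2,3], [5,2,7,7], [0,0,3,4,2,0], [2,3,0,2,5,3], [3,6,0,3], [3,5,5,0,3,3], [6,5,7,2,7], [5,7,2,3], [4,4,5,3,3], [0,7,4,5,7,0], [5,0,6,3,3], [5,5,7,5,7], [0,1,2,7,0,0], [0,2,0,2,3,3], [7,7,7,2,7], [6,1,3,1,3], [3,6,1,3,3], [1,2,3,3], [3,3,5,2,3], [1,2,3,3,3], [6,4,2,7,0,3]]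

/-- Part of the paths. -/
def pathsD16 : List (List ℕ) := [
[0,6,7,6,0], [0,0,3,2,4], [5,7,7,0], [2,2,0,7,0,3], [5,7,7,5,2,7], [7,6,4,3,4], [6,7,1,3,1,3], [7,6,0,3,3,4], [5,7,7], [5,2,5,3,1,3], [4,6,3,6,0], [4,4,3,0], [1,6,4,7,0,0], [3,4,5,4,3], [7,6,0,7,7,4], [0,2,0,3,0], [5,3,4,7,0,0], [0,5,5,0,3,0], [6,0,3,1,3], [6,1,6,7,2,3], [5,4,3,1,3,3], [2,7,4,7,5,3], [2,3,2,5,3], [2,2,7,2,7], [3,0,7,1,0,3], [3,5,7,1,2,3], [5,4,2,3,0], [0,6,0,3,0], [5,5,5,7,4,3], [6,5,3,6,3], [2,7,7,1,3], [7,6,3,6,6,3], [5,3,1,1,3], [7,1,1,0,1,3], [3,3,1,3,3], [5,7,1,1,1,3], [5,6,7,7,0], [2,2,3,3], [6,3,3,5,7], [7,2,2,5,7], [2,2,3,3,3], [5,5,3,1,3], [5,6,7,7], [2,2,7,0,1,3], [4,3,3,6,7,0], [1,7,6,3,2,0], [2,0,6,7,7], [3,5,6,5,7],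 [1,6,0,3,3], [7,2,1,0,7,0], [0,6,3,4,1,3], [6,7,7,1,6,3], [1,7,6,3], [0,5,3,0,0,0], [4,7,7,1,0,0], [1,4,6,3,5,0], [7,4,6,7], [5,7,2,7,6,3], [7,2,2,3,3,3], [3,0,6,3,3,0,0], [7,2,7,0,7,0], [4,1,7,0,2,3], [3,3,5,6,5,7], [2,4,3,1,3], [6,0,2,3,0], [2,7,5,7,7,0], [3,3,4,3,1,3], [1,3,5,2,7], [6,3,0,7,0], [5,6,3,0,3,3], [6,3,2,1,3], [3,3,5,2,7], [2,7,6,7,1,3], [3,6,4,5,3], [7,5,4,2,7], [2,2,1,7,7,0], [0,3,3,4,7], [1,1,1,3,3], [6,5,0,7,0,3], [6,1,6,3,1,3], [2,2,1,7,7], [2,1,4,7,2,3], [5,3,2,0,1,3], [6,7,5,7,4], [7,2,3,3,6,3], [7,6,3,1,3], [1,1,7,2,2,3], [6,7,5,7], [6,1,7,2,3], [4,1,7,7], [4,1,7,7,0], [6,4,7,6,7,0], [6,7,4,3], [1,7,7,1,3], [5,2,3,1,2,3], [6,3,5,6,3], [1,3,6,3,1,3], [6,7,4,3,4], [5,7,7,1,3,3], [3,0,3,3,3]]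

/-- Part of the paths. -/
def pathsD17 : List (List ℕ) := [
[5,2,1,7,0,3], [3,6,3,2,7], [3,2,1,2,3], [2,3,5,5,2,3], [1,6,6,7,2,3], [3,1,7,6,7], [7,6,5,0,7,0], [4,3,4,7], [0,6,4,3,6,0], [5,0,6,7,0,0], [7,0,2,2,7], [7,5,7,5,3], [6,6,5,3,3], [2,3,1,3], [7,7,5,6,3], [1,1,1,7,7], [3,3,5,5,3], [3,1,2,2,7], [0,0,7,4,6,0], [4,3,1,0,7,4], [2,0,2,3,0], [5,0,7,5,7,0], [4,4,2,2,3,0], [7,1,7,7,0], [5,2,3,3,6,7], [6,3,0,3,3,4], [6,6,4,3,1,3], [7,1,7,7], [0,2,4,7,0,3], [4,1,2,3,2,7], [4,7,0,1,2,3], [4,6,4,3,0], [0,2,4,3,0], [1,1,0,2,3,0], [7,6,5,7,0], [3,0,7,7,1,3], [4,3,4,1,1,7], [4,7,4,5,3], [3,3,2,3,6,3], [7,6,5,7], [1,3,3,1,1,3], [2,5,7,2,7], [3,0,5,5,3,0], [6,7,7,7,5,0], [3,5,3,0,1,3], [6,3,6,1,3], [5,0,6,7,7], [7,7,2,4,3,4],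 [5,0,6,7,7,0], [3,5,5,3,2,3], [6,7,7,7], [0,3,3,6,4], [2,4,1,2,3,0], [2,7,1,3,4], [0,0,7,4,6,3], [6,0,7,0,3], [4,7,4,2,7,0], [6,5,2,3,3], [1,3,3,1,2,3], [2,2,5,7,7], [7,5,7,2,3,3], [5,6,4,2,3,0], [5,5,0,2,3,0], [0,6,7,0,0], [7,7,5,3,0], [7,2,3,1,1,3], [1,6,7,5,7], [3,2,1,0,3,3], [7,7,7,6,7], [1,7,6,3,1,3], [1,4,1,7,7], [1,4,1,7,7,0], [5,2,7,0,3], [2,1,7,6,5,7], [3,1,2,1,7], [5,2,7,0,3,3], [5,0,3,5,3,3], [7,1,7,1,7], [1,7,5,3,3], [3,6,7,4,3,4], [0,0,3,0,3,0], [6,0,7,7,4], [1,7,4,6,7], [4,2,0,3,3], [7,1,1,0,3,3], [7,2,7,6,3], [7,1,7,7,7], [5,7,2,5,7], [2,3,3,2,2,3], [7,7,6,1,2,3], [0,5,6,3,5,0], [0,2,3,1,2,0], [6,3,6,0,3], [3,5,3,5,6,3], [5,6,3,6,7], [4,3,4,5,6,3], [6,5,7,2,3], [1,7,6,7,1,3], [4,7,7,4,7,4],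 [0,7,0,2,3]]

/-- Part of the paths. -/
def pathsD18 : List (List ℕ) := [
[7,4,7,7,2,0], [1,4,4,3,0], [5,0,7,7,4], [3,4,7,0,0], [2,7,2,7,7,0], [6,4,1,7,7], [6,6,1,7,2,3], [4,3,1,3,3], [6,6,7,5,7], [7,7,6,0,1,3], [4,5,3,2,7], [4,3,3,4,3,3], [4,6,7,2,3], [6,3,3,2,2,3], [4,6,0,6,3,3], [3,3,3,1,7], [0,2,3,4,7], [7,4,7,1,3], [3,3,6,7], [5,4,3,1,3], [0,7,7,4], [0,0,0,3,0], [6,6,7,7,0], [3,5,7,6,3], [5,3,0,7,0,3], [1,2,1,3,3], [7,5,3,1,1,3], [6,6,7,7], [6,5,3,1,3], [5,7,4,7,2,3], [7,7,0,1,7], [7,2,7,6,6,3], [3,0,7,0,7], [7,2,5,7], [4,7,4,2,3,3], [1,7,2,7,6,3], [3,6,7,6,5,3], [7,5,3,6,1,3], [7,7,5,3,0,0], [7,7,1,1,1,3], [7,0,3,3,3], [7,7,2,0,1,3], [6,5,3,0,3,3], [7,1,1,7,6,3], [1,7,0,7,0,3], [3,6,5,2,7], [2,0,7,7,7,0],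 [7,2,4,2,3,0], [0,5,0,3,0], [6,1,7,7,0], [7,2,3,3], [1,1,3,5,3,3], [2,5,0,7,0,3], [3,6,0,7,0,3], [3,6,1,3,0,7,0], [7,7,1,7], [6,1,7,7], [4,7,7,5,0], [6,3,3,5,4], [6,3,3], [5,2,1,7,7], [6,3,3,3], [4,7,2,3], [2,3,3,5,7], [7,0,1,7,1,3], [4,1,3,6,0,3], [0,0,3,6,0], [4,3,4,7,7,0], [2,1,3,3], [5,6,6,7,7], [2,1,7,0,1,3], [1,3,6,7,1,3], [7,6,1,1,3], [5,6,5,3,1,3], [3,3,4,7,2,7], [3,4,5,7,0], [0,5,6,0,3,0], [2,0,3,1,3], [7,0,2,7,1,3], [3,1,7,5,7], [6,7,6,0,1,3], [6,7,2,7], [1,1,7,5,7], [6,5,3,0,7,0], [7,0,7,0,3], [0,0,3,6,4], [6,5,4,5,3,0], [3,3,4,6,7], [2,1,3,3,1,3], [6,3,3,3,2,1,3], [5,3,1,2,3], [1,6,1,0,3,3], [7,6,1,3,3,3], [3,6,4,3,1,3], [7,2,1,3,3], [1,6,4,3,3], [1,3,0,3,3], [2,1,7,2,3], [2,5,3,6,7], [1,6,4,3,3,3]]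

/-- Part of the paths. -/
def pathsD19 : List (List ℕ) := [
[5,4,7,7,7], [2,7,5,7], [6,3,2,7,1,3], [1,7,4,7,0], [3,6,6,4,3], [3,3,5,0,7,0], [4,3,6,3,3,3], [7,7,4,3,1,3], [2,4,2,7,0,3], [6,7,2,5,2,3], [2,1,3,1,3], [2,3,5,3,3], [1,7,0,3], [0,7,0,7,1,3], [5,3,6,6,5,7], [2,3,2,1,3], [2,3,0,7,0], [5,3,2,7,1,3], [5,2,2,7,5,7], [1,1,4,3,3,3], [1,4,1,3,1,4], [3,0,2,5,3], [4,7,7,7,0], [5,2,2,7,7,0], [2,7,7,5,7], [7,2,7,5,3], [5,2,2,7,7], [2,7,2,5,2,3], [6,1,2,3,3], [3,2,0,1,3], [3,5,7,2,3,3], [2,0,7,7,4], [1,7,6,5,7,0], [1,7,6,5,7], [2,5,3,0,3,3], [5,0,2,7,7], [5,0,2,7,7,0], [2,1,2,7,2,3], [5,3,5,7,1,3], [5,3,5,5,2,3], [2,2,7,7,0], [4,1,6,1,3,3], [4,7,7,5,7], [1,3,2,0,1,3], [5,7,1,7,5,3], [6,6,5,3,1,3], [3,3,1,0,1,3],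 [2,2,7,7], [6,0,6,7,0,0], [7,1,3,3,0], [3,2,3,1,2,3], [2,3,3,6,7], [3,3,3,2,7], [2,5,4,3,1,3], [5,0,2,3,1,3], [3,3,2,2,3], [1,7,1,7,7], [4,3,5,4,7], [0,5,0,7,7], [7,7,2,2,1,3], [7,4,7,2,7], [4,4,3,5,3,3], [1,4,3,1,3], [6,3,3,3,1,7], [6,3,3,6,7], [0,7,1,7,0], [5,6,4,3,3], [1,2,7,2,3], [1,1,3,0,7,0], [7,2,0,7,0,3], [5,3,0,3,3], [1,1,3,2,1,3], [7,5,3,0,3,3], [3,2,1,3,6,3], [6,7,7,0], [1,2,2,3,3], [3,6,1,3,1,3], [5,3,1,3], [3,2,4,3,1,3], [6,7,7], [3,4,7,0,6,3], [3,6,1,6,1,3], [2,7,7,0], [7,2,0,3,3,3], [3,3,2,3,1,3], [5,5,6,3,3], [7,6,4,3,1,3], [7,7,7,5,2,3], [2,7,7], [2,2,5,3,1,3], [7,7,0], [3,5,2,1,7], [7,7], [7,7,5,2,7], [1,7,6,4,3,4], [3,1,2,0,1,3], [2,5,3,1,3], [7,6,7,5,7], [7,2,4,1,3], [0,5,7,5,0,3]]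

/-- Part of the paths. -/
def pathsD20 : List (List ℕ) := [
[7,5,7,7,0], [3,6,6,7,7], [5,0,7,0,2,3], [6,3,3,5,2,7], [7,5,7,7], [1,3,2,1,0,3,3], [4,6,4,7,7,0], [7,6,7,1,3], [6,7,4,6,7], [4,1,6,7,7], [2,0,2,3,1,3], [3,2,7,5,7], [2,3,0,3,3,4], [7,2,5,7,1,3], [4,3,1,3], [4,1,6,7,7,0], [2,1,7,7,0], [1,4,7,2,3], [1,6,3,3], [4,4,7,5,7], [2,1,7,7], [2,2,7,7,1,7], [1,6,3,3,3], [3,3,1,4,3,4], [7,5,2,0], [2,0,7,2,0], [7,2,0], [1,4,3,0,0], [6,5,2,3,0], [4,5,2,3,0], [6,0,7,0,0], [1,7,2,5,0], [0,7,1,3,6,0], [3,0,6,6,4,3], [5,7,0,2,7], [7,6,7,0,2,3], [0,1,0,3,3], [7,4,6,1,3], [7,4,4,3,2,5,0], [7,4,4,3,4], [6,3,4,2,0], [2,1,3,0,0], [3,5,5,3,0], [6,3,1,7,0,0], [6,5,7,2,0], [7,7,7,7,0], [7,1,2,0], [1,7,2,0], [5,5,2,3,0], [7,5,0],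 [4,1,7,0,0], [4,5,5,3,0], [6,6,7,5,2,0], [5,3,2,4], [2,5,3,0], [1,6,3,0], [5,7,5,0], [3,2,7,7,4], [3,2,3,3,0], [5,5,3,6,4], [0,7,5,3,4], [2,2,7,0,6,3], [0,1,3,6,1,3], [1,7,7,4,7,0,0], [0,1,7,7,7], [7,0,3,0,5,7], [0,5,7,6,3], [0,2,2,3,2,7], [2,3,4,5,4], [5,5,6,7,0,0], [4,3,6,7,2,3], [0,0,0,3,1,3], [2,4,6,1,3,3], [1,0,6,7,2,3], [4,7,5,5,7], [4,5,5,7,7], [4,3,2,7,1,7], [4,7,5,5,7,0], [4,6,7,2,0], [5,5,7,6,4], [2,7,5,2,0], [2,7,1,2,0], [5,7,2,0], [3,0,7,5,0], [3,1,4,3], [3,3,1,4,7], [1,0,7,4,3], [7,0,0,0,0,3], [4,1,4,3,6,3], [7,1,4,7,0], [0,7,5,2,1,3], [7,7,4,7,7,0], [2,5,7,0,2,3], [7,6,6,3,0], [4,2,3,0,0], [7,2,2,5,3,0], [2,7,1,4], [1,4,1,7,2,3], [4,6,0,0,3,3], [1,0,1,6,3,3]]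

/-- Part of the paths. -/
def pathsD21 : List (List ℕ) := [
[4,7,0,2,7], [7,4,4,7,7,0], [3,0,1,7,0,3], [4,4,3,6,7], [1,4,7,5,7,4], [7,6,1,3,0], [3,6,1,7,0,0], [6,3,5,3,0], [7,6,5,3,4], [6,5,3,0,0,0], [1,7,2,1,4], [1,7,7,1,0,0], [5,7,0,2,4], [6,3,4,5,4], [4,2,3,6,3], [0,0,2,7,0,3], [3,0,5,7,2,3], [5,7,5,0,2,3], [7,0,6,3,1,3], [0,7,2,2,3], [7,0,6,3], [3,4,5,3], [2,7,2,0], [6,1,3,0,0], [4,7,0,0,0], [5,7,1,2,0], [6,1,0,3,0], [3,4,2,3,4], [3,4,2,3,1,3], [0,0,3,3], [3,0,7,4,5,3], [7,7,4,1,7,0], [0,2,7,6,3], [0,0,3,3,3], [5,5,0,3,6,7], [5,3,3,0,3], [1,7,6,4], [2,2,3,0,0], [0,7,1,3,4], [1,0,6,7,0,3], [3,4,1,7,2,3], [7,5,4,6,0,7], [7,7,4,7,0,3], [0,2,5,7,7], [0,7,1,3,1,3], [1,0,3,5,5,3], [2,7,5,0], [4,4,3,5,0], [5,3,2,1,4],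 [2,2,0,7,2,0], [5,3,4,6,0], [4,3,0,0], [5,5,7,2,4], [3,5,7,4], [1,0,7,7], [1,0,7,7,0], [0,1,3,1,1,3], [3,4,7,6,7], [4,3,5,0,2,3], [3,4,2,2,5,3], [7,5,4,7,0], [7,2,0,3,2,7], [1,7,7,7,0], [1,0,2,3,2,7], [3,0,0,7,2,3], [0,5,3,6,3], [2,0,7,6,6,3], [7,2,5,2,4,7,0], [3,1,0,1,0,7,0], [2,0,3,5,5,3], [2,0,6,7,0,3], [1,2,3,0], [4,3,2,5,0], [4,4,7,6,0], [5,0,7,6,0], [7,0,7,5,7], [7,0,3,0,3,3], [4,3,6,3], [4,7,5,6,5,3], [4,3,1,1,7], [4,3,1,0,1,3], [1,3,4,7], [5,5,7,0,2,3], [3,0,7,7,5,0], [0,3,3,5,7], [0,6,6,3,3], [7,5,6,6,4,7], [0,7,6,1,1,7], [0,6,6,3,3,3], [0,6,4,7,2,3], [3,4,7,2,2,7], [7,5,7,2,0], [5,2,7,7,4], [5,5,7,0,0], [7,6,3,6,4], [5,3,0,2,0,3], [6,3,4,6,6,3], [0,7,1,1,7], [6,5,7,0,5,3], [1,0,6,6,3,3]]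

/-- Part of the paths. -/
def pathsD22 : List (List ℕ) := [
[0,3,3,3,1,3], [4,3,2,1,3,3], [0,7,2,0,1,3], [5,7,0,0,0], [1,7,1,2,0], [2,5,7,2,4], [2,5,3,0,0], [5,2,3,6,0], [2,1,0,7,0,0], [7,1,6,3,0], [7,0,0], [5,5,3,5,0], [6,0,7,6,0], [6,3,3,0,3], [2,1,2,3,0,0], [1,7,6,7,2,0], [1,6,3,0,3], [6,0,3,0,3], [1,0,1,3,2,7], [7,4,2,4,5,7,0], [7,0,0,7,6,3], [1,3,4,2,3,3], [3,4,6,5,2,7], [0,3,1,3,3,3], [0,6,3,2,7], [5,7,7,5,4,7], [7,1,3,0,3], [7,6,3,0], [5,3,0,0], [1,3,1,4,3], [5,7,2,4], [6,5,6,3,0], [6,5,3,0,0], [5,6,3,0], [5,6,7,1,0,0], [3,2,4,2,1,3], [0,3,1,1,3], [5,3,4,4,4,3], [5,3,5,0,2,3], [1,0,7,2,2,3], [7,5,0,2,3], [1,7,0,6,3], [1,3,4,5,3], [7,4,3,0,0,0], [2,0,7,6,0], [0,3,0,1,7,0], [0,2,5,5,3,3], [0,3,1,3,6,3],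 [7,4,3,5,7], [0,0,6,5,3,3], [0,6,1,1,3,1,3], [3,4,2,0,7,0], [6,4,3,2,0,3], [2,3,4,6,0], [5,7,0,0], [6,3,4,6,0], [0,7,5,4,3,3,0], [2,4,3,0,5,3], [2,0,3,6,7], [0,5,5,3,3], [3,1,4,3,6,0,3], [7,6,3,4,7,0], [3,3,3,4,7], [7,2,4,5,4,3], [7,4,3,2,5,0], [7,2,5,0], [2,3,0,3,0,0], [0,6,1,7,4,3], [0,5,0,3,3], [0,2,0,1,3,3], [3,4,1,1,3], [4,1,4,3,0,7,0], [6,1,3,4,1,3], [0,7,1,6,7], [4,3,4,5,4,7,0], [7,1,7,2,0], [6,3,0], [2,3,3,0,2,3], [4,7,6,7,6,3], [0,6,3,0,3,3], [0,3,4,5,2,7], [7,0,2,1,7], [1,7,4,3,5,7], [5,0,5,5,3,3], [3,2,1,4,4,7], [6,5,3,6,0], [5,5,7,1,4], [1,2,3,2,4], [0,7,6,5,2,7,0], [2,0,3,0,3,3], [0,0,7,7,1,3], [4,7,6,6,3], [4,6,7,0,3,3], [2,0,6,4,3,3], [4,3,5,5,3], [4,6,7,0,3], [5,3,5,7,0,0], [7,2,5,3,4], [0,7,2,7,2,3,0],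 [0,3,1,2,3]]

/-- Part of the paths. -/
def pathsD23 : List (List ℕ) := [
[5,7,4,6,1,3], [0,7,4,3,4,3], [5,5,7,0,2,7], [5,0,1,0,3,3], [1,0,6,3,1,3], [7,6,4,4,3,0], [5,7,2,5,0], [2,7,0,2,4], [6,6,3,2,3,0], [3,3,5,0,3], [2,5,7,7,4], [7,7,7,4], [2,3,3,5,0], [5,4,3,5,0], [4,2,1,7,0,0], [1,4,6,7,6,3], [0,2,2,1,3,3], [6,4,4,7,0,3], [3,4,6,6,3], [4,6,4,7,6,3], [4,7,0,6,1,7], [6,0,3,0,3,3], [5,7,0,5,3], [2,7,6,3,0], [2,0,3,0,0,0], [2,0,3,1,4], [7,2,3,0,0], [0,3,2,3,4,3], [1,3,4,6,4,3], [0,7,7,7,5,3], [6,4,6,3,3], [6,4,4,7,2,3], [0,1,3,2,7], [3,4,2,3,3], [5,0,6,3,2,7], [3,1,3,0,0], [1,6,4,3,0], [6,6,7,0,0], [3,6,0,7,0,0], [7,6,7,2,0], [5,2,3,5,0], [0,6,5,4,3,3], [4,5,3,3,0,2,3], [3,4,3,6,3], [0,7,6,0,1,3], [0,7,2,1,7],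 [3,6,3,2,4,7], [2,3,4,6,4,3], [0,7,2,7], [3,4,7,5,3,0], [7,5,0,7,7,0], [1,0,1,2,3,3], [7,4,1,7,1,7], [5,4,3,5,5,3], [5,4,6,7,0,3], [0,7,5,5,6,3], [0,3,3,3,2,1,3], [3,2,1,0,7], [5,0,5,3,0], [0,7,7,7,5,0], [0,3,6,1,3], [0,7,7,7], [0,5,5,7,6,3], [6,4,4,7,7], [0,7,7,5,2,3], [6,5,3,4,7], [4,7,5,3,1,3,0], [4,3,4,2,0], [0,1,2,7,4,3], [1,3,5,4,7], [7,5,4,5,7,4], [1,4,3,5,3,3], [3,1,4,7,7,0], [1,4,1,3,1,3], [7,4,6,4,7], [1,3,5,4,7,0], [7,2,3,6,0], [3,3,3,3,4], [3,5,0,5,3,4], [2,3,0,7,7], [2,0,3,4,2,3,0], [0,3,3,3,6,3], [0,5,6,5,7,7], [1,0,3,6,3], [7,2,2,4,5,3], [7,7,4,7,4,3], [2,7,1,0,0], [6,3,0,3], [1,1,3,6,4], [6,0,3,6,7], [0,2,5,3,3,3], [2,0,3,1,1,3], [3,0,7,1,7], [0,2,5,3,3], [0,7,5,3,5,7], [1,0,3,0,7,0], [0,6,3,1,3],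 [7,1,2,3,4], [4,7,7,2,4], [5,2,5,3,0]]

/-- Part of the paths. -/
def pathsD24 : List (List ℕ) := [
[7,7,4,3], [1,2,3,0,0,0], [3,0,5,5,5,3], [4,5,7,5,3,3], [0,0,2,2,3,3], [0,3,4,7,2,7], [0,7,6,0,3,3], [4,2,4,3,3,3], [6,4,7,5,3,2,0], [4,3,2,0,3], [2,3,2,4], [3,3,3,3,0], [0,6,6,7,4,3], [0,3,5,5,5,7], [2,0,0,7,4,3], [1,0,3,5,2,7], [0,1,1,7,6,3], [6,7,4,2,3,3], [3,0,7,4,6,3,0], [5,7,4,1,7], [3,5,4,3,2,3], [7,0,1,2,3,3], [0,6,4,3,1,3], [2,2,7,4,1,7], [0,0,2,3,1,3], [1,4,7,4,3,4], [1,4,7,4,3], [7,0,3,2,4,3,0], [5,7,5,7,0], [2,2,3,0], [1,6,3,1,2,0], [7,7,7,2,4], [4,3,6,3,0], [4,7,7,0,3,3], [3,0,6,7,1,3], [0,2,0,3,3], [6,5,0,7,4,3], [0,2,0,3,3,3], [4,3,1,1,1,7], [6,3,2,0,5,7], [2,7,4,5,2,3], [3,3,5,0,7], [1,4,3,0],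 [0,3,3,4,3,3], [0,7,5,7,2,3], [7,1,4,7,4], [2,3,3,4,2,3,0], [0,3,1,3,3], [2,2,4,7,0,3], [7,7,4,4,3,3], [0,5,3,2,7], [0,5,0,3,1,3], [0,6,7,2,3], [3,5,4,1,3], [7,0,5,2,1,3], [0,7,2,1,1,3], [4,2,7,1,0,7,0], [0,7,7,7,1,3], [0,7,2,3,1,3], [4,1,3,0,3], [3,1,4,3,0,3], [6,5,0,7,7], [0,0,6,3,3], [6,5,0,7,7,0], [0,0,6,3,3,3], [0,7,2,3], [3,4,1,7], [4,4,4,3,3], [2,3,6,4], [2,5,4,3,0], [4,3,0,2,7,0], [7,7,4,7,0,0], [1,4,3,0,5,3], [0,3,2,3,1,3], [0,3,2,7,1,3], [1,0,3,6,7], [3,0,7,7,7], [4,3,3,0,0,3], [3,5,4,1,7], [4,1,3,1,3,3], [6,3,6,0,2,7,0], [3,3,4,7,7], [5,6,0,3,4,7], [4,3,2,7], [3,4,1,2,2,7], [2,7,0,2,3], [1,1,3,1,4], [4,7,6,0,2,3], [6,3,3,0,2,3], [0,1,6,1,3,3], [4,7,1,4,7], [7,6,3,4,2,3], [3,2,1,4,7,0], [0,7,2,5,2,3],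 [3,0,6,0,2,3], [2,1,7,0,0,0], [5,0,5,0,3,3], [0,0,2,7,7,0], [7,5,3,4,1,3], [0,3,5,7,1,3]]

/-- Part of the paths. -/
def pathsD25 : List (List ℕ) := [
[5,3,4,1,1,3], [0,3,5,5,2,3], [1,2,3,0,5,3], [0,0,2,7,7], [1,3,0,0], [7,2,7,0,0], [4,7,4,7,2,0], [6,1,2,3,0], [1,7,2,4], [2,2,7,2,0], [1,0,6,3,0], [5,7,7,7,4], [3,6,7,0,0], [7,6,4], [3,3,3,0], [4,7,1,0,0], [6,5,7,1,4], [0,0,3,4,5,3], [0,2,3,6,3], [0,6,0,1,3,3], [0,3,5,5,3,3], [3,0,7,1,7,4], [4,2,7,4,1,7], [3,3,5,4,7], [0,3,1,7,2,3], [3,0,3,4], [5,2,7,1,0,0], [4,5,7,6,4], [7,6,0], [2,2,4,3,0,0], [7,2,4,1,2,3], [2,2,4,3,6,3], [3,4,6,7,5,7], [0,3,6,3], [0,7,5,6,5,3], [0,3,1,1,7], [0,3,1,0,1,3], [1,0,3,4,7], [6,7,0,6,3], [0,2,1,0,3,3], [0,6,7,1,1,7], [6,4,2,3,6,3],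 [3,2,0,6,7,0], [6,0,7,2,2,3], [3,5,0,7,7], [6,3,4,5,3], [5,6,3,0,3], [1,4,3,5,0], [5,5,7,2,0], [1,1,3,0,3], [1,6,3,1,4], [5,3,0], [6,5,3,2,4], [6,1,6,3,0], [2,3,4,2,0], [7,1,6,7,4], [6,7,5,4,7,0], [3,2,4,7,7], [6,1,0,7,7,0], [6,1,0,7,7], [7,6,3,2,4,7], [1,7,6,4,1,3], [4,7,4,1,7], [3,0,5,3,4,3,0], [3,1,1,4,3], [2,0,7,0,0], [0,6,7,0,3], [6,0,5,3,6,3], [3,0,1,1,3,3], [7,0,2,0,1,3], [0,7,6,6,3], [3,3,5,4,2,3], [2,0,0,7,2,7], [0,3,5,5,3], [3,1,0,7], [1,2,3,6,0], [5,7,7,4,3], [5,0,7,0,0], [6,0,5,3,0,0], [3,6,1,4,4,7], [3,4,6,1,3,3], [7,2,3,4,2,3], [7,7,4,2,3,3], [7,0,1,1,7], [4,7,5,0,7,0], [4,7,7,1,6,3], [4,7,5,3,2,4], [4,3,3,2,4], [2,3,0,0,0], [5,2,7,2,4], [0,3,2,0,3], [5,2,3,0,2,0,3], [0,5,7,5,3,3], [7,4,3,0,6,3],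 [1,4,3,6,1,7], [1,7,0,5,3], [0,2,4,3,3,3], [4,7,0,5,6,7,0], [6,4,3,5,0], [3,6,4,7,0,0]]

/-- Part of the paths. -/
def pathsD26 : List (List ℕ) := [
[2,2,0,0,3,3], [3,4,7,1,6,3], [6,3,5,0,2,3], [5,4,3,2,0,3], [3,0,5,6,7,0], [4,7,0,5,3], [3,5,7,4,6,3,0], [1,3,0], [2,1,0,3,0], [4,3,0,3,3,0,0], [3,2,3,0,5,3], [4,7,4,2,1,3], [3,4,2,7,6,7], [3,4,2,7,5,7], [3,3,0,7,2,3], [0,3,2,7], [7,2,4,5,7,0], [5,4,6,7,2,0], [1,0,3,0,0], [2,2,7,0,0,0], [6,7,6,0,3], [6,6,3,5,0], [1,3,2,3,0,0], [5,2,3,2,4], [6,7,5,0,3], [3,6,0,6,7,0], [4,6,0,3,3], [1,7,4,5,6,3], [1,3,1,4,4,3], [4,7,6,3], [0,7,5,6,7], [4,6,0,3,3,3], [4,7,6,3,2,0], [2,4,6,7,2,0], [6,4,7,0,5,3], [2,0,0,3,3], [0,2,1,7,6,3], [6,3,6,4,7,0,0], [2,0,2,7,6,3], [3,4,5,6,7,7],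 [0,7,5,0,7,0], [0,7,7,1,6,3], [1,3,0,0,0], [1,0,3,0], [1,3,6,4], [2,1,3,0,3,0], [0,7,6,3,2,0], [5,7,4,3,6,7], [0,6,0,3,3], [3,4,2,7,7], [0,7,4,3,4,7], [0,7,6,3], [1,4,6,0,7,7], [0,6,0,3,3,3], [2,0,3,2,4], [7,6,0,3], [6,5,3,0,3], [6,5,3,0,3,0], [6,0,7,0,0,0], [7,6,7,0], [5,2,7,0,0], [1,0,3,6,0], [3,4,2,3,0], [4,3,0,7,7], [3,4,1,7,6,7], [3,4,1,6,7], [0,7,5,3,3,3], [0,6,7,6,3], [6,4,2,3,1,3], [3,4,1,3], [6,6,4,3,6,0], [6,4,7,7,4], [0,7,4,3], [5,7,1,4,7,0], [7,7,4,1,4,3], [0,3,5,6,3], [0,7,4,3,4], [2,4,5,7,7], [2,4,5,7,7,0], [3,4,4,3,3,3], [7,4,7,6,3], [0,1,1,3,3,3], [0,1,1,3,3], [4,5,3,6,1,3], [4,7,5,2,7], [2,7,1,4,2,3], [0,0,0,2,3,3], [4,7,5,2,7,0], [7,5,2,3,4], [4,5,3,5,0], [4,6,7,1,0,0], [7,7,7,1,0,0], [1,0,3,1,2,0],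 [3,6,5,7,0], [2,7,1,4,7,0], [6,0,2,3,6,3], [4,1,7,2,2,3], [0,6,6,7,2,3], [0,7,1,6,1,3], [2,3,3,1,4,7]]

/-- Part of the paths. -/
def pathsD27 : List (List ℕ) := [
[4,7,4,5,2,7], [5,0,3,4,7], [6,3,0,3,4], [6,1,3,0], [0,0,2,3,0], [6,0,3,2,7], [7,2,7,0,6,0,3], [7,7,0,6,1,7], [3,4,2,0,1,3], [3,0,5,6,3,3], [7,5,0,7,5,7], [2,0,7,1,3,4], [3,4,6,1,6,3], [5,2,1,7,0,0], [6,3,5,7,5,0], [0,6,1,7,0,3], [0,5,2,7,2,3], [1,7,6,0,0,3], [0,3,0,7,0], [5,0,6,3,1,3], [5,6,0,3,6,7], [5,3,0,7,1,7], [0,3,2,1,3], [6,1,3,6,0], [3,4,3,2,3,0], [1,4,2,3,1,3], [5,6,4,7,6,3], [6,0,2,3,3], [0,2,5,2,3,3], [0,6,5,7,7], [0,2,0,7,0,3], [3,4,5,2,3], [1,3,6,0], [3,5,7,5,0], [3,5,3,4], [6,3,5,0], [0,7,7,1,0,3], [6,3,1,0,0,0,3], [0,5,3,3,3], [3,3,6,4,7,7,0],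 [2,0,3,0,7,0], [0,5,3,3], [7,7,6,4,5,3], [0,5,7,0,1,3], [0,2,7,4,3], [7,7,0,3,6,3], [0,6,3,3,1,3], [7,4,2,5,2,3], [6,1,3,0,0,0,3], [7,4,1,6,3,2,0], [0,2,3,5,6,3], [0,2,7,4,3,4], [2,3,0,3,0], [2,1,3,5,0], [0,1,1,7,4,3], [3,3,4,3,2,3], [0,3,5,2,1,3], [4,7,5,3,3,3], [4,6,7,6,3], [6,5,4,5,3,3], [0,3,5,0,7,0], [4,3,3,0,7], [3,2,2,0,7], [3,4,6,3,3,4], [2,5,5,0,7,7], [3,4,1,1,1,7], [1,3,3,0,5,3], [0,3,5,2,7], [3,4,6,3,3], [3,2,4,7,4,3], [5,5,7,4,1,7], [1,1,0,7,0,0], [0,2,3,6,0,3], [2,7,6,0,0,3], [4,6,5,3,3], [7,5,0,5,2,7], [0,2,5,7,2,3], [4,3,3,2,1,3], [1,7,7,0,5,7], [0,5,7,2,7], [0,1,1,7,7,0], [6,3,3,4,7], [4,3,5,6,3], [4,7,4,3,4], [0,3,1,3,5,7], [1,7,4,1,2,3], [0,6,6,1,3,3], [4,7,4,3], [2,3,1,4], [1,0,3,5,3,0],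 [3,6,0,2,4,3], [1,7,0,0,0,7], [0,3,1,3,2,3], [0,1,2,0,3,3], [7,5,0,6,5,3], [0,7,7,2,3,3], [3,2,2,4,7,7], [7,7,4,5,6,7,0], [6,6,1,7,0,0], [7,5,0,3]]

/-- Part of the paths. -/
def pathsD28 : List (List ℕ) := [
[4,1,1,3,3,3], [4,1,1,3,3], [0,2,3,3,3], [2,0,6,5,7,7], [3,4,6,7,7], [0,2,3,3], [0,2,7,0,1,3], [3,4,1,6,3], [0,7,5,7,4], [2,4,6,0,3,3], [0,1,7,2,3], [0,1,0,6,3,3], [0,7,5,7], [3,0,1,1,7,4], [3,3,4,7,7,0], [0,5,3,6,7], [5,3,6,3,0], [3,5,2,3,2,0], [7,6,1,2,0], [5,5,7,6,0], [5,4,3,0,0], [1,3,2,5,0], [0,6,6,7,0,3], [4,3,0,5,3], [3,0,2,0,3,3], [0,6,3,5,5,3], [0,1,7,5,7], [2,0,6,3,1,3], [1,1,0,0,3,3], [0,3,6,7], [3,0,3,6,0], [7,1,1,7,0,0], [1,7,1,4,7], [1,7,6,0,2,3], [4,7,7,4,4,3], [3,0,1,7,0,7], [0,3,3,1,1,3],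 [7,4,3,1,3,0], [2,1,0,2,3,3], [0,5,7,6,5,7], [1,3,6,3,0], [2,0,3,0,3], [4,1,7,6,0], [1,3,3,2,4], [2,1,3,1,4], [2,5,0,3,0], [6,3,1,2,0], [0,6,7,5,3,4], [4,6,6,3,4,7], [0,1,2,3,6,3], [0,3,3,0,1,3], [0,6,5,7,6,3], [0,2,3,2,7], [0,5,3,3,1,3], [1,3,0,6,0,0,3], [7,4,1,1,7], [5,6,7,0,7,7], [7,4,1,1,1,7], [3,1,7,4,1,3], [6,4,7,0,3,3], [1,4,4,7,2,7], [6,4,7,0,3], [1,3,0,7,7,0,0], [1,3,1,2,0], [0,0,0,6,3,0], [1,7,1,0,0], [3,3,3,5,0], [0,1,3,3,0,7], [3,1,4,7,7], [7,7,2,4,7,0], [2,5,0,7,4,3], [7,1,4,6,3,0], [4,1,3,4,1,3], [7,1,4,6,3,4], [2,4,7,2,3,3], [1,3,3,5,0], [3,0,3,0,0,0], [3,4,3,3,4,3], [6,0,0,7,7,0], [4,6,6,7,2,3], [4,7,1,6,1,3], [6,0,0,7,7], [5,7,2,2,4,7,0], [0,1,1,3,1,3], [4,1,2,7,0,3], [6,6,7,1,0,0], [3,1,0,7,2,0],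 [6,5,3,5,0], [3,6,0,6,7], [4,4,5,5,3,3], [0,5,2,5,3,3], [7,6,3,4,7], [4,5,5,7,2,3], [0,7,1,7,0,7,0], [1,3,2,4,7,0,0], [4,5,3,6,0,3], [1,2,3,0,0], [5,7,7,2,4], [5,3,1,2,0], [2,2,7,0,0]]

/-- Part of the paths. -/
def pathsD29 : List (List ℕ) := [
[2,5,3,6,0], [3,4,6,4,3], [0,6,0,7,7,1,3], [5,0,1,3,2,7], [0,3,6,1,7], [3,0,6,7,4,3], [3,5,0,7,7,0], [2,1,3,4,1,3], [6,0,7,2,7], [2,3,0], [1,7,0,0,0], [7,2,1,4], [3,4,2,1,7,0], [1,6,7,0,2,7], [1,3,3,4,5,7], [0,1,7,7,1,7], [3,4,2,2,3,3], [3,0,1,6,3,3], [0,7,1,2,1,3], [6,4,7,1,4,7], [6,5,7,0,0], [5,3,2,5,3,0], [7,6,4,7,0,3], [6,0,3,1,2,3], [0,1,2,3,1,3], [4,7,5,3,6,7], [2,4,3,2,0,3], [5,5,0,3,2,7], [7,6,3,0,6,3], [4,7,5,3,2,0], [3,2,3,2,0], [5,6,3,1,4], [0,6,4,3,3],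 [0,3,0,3,3], [4,4,7,0,3,3], [4,7,0,2,1,3], [0,6,4,3,3,3], [6,4,6,7,0,3], [1,4,4,3,3,3], [4,4,7,0,3], [1,2,0,7,1,4], [1,3,3,0,3], [7,2,7,2,4], [2,5,0,7,7], [4,1,7,2,1,7], [4,3,0,7,0], [2,5,0,7,7,0], [0,5,7,1,6,7], [0,5,5,0,3,3], [4,3,2,1,3], [4,6,1,7,0,3], [0,3,6,3,3,0], [7,7,0,2,5,3], [2,5,3,4,7], [5,4,3,2,7], [5,2,7,0,2,3], [2,4,4,7,7], [1,0,3,4,1,3], [2,4,4,7,7,0], [0,7,0,3,3,0], [2,3,0,3], [3,4,3,6,3,3,0], [6,4,7,6,0,0,3], [0,6,3,1,2,3], [1,7,1,4,7,0,3], [0,7,1,2,2,3], [6,7,4,1,7], [3,1,3,4,1,3], [7,2,2,4,1,3], [6,4,3,0,0,0], [4,3,1,2,0], [7,1,6,3,2,0], [3,2,3,0], [0,2,2,7,0,3], [3,4,6,5,3], [3,4,2,2,7], [7,4,2,0,3], [6,1,3,4,1,7], [0,6,3,6,7], [7,1,7,4,7], [6,4,6,4,3,3], [5,3,0,6,0], [0,1,6,7,4,3], [0,3,5,5,7],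 [7,5,4,1,3,0], [5,0,7,2,7], [0,3,1,0,3,3], [7,6,4,1,7], [0,2,3,1,2,3], [6,0,7,4,5,3], [6,1,7,4,5,3], [0,3,5,3,2,7], [2,2,4,3,2,7], [0,3,2,1,7], [4,6,5,7,7], [4,2,0,7,0,3], [0,2,3,1,1,3], [4,6,5,7,7,0], [0,1,2,7,7,0], [0,5,6,3,3]]

/-- Part of the paths. -/
def pathsD30 : List (List ℕ) := [
[5,3,4,1,7], [4,7,4,7,5,3], [4,3,2,5,3], [0,5,6,3,3,3], [5,0,7,2,3], [7,7,4,7,0], [3,0,5,6,0,3,0], [0,5,5,5,3,3], [7,4,2,7,2,0], [2,4,4,7,2,3], [0,7,2,3,6,3], [7,4,1,1,3], [3,4,2,1,1,3], [2,4,6,3,3], [1,0,3,4,2,0], [6,6,3,6,0], [1,4,3,6,0], [5,7,6,0,2,3], [0,6,1,3,3], [5,7,1,4,7], [0,6,1,3,3,3], [0,3,1,1,0,7,0], [3,0,0,7,7,0], [1,1,3,0,5,3], [1,2,0,2,3,3], [1,3,1,4], [5,0,6,3,0], [1,0,3,2,4], [1,6,4,3,6,0], [0,1,3,2,0,3],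 [3,4,3,5,2,7], [3,4,7,7,1,7], [0,7,5,3,3], [3,0,0,2,7,0,3], [0,6,7,2,2,3], [0,7,1,1,7,2,3], [3,4,6,3,3,3], [1,6,7,2,4], [6,3,2,3,0], [3,0,3], [1,7,6,0,3,0], [3,1,7,0,7], [6,7,7,7,0], [0,5,2,7,7,0], [4,7,5,7,6,3], [6,3,5,4,7], [7,0,0,7,0,7], [4,7,6,3,2,7], [6,3,5,4,7,0], [2,3,0,5,3], [0,5,2,7,7], [0,3,6,0,3], [4,5,3,3,3], [1,6,7,4,6,3], [0,5,7,2,3], [4,5,3,3], [0,0,7,4,5,7,0], [4,5,7,0,1,3], [4,7,7,1,0,3], [1,0,2,7,0,0], [4,4,3,3,4,7], [7,7,4,7,5,0], [0,6,1,3,1,3], [0,3,6,1,3,3], [0,1,2,3,3], [0,3,3,5,2,3], [0,1,2,3,3,3], [0,6,4,2,7,0,3], [0,5,7,7,0], [4,6,3,3,1,3], [5,7,0,5,3,3], [0,7,6,4,3,4], [6,3,3,4,7,0], [4,2,3,5,6,3], [0,5,7,7], [4,2,7,4,3], [6,3,6,0], [4,3,0], [5,7,0,7,0,0], [0,0,2,0,3,0], [5,5,0,7,6,0],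 [0,6,0,3,1,3], [4,3,5,2,1,3], [7,4,4,7,0,3], [4,7,5,0,1,3], [0,2,3,2,5,3], [4,3,5,0,7,0], [4,6,5,3,2,7], [4,1,1,7,4,3], [3,4,6,7,1,0,3], [0,6,5,3,6,3], [6,5,4,7,7], [7,4,3,6,3,2,0], [2,7,0,7,7], [2,7,0,7,7,2,0], [0,3,3,1,3,3], [6,5,4,7,7,0], [3,3,6,7,0], [6,4,2,7,7], [4,7,4,3,6,7]]

/-- Part of the paths. -/
def pathsD31 : List (List ℕ) := [
[3,4,5,7,7], [0,1,6,0,3,3], [3,2,4,7,4,7], [6,7,0,7,6,3], [3,0,3,5,0,7,0], [0,1,7,6,3], [7,7,1,0,0], [0,7,4,6,7], [2,3,4,4,6,3], [3,0,6,1,4,3], [7,4,4,6,7,0], [4,4,6,3,6,7], [1,7,0,2,3], [1,6,4,3,2,7], [0,2,4,3,1,3], [5,2,7,6,0], [2,5,7,1,4,7], [7,2,4,4,3,3], [0,1,1,1,3,3], [3,4,5,2,1,3], [6,7,0,0,0,7], [4,7,0,2,3,3], [6,7,2,0,6,0,3], [2,0,6,1,3,3], [6,3,4,3,2,0], [0,6,7,4,3],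 [0,1,7,7,1,3], [7,0,0,3,3], [4,3,5,2,7], [1,3,0,5,7,4], [0,6,7,4,3,4], [2,7,4,2,7,0], [0,3,0,3,3,3], [3,4,7,2,5,0], [2,3,4,1,1,7], [0,3,2,1,2,3], [2,7,4,5,3], [5,4,3,6,3], [3,4,7,1,7], [3,4,6,0,7,0], [3,4,7], [6,0,0,3,0], [3,1,0,7,4], [2,2,3,2,4], [6,4,3,0], [3,4,1,1,7,0], [6,3,4,7,2,5,0], [3,4,1,1,7], [7,4,5,3], [7,4,5,3,5,4], [0,7,6,5,7], [5,6,7,0,2,3], [6,3,4,7], [2,1,7,6,0], [6,0,5,7,7], [6,0,5,7,7,0], [0,6,3,6,1,3], [3,0,2,3,3,3], [5,3,0,7,7,5,0], [5,0,6,6,3,3], [0,3,5,5,3,2,3], [0,6,7,7,7], [0,2,7,1,3,4], [6,0,6,7,4,3], [0,6,0,7,0,3], [7,4,2,7,0], [7,4,7,5,7], [3,6,7,4,2,1,3], [4,5,7,2,7], [4,2,3,6,0,3], [2,1,3,3,3,0], [1,1,3,2,4], [0,7,7,5,3,0], [4,3,5,6,7], [6,0,2,7,5,7], [4,3,1,3,5,7], [0,7,7,7,6,7],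 [4,6,6,1,3,3], [2,0,3,4,7], [4,1,1,7,7,0], [0,5,2,7,0,3], [3,4,5,2,5,7], [3,4,6,5,7], [5,7,0,6,3], [5,3,4,5,3], [3,4,2,1,2,3], [0,1,7,5,3,3], [7,5,0,7,7], [5,3,1,3,0,0], [5,6,3,0,3,0], [0,6,3,6,0,3], [6,0,1,7,0,3], [4,4,3,2,1,7], [3,4,5,6,3], [6,4,2,3,3], [7,6,5,0,2,3], [7,7,4,7,4], [7,7,4,6,3,0], [1,3,5,3,0], [1,2,0,3,0]]

/-- Part of the paths. -/
def pathsD32 : List (List ℕ) := [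
[0,6,6,7,7,0], [4,7,7,0,2,3], [0,5,3,0,7,0,3], [0,1,2,1,3,3], [4,7,4,5,6,7], [0,6,6,7,7], [0,6,5,3,1,3], [5,7,6,4,1,3], [5,0,6,7,2,3], [4,3,1,3,2,3], [4,1,2,0,3,3], [0,7,2,5,7], [7,4,2,3,3], [6,7,4,2,0,3], [7,4,2,3,3,3], [7,0,1,7,0,3], [2,0,3,6,0], [0,6,1,7,7,0], [3,4,2,2,3], [3,4,4,7,2,3], [1,2,2,0,7,7], [5,3,0,7,2,7], [3,4,1,3,1,3], [0,7,7,1,7], [0,6,1,7,7], [7,7,5,0], [3,4,7,7,0], [0,2,1,3,3], [5,3,0,5,3,4], [5,7,7,0,2,3], [4,2,3,6,1,3], [6,4,1,7,0,3], [1,3,3,4,5,7,0], [4,5,6,7,4,3], [5,3,5,7,4], [5,3,0,7,2,0], [4,4,5,6,3,3], [3,6,0,0,0,3], [7,0,1,0,2,7,0], [1,4,2,7,7], [7,2,2,0,7,7,0], [2,0,3,6,0,3], [2,4,5,3,3], [1,4,2,7,7,0], [5,0,3,6,1,3], [0,1,3,0,3,3], [3,4,1,1,1,3], [3,2,3,4,2,3], [1,7,7,1,4,7],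 [5,0,7,7,7], [0,2,7,5,7], [3,2,3,4,7], [6,0,7,1,4], [0,1,7,0,3], [4,2,3,3,3], [1,2,0,7,7,0], [1,2,0,7,7], [4,2,3,3], [4,2,7,0,1,3], [7,2,0,3,6,7], [5,3,3,0,0,3], [6,1,1,7,6,0], [7,7,7,0], [1,1,7,0,2,7], [0,2,7,7,5,7], [3,4,7,5,7], [2,5,7,0,6,3], [3,1,3,4,7], [0,6,1,2,3,3], [0,3,2,0,1,3], [2,5,3,4,5,3], [6,7,4,2,5,3], [1,0,7,4,6,3], [4,6,7,0,2,3], [7,5,7,0,0,3], [5,2,7,4,6,3], [3,4,4,3,4], [4,1,6,3,4,7], [4,3,2,4,7,0,0], [5,2,7,1,4], [3,5,4,7], [4,2,1,2,3,3], [7,1,0,3,0,7,0], [3,4,5,3,3,3], [4,3,5,3,3], [4,1,3,1,3], [4,4,2,7,0,3], [3,5,4,7,0], [4,6,7,2,3,3], [5,7,0,2,1,3], [3,4,3,5,2,3], [5,4,7,0,3], [4,1,6,3,1,3], [5,4,7,0,3,3], [2,4,2,1,3,3], [4,4,3,1,2,3], [0,7,7,0], [5,7,5,4,7,0], [0,7,7], [4,7,0,5,3,3]]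

/-- Part of the paths. -/
def pathsD33 : List (List ℕ) := [
[2,3,0,0,0,3], [3,5,5,0,6,7], [0,2,5,3,1,3], [1,2,0,7,2,3], [0,7,5,7,7,0], [3,4,6,1,6,7], [7,1,2,4,7,0], [7,2,0,0,5,3], [0,7,5,7,7], [6,0,5,3,4,7], [6,4,7,7,0], [6,4,7,7], [0,2,1,7,7,0], [4,1,7,2,3], [0,1,6,3,3], [4,7,5,7], [0,2,1,7,7], [4,7,7,5,0,7,0], [4,5,3,6,7], [4,7,5,7,4], [5,6,7,0,0], [6,7,5,2,0], [0,7,2,0], [2,2,5,3,0], [5,2,3,0], [2,5,7,1,4], [5,4,3,0,5,3], [1,0,2,7,6,3], [7,2,4,2,3,3], [1,0,0,3,3,3], [1,0,0,3,3], [5,0,3,6,7], [3,0,6,3,0,7], [0,7,4,4,3,4], [0,2,1,3,0,0], [3,2,1,4], [5,7,1,4], [0,1,7,2,0], [0,7,5,0], [1,7,0,0], [5,5,3,0], [5,2,3,1,2,0], [7,2,4], [3,2,7,0,0,0], [6,0,5,7,2,0], [4,4,6,1,3,3], [5,7,4,5,5,3], [1,0,3,6,1,3], [6,5,7,0,2,3],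 [1,0,7,7,7], [3,3,4,1,3,4], [0,0,5,7,6,3], [5,7,4,5,2,3], [7,0,7,2,0], [6,7,2,0], [5,3,6,4], [0,5,7,2,0], [7,0,7,0,0,0], [6,7,1,4,7,0], [7,4,7,6,7], [6,1,0,7,4,3], [1,4,3,6,3], [3,0,7,1,7,0], [1,1,3,4,7], [3,0,5,3,2,0], [5,7,0,2,3], [5,7,6,0,3,0], [2,3,0,0], [4,6,7,2,4], [4,1,1,7,2,3], [6,0,0,3,3], [4,6,3,5,5,3], [7,0,2,7], [2,3,5,0,2,3], [7,0,6,6,1,3], [4,3,6,7], [4,6,6,7,0,3], [6,1,7,6,4], [3,1,7,0,0], [6,1,7,2,0], [3,1,7,1,0,0], [1,2,7,2,0], [0,2,7,2,0], [3,5,7,0,0], [7,0,0,0], [2,1,3,2,4], [0,3,4,2,3,4], [7,2,2,4,2,3], [0,0,0,3,3], [2,1,3,0,5,3], [2,4,1,2,3,3], [1,3,4,1,1,3], [0,0,0,3,3,3], [3,0,7,2,1,7,0], [6,3,2,1,4], [6,1,0,0,3,3], [3,5,7,0,5,3], [2,0,3,2,7], [4,3,3,1,1,3], [7,0,6,0,1,3]]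

/-- Part of the paths. -/
def pathsD34 : List (List ℕ) := [
[6,5,0,3,6,7], [7,0,1,1,1,7], [3,4,6,4,7], [4,3,5,0], [3,4,3,0,0,0], [7,4,3,3,0], [3,0,0], [0,3,5,7,4], [6,7,0,2,7], [3,3,4,5,7], [1,0,3,1,1,3], [3,4,4,4,3], [3,5,0,2,3], [4,6,4,4,3,3], [0,7,5,4,7,0], [1,7,5,0,2,3], [7,4,4,7,7,7], [5,7,7,5,4,7,0], [0,0,5,3,6,3], [6,6,4,7,6,3], [3,0,5,3,1,2,0], [5,4,7,7,5,3,0], [6,7,0,6,1,7], [3,0,1,3,3,0], [2,3,5,0], [3,2,5,0], [4,2,3,3,4,7], [7,6,7,4,1,3], [4,4,7,5,3,3], [2,2,0,5,3,3], [4,4,6,7,2,2,3], [4,7,0,1,6,7], [6,1,0,3,2,7], [1,4,3,2,0,3], [7,0,3,0,0], [2,7,0,0,0], [7,2,1,3,0,0], [4,7,1,4], [5,0,3,0,0,0], [0,7,0,0], [5,0,3,1,4], [2,3,5,7,0,0], [1,3,5,3,4], [2,0,7,5,0], [2,0,0,0,3,3], [3,0,2,4,2,3], [6,3,4,5,2,3],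 [5,5,3,5,4,7], [3,4,4,6,3,3], [3,6,0,5,0,7], [3,0,2,3,5,4], [6,6,0,2,3,3], [2,7,6,4], [0,5,3,0,0], [3,2,5,3,0], [6,0,3,2,4], [3,5,7,1,4], [3,3,6,4,7,0,0], [0,0,3,1,1,3], [4,3,3,0,1,3], [5,2,4,7,0,3], [4,2,3,2,7], [2,7,0,6,7], [0,1,7,0,6,3], [0,1,3,4,5,3], [7,0,7,0,0], [6,3,0,3,0], [7,4,2,4,4,7], [4,2,7,0,6,3], [3,3,4,3,6,3], [3,3,4,4,2,3], [7,2,0,2,4,7], [4,2,3,4,5,3], [7,6,4,1,3], [0,6,4,3,2,0,3], [3,0,6,0], [2,5,4,7,6,3], [2,3,1,4,4,3], [5,2,0,7,2,7], [2,7,4,2,2,3], [1,7,4,1,1,3], [4,6,1,0,3,3], [1,2,4,6,3,3], [1,7,4,2,7,2,0], [0,7,2,5,0], [3,3,6,4,7], [7,0,0,5,7], [1,4,3,2,1,3], [0,3,4,1,1,3], [1,4,3,0,7,0], [3,0,3,3,4,3], [3,6,0,3,3,0], [3,4,5,4,7,0], [0,6,3,0], [2,3,6,7,0,0], [2,3,3,3,0], [3,5,6,0,5,3],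 [0,0,3,1,2,3], [0,5,7,4,6,1,3], [4,6,1,3,4,7]]

/-- Part of the paths. -/
def pathsD35 : List (List ℕ) := [
[3,4,4,3,5,7,0], [1,2,4,5,3,3], [0,1,0,6,3,1,3], [2,7,0,1,1,7], [5,7,4,6,0], [6,1,7,2,4], [2,2,3,5,0], [5,5,4,3,0], [2,1,7,0,0], [4,1,6,7,6,3], [6,4,6,0,3,3], [4,2,3,2,1,7], [7,0,3,1,2,3], [6,4,7,6,3], [7,0,6,1,7], [1,3,4,5,2,3], [1,6,0,2,3,3], [1,1,3,0,0], [2,7,2,4], [7,6,4,6,7,7], [3,0,1,6,7], [6,0,6,1,7,0,3], [6,0,3,2,1,3], [7,7,2,4,6,3], [1,0,3,2,7], [0,3,4,2,3,3], [3,6,0,1,2,7,0], [2,3,2,5,0], [5,5,4,3,0,0], [1,7,5,0,3], [3,1,0,3,3,0], [5,3,3,0,2,3], [6,0,6,7,0,3], [5,5,0,5,3,3], [4,7,0,6,7], [2,0,7,1,3,6,0], [6,0,3,5,5,3], [0,0,7,2,7], [4,3,1,4,4,3], [4,5,4,7,6,3], [1,2,0,0,3,3], [3,5,2,0,1,3,0],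 [4,7,4,2,2,3], [5,0,6,7,0,3], [4,7,4,5,6,3], [2,0,7,5,3,4], [3,4,6,7,4], [3,4,2,0], [4,5,7,2,3,3], [5,7,4,1,2,3], [5,7,4,2,1,7], [3,6,4,7,7,0], [5,6,0,7,2,3], [4,1,1,3,1,3], [7,2,4,5,3,3], [4,3,3,0,1,7], [3,5,3,5,0], [7,7,0,0,7,0], [7,7,0,2,7], [2,3,1,0,6,7], [3,2,0,2,5,3], [3,2,4,3,0,7], [0,1,0,3,6,3], [7,0,0,7,2,3], [0,7,7,4,7,4,3], [6,3,1,4], [2,4,3,6,0], [6,6,0,7,4,3], [1,7,6,3,4,7], [3,6,3,4,7,0], [4,7,4,5,7], [4,7,4,5,7,0], [4,5,4,6,3,3], [6,4,5,7,7,0], [4,4,3,6,0,3], [7,7,2,4], [4,4,3,6,0], [6,1,0,7,2,0], [2,7,6,0], [4,7,4,6,3], [3,2,0,0,3,3], [4,3,0,2,4,3], [6,0,1,0,0,3,3], [7,2,4,7,4], [5,2,0,0,7,7], [2,0,3,2,0,3], [0,5,7,4,1,7], [3,4,1,7,0,0], [3,4,3,0,0], [3,6,3,0], [4,5,2,0,3,3], [7,0,3,6,3,3],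 [3,0,7,5,3,0], [7,4,3,3,0,7], [0,0,3,1,3,3], [3,0,6,5,2,7,0], [2,0,3,6,3], [4,7,1,0,7,4], [1,3,0,3], [1,0,3,6,0,3]]

/-- Part of the paths. -/
def pathsD36 : List (List ℕ) := [
[4,5,7,0,3,3], [4,4,7,0,1,3], [4,4,3,3,3], [7,0,3,2,1,3], [0,0,7,2,3], [3,0,7,2,3], [4,4,3,3], [3,0,2,7,0], [2,2,3,3,4,7], [4,1,3,0,5,3], [1,4,2,3,3], [5,4,6,1,3,3], [1,4,2,3,3,3], [0,3,0,7,7,7], [3,3,0,0,3], [3,3,5,7,0,0], [7,6,0,2,3], [7,1,6,0,0,7], [1,0,6,1,3,3], [7,1,4,7], [2,4,3,6,0,3], [2,4,5,7,2,3], [6,6,3,4,1,3], [2,7,4,5,7,0], [4,7,1,4,3,4], [2,7,4,6,3], [7,0,2,5,3], [3,0,0,6,0,3], [2,3,0,2,4,3], [7,0,7,2,2,3], [7,4,1,3,1,3], [7,4,2,2,1,7], [2,5,7,0,0], [5,5,3,0,3], [2,5,3,5,0], [7,0,2,4], [3,3,5,0], [5,3,2,3,0], [3,2,4], [7,1,0,0],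 [6,3,3,3,3,0], [5,2,2,0,7,7,0], [0,0,2,3,6,3], [4,6,0,7,4,3], [3,0,2,3,0,7], [7,6,5,4,1,7], [2,7,4,1,7], [3,0,1,6,7,0], [4,4,5,7,7,0], [3,4,6,0], [5,7,6,4], [0,7,6,0], [2,2,0,3,6,7], [6,0,3,1,1,3], [2,0,5,5,3,3], [0,0,3,6,3], [3,6,3,1,4,7,0], [6,1,7,0,6,3], [3,1,0,6,0,3], [6,7,5,0,2,3], [7,4,7,4,7], [3,2,4,5,3,3], [3,0,5,3,6,3], [1,0,6,3,2,7], [6,1,4,7,6,3], [7,7,5,4,7], [3,2,4,2,7], [0,6,3,4,5,3], [7,1,7,0,0], [4,3,1,4], [6,1,3,3,3,0], [0,5,3,0], [3,5,7,2,0], [3,6,6,3,0], [4,7,6,0,0,3], [0,3,2,4,7,7], [7,6,3,4,2,3,0], [5,4,3,2,1,3], [6,3,0,1,6,7,0], [3,3,4,6,0,7], [7,4,1,7], [7,5,3,4,4,3,0], [6,3,2,4], [1,7,1,7,2,0], [4,3,0,0,0], [3,3,2,4], [0,0,3,2,0,3], [7,1,3,4,2,3], [6,0,3,4,7], [1,4,3,2,7], [7,0,5,6,7],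 [0,1,7,0,5,3], [1,2,7,0,2,3], [7,0,5,6,7,0], [2,0,7,1,4], [0,3,6,4,7,0,0], [7,7,4,2,0,3], [4,3,6,1,7], [4,7,5,4,3,4], [5,0,3,2,0,3]]

/-- Part of the paths. -/
def pathsD37 : List (List ℕ) := [
[4,3,6,4,3,4], [7,0,5,3], [7,0,5,3,0,0,0], [3,0,3,3,0,0], [2,7,0,7,1,7], [7,4,2,1,3], [7,1,4,7,5,0], [1,7,1,4,7,4], [3,1,4,4,3,0], [0,0,3,2,7], [7,6,7,0,0,3], [2,2,4,3,0], [5,7,7,4], [4,4,2,3,0], [5,6,1,7,0,0], [1,4,7,0,0,0], [5,2,4,2,7,7], [0,2,0,0,3,3], [7,7,2,0,3,3,0], [3,2,0,5,0,3], [2,4,3,5,5,3], [2,4,6,7,0,3], [6,0,7,1,1,7], [7,5,5,0,3,3,0], [3,3,0,3], [1,0,7,5,3,4], [3,0,3,2,3,3], [2,0,3,1,2,3], [0,3,4,2,7,7], [7,4,2,3,5,2,3], [0,0,7,6,3], [4,1,6,0,7,7], [5,4,6,6,7,7], [1,1,6,3,0], [6,7,6,3,0], [3,4,3,4,2,0],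 [7,0,0,3,0], [5,2,3,0,0,0], [0,3,4,2,3,0], [3,0,7,7], [4,2,0,7,6,3], [3,2,4,4,5,3], [1,7,1,4,7,0], [3,3,4,2,2,3], [4,4,7,0,2,3], [0,3,4,1,3], [0,0,7,4,3], [1,1,0,7,7,0], [7,4,3,2,7], [7,0,7,5,2,3], [1,7,5,4,7,0], [4,7,1,2,1,3], [3,1,4,2,0,3], [4,7,5,3,5,2,0], [5,3,5,0], [6,7,1,0,0], [2,3,2,3,0], [5,3,3,3,5,0], [2,0,0,3,0], [5,3,1,0,7], [5,3,4,6,5,3], [5,3,4,2,2,7], [7,4,5,4,1,7], [5,7,1,7,4,7], [5,0,2,2,7,0,3], [5,7,4,2,0,3], [2,2,4,2,3,3], [2,3,4,4,7,4], [7,4,6,6,5,3], [5,4,5,7,2,3], [6,3,0,5,3], [0,0,3,0,7,0], [7,4,1,6,3,0], [7,4,7,1,6,3], [5,7,4,5,7], [1,0,7,2,7], [5,3,3,3,0], [7,0,6,5,7], [4,1,2,3,1,3], [2,2,3,4,7], [0,6,0,2,3,3], [2,7,0,6,0,3], [6,6,7,4,5,3], [4,7,2,3,3,3], [0,3,4,5,2,3], [2,3,6,0], [5,2,4,3,0],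 [0,0,7,7,1,0,3], [3,0,6,0,1,3], [4,3,0,7,7,0], [3,2,5,4,2,3], [3,3,5,2,4,7], [0,0,5,3,3], [5,2,0,5,3,3], [4,2,1,4,7,7,0], [3,0,2,0,3], [7,7,4,5,7,0], [1,0,7,1,1,7], [7,4,6,1,2,3], [7,4,6,3,3,0,3]]

/-- Part of the paths. -/
def pathsD38 : List (List ℕ) := [
[4,3,3,4,4,3,0], [6,6,4,5,3,3], [2,4,6,0,7,0,3], [2,7,7,4], [4,7,1,7,5,3], [5,3,0,2,4,3], [2,3,3,4,7,0], [5,7,4,6,3], [7,0,1,6,3], [0,3,4,6,3,3], [1,4,6,7,0,3], [7,0,3,3,3,3,0], [7,5,7,0], [4,4,2,2,3,3], [7,0,3,4,2,3], [3,6,5,4,2,3], [4,7,0,0,7,0], [3,2,2,0,2,0,3], [7,5,7,4,7], [4,6,1,4,7,7], [6,0,3,4,1,3], [0,7,5,0,3], [4,3,0,3,3], [7,5,3,4,2,3], [1,0,7,2,3], [4,6,4,3,3,3], [1,3,4,1,7], [7,1,2,4,4,3], [2,7,4,2,0,3], [4,6,4,3,3], [7,6,0,3,4], [2,7,2,5,0],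 [5,0,3,0,0], [3,0,1,0,2,3], [3,0,5,3], [5,4,1,2,3,3], [2,0,0,3,0,7,0], [1,0,7,5,7], [7,5,4,1,7,0], [4,2,4,4,3,3], [0,0,3,6,7], [4,7,4,7,0], [1,1,0,3,0], [0,1,7,1,4,7], [5,5,0,7,2,7], [7,7,4,4,3], [6,0,6,1,3,3], [4,6,3,4,1,3], [7,5,3,0,6,3], [1,4,7,6,3], [7,0,2,2,4,7], [1,7,6,0], [0,2,1,3,1,4], [1,3,3,3,0], [4,2,4,3,6,3], [6,6,3,4,7], [4,6,0,3,6,3], [6,0,7,6,5,7], [3,2,4,1,1,7], [6,7,4,5,3], [0,0,5,3,3,1,3], [2,2,7,0,6,0,3], [5,0,5,6,3,3], [4,6,3,1,1,3], [1,3,2,4,7,7], [5,4,3,2,5,3], [5,7,7,4,7,0], [4,1,4,7,2,7], [0,6,4,7,0,3], [5,5,0,7,2,3], [4,5,3,0,0,0], [2,7,0,0], [1,3,4,2,3,0], [2,3,4,1,1,3], [2,0,5,0,3,3], [3,4,4,4,7,7], [4,7,5,6,1,3], [1,3,4,1,3], [5,7,0,0,0,7], [4,3,6,3,3,0], [6,7,2,1,4], [1,7,6,0,3],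 [0,1,2,3,0,0], [6,0,3,6,0], [5,7,6,0], [6,6,0,7,7,0], [4,6,3,1,2,3], [1,0,6,3,6,7], [7,0,7,2,7], [6,6,0,7,7], [6,3,0,0,0,3], [1,3,4,2,2,7], [1,7,4,2,0,3], [3,4,2,4,3], [3,0,7,2,0], [6,7,4,1,2,3], [3,0,7,2,7], [3,2,3,4,7,0,3], [7,4,7,4,4,3], [1,3,4,2,2,3]]

/-- Part of the paths. -/
def pathsD39 : List (List ℕ) := [
[2,2,5,0,7,7,0], [3,4,1,4,7,0], [2,2,5,0,7,7], [5,2,5,0,3,0], [7,1,3,4,3], [0,0,6,4,3,3], [0,0,3,0,3,3], [4,7,0,3,3], [7,0,2,1,3], [4,2,3,5,5,3], [7,0,6,1,7,7], [4,1,4,3,3,3], [4,7,0,3], [6,0,3,1,4], [6,3,6,4], [7,2,4,6,7,7], [7,0,3,0,5,3], [2,0,2,3,2,7], [5,0,3,2,7], [6,3,1,1,0,0,3], [6,3,3,0,6,7], [3,2,4,2,5,3], [3,0,7,5,6,3], [2,7,7,0,2,5,3], [2,2,5,3,4,7], [1,3,1,4,7,7], [6,6,0,7,7,7], [2,1,0,3,4,1,3],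 [0,6,7,4,1,7], [7,2,1,4,4,3], [4,7,0,0,7,7,0], [6,0,3,0,3,0], [3,1,2,0], [0,3,2,3,0], [6,3,3,0,5,3], [1,6,4,2,3,3], [3,3,6,0,5,3], [0,7,4,2,0,3], [1,7,7,4,7,4], [7,1,4,7,0,3], [5,6,7,4,1,7], [1,3,4,5,6,3], [2,4,4,6,3,3], [7,5,7,4,5,3], [3,0,0,3,6,0], [7,1,4,1,4,3], [3,0,0,3,2,0], [3,3,4,4,7], [5,7,0,6,7], [3,2,1,4,2,3], [4,3,2,5,3,3], [2,2,4,7,7], [4,2,5,7,6,3], [7,0,5,3,6,7], [4,2,1,7,7,7], [4,4,7,2,7], [5,6,4,7,0,3], [3,0,7,7,0,0], [2,2,3,6,0], [5,6,7,2,4], [4,5,2,1,3,3], [5,3,3,4,7,0], [4,3,6,7,1,3], [7,0,1,7,6,3], [7,2,0,0,7,4], [0,3,0,0,7,7,0], [3,3,4,6,6,3], [2,7,0,5,3], [2,3,3,2,4], [3,4,3,1,2,0], [1,0,3,2,0,3], [2,3,0,2,0,3], [7,1,3,0,2,3], [0,0,7,5,3,3], [5,5,0,5,7,7], [6,4,5,3,3], [7,1,3,4,5,7],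 [6,0,5,7,2,3], [0,6,3,2,3,0], [0,3,0,3], [7,5,7,1,4], [4,3,3,4,7], [5,7,4,2,2,3], [5,7,4,5,6,3], [5,3,1,4,4,3], [1,0,2,3,3], [4,7,0,5,5,3], [1,0,2,3,3,3], [1,3,4,1,6,3], [5,3,6,0], [3,0], [6,1,7,0,0,0], [1,6,7,0,6,3], [5,0,2,3,2,7], [3,0,6,0,0,3], [2,7,0,2,1,7], [4,3,0,5,3,3], [1,6,3,4,5,3], [4,3,2,4,5,7,0], [7,1,0,0,6,7]]

/-- Part of the paths. -/
def pathsD40 : List (List ℕ) := [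
[7,2,4,7,0,3], [7,4,3,6,7], [7,4,1,2,1,3], [7,7,0,5,3], [2,7,0,1,6,3], [1,3,4,2,7,7], [4,5,7,4,2,7,0], [1,0,7,6,3], [6,6,4,3,0], [4,5,3,6,1,7], [3,1,0,3,6,3], [7,2,0,0,7,0], [6,3,4,6,5,7], [4,6,3,6,7], [0,1,7,0,2,3], [3,0,7,1,2,3], [4,2,2,7,0,3], [4,4,7,7,7], [4,3,6,6,1,3], [1,0,1,1,3,3], [1,4,7,5,2,7], [6,7,4,2,7,0], [7,0,2,3,3], [2,7,4,2,1,3], [4,4,3,6,1,3], [5,6,3,1,2,0], [6,4,3,5,6,7], [7,5,4,6,3,4], [7,7,4,2,0,7], [7,0,0,5,7,0], [5,0,3,6,3], [4,1,4,7,7], [4,1,4,7,7,0], [0,3,4,7], [3,5,3,0,0], [4,3,5,5,7], [2,5,0,7,2,7], [3,0,7,5,3], [0,7,4,5,3], [4,7,7,1,3,3], [4,2,3,1,2,3], [3,3,4,6,1,3], [0,6,3,4,7], [7,7,0,2,1,3], [2,5,3,4,1,7], [3,5,7,4,2,3], [7,0,6,0,6,3], [2,4,3,2,5,3], [2,7,7,4,7,0], [6,5,2,0,7,7],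 [2,5,0,7,2,3], [6,0,0,3,0,0], [1,1,4,3,6,0], [6,7,7,1,4,7], [3,5,2,0,5,3], [7,5,7,4,1,3], [0,5,7,0,6,3], [0,5,3,4,5,3], [5,0,2,3,6,3], [1,0,7,5,3,3], [0,7,5,0,7,7], [4,3,5,3,2,7], [7,5,0,7,1,3], [4,3,2,1,7], [0,3,4,5,6,3], [7,1,3,4,7], [1,6,4,7,7], [2,1,4,7,0,3], [7,7,0,7,5,7], [3,3,4,7,4], [7,7,0,2,3], [7,6,4,5,3,4], [1,0,2,1,3,3], [7,4,5,6,7], [3,0,5,3,4], [2,5,4,6,7,7,0], [4,4,6,7,4,3], [2,2,4,2,7,7], [0,3,4,2,2,3], [7,2,2,4,7], [3,0,0,0,3,3,0], [7,2,2,4,7,0], [2,4,6,0,7,7], [5,6,7,0,5,3], [2,5,0,7,6,3], [2,3,3,6,4], [4,5,6,3,3], [6,7,0,7,7], [7,7,6,4,4,3,0], [7,0,3,6,3], [1,6,4,7,0,3], [4,5,4,7,2,3], [0,2,4,5,3,3], [4,1,2,7,7,0], [1,0,6,4,3,3], [1,0,3,0,3,3], [7,6,0,7,5,3,0], [7,2,2,4,7,7], [7,4,7,5,3,3],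 [0,5,0,7,7,7]]

/-- Part of the paths. -/
def pathsD41 : List (List ℕ) := [
[5,7,0,1,1,7], [1,4,4,7,0,3], [6,0,3,0,0,0], [3,0,3,2,1,3], [6,5,3,5,4,7], [0,3,4,7,5,7], [2,7,4,1,1,3], [0,3,1,3,4,7], [3,0,7,7,1,7], [3,5,7,4,1,7], [2,2,4,6,3,3], [7,7,4,2,7], [3,6,0,2,0,3], [6,7,0,2,3], [3,1,7,0,0,3], [1,3,4,1,1,7], [1,7,4,5,3], [1,6,3,4,7], [3,2,4,7,0,0], [5,4,7,1,0,0], [0,0,7,7,0], [5,3,0,5,3,3,0], [0,0,7,7], [7,0,5,3,3], [3,3,3,0,0,3], [5,3,3,4,4,3], [5,6,4,4,3,3], [7,6,4,6,3,4], [6,7,4,5,5,3], [7,6,6,4,7,0], [4,4,2,3,1,3], [7,1,4,7,7,0], [5,0,3,2,1,7], [5,4,6,5,7,7], [0,6,4,7,7,0], [0,6,4,7,7], [0,0,7,2,0], [2,2,7,6,0], [1,3,4,2,0], [3,2,2,0,3], [5,0,3,0,5,3], [7,5,4,7,7,0], [3,2,7,4,1,1,3], [2,4,7,4,6,3], [0,1,0,0,3,3],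 [5,6,0,7,6,3], [7,2,2,4,6,3], [2,7,2,4,7,4], [7,4,6,0], [0,5,7,1,4], [1,0,7,2,0], [0,1,7,0,0], [7,5,4,3], [4,6,1,3,3], [1,3,0,2,7,0], [7,0,6,7,2,3], [2,1,0,7,7,0], [6,4,5,5,7,7], [2,1,0,7,7], [1,3,3,0,0,3], [1,1,4,2,3,3], [2,4,2,3,0,0], [0,6,7,2,0], [1,4,3,1,4], [4,6,6,3,0], [6,7,0,0,5,7], [1,0,0,7,4,3], [7,0,3,0,1,3], [4,1,3,6,3], [3,6,0,3,2,7], [1,7,4,3,2,7], [7,4,4,4,7,0], [0,5,7,0,2,3], [0,2,3,0,0], [6,7,2,4], [5,3,0,3,0], [2,7,6,0,3], [5,3,0,3], [0,7,0,0,0], [3,1,0,0,0,3], [7,6,0,7,1,3], [0,0,0,0,3,3], [2,2,0,3,0,7,0], [2,0,5,3,3], [7,4,5,4,6,3], [1,4,3,0,7,7,0], [3,1,4,1,1,7], [1,3,2,4], [3,5,0], [0,3,0,0], [7,6,3,4,3], [1,0,0,7,7], [1,0,0,7,7,0], [6,3,0,7,2,3], [0,3,4,4,4,3], [3,3,4,4,3], [6,4,4,3,3],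 [3,0,5,3,3,0], [6,0,0,7,2,3], [7,4,6,5,2,3]]

/-- Part of the paths. -/
def pathsD42 : List (List ℕ) := [
[2,2,0,7,4,3], [4,7,4,1,2,3], [4,6,0,7,2,3], [4,7,4,2,1,7], [7,2,0,0,6,3], [3,5,5,5,4,7], [4,6,3,4,1,7], [7,1,0,3,0], [2,3,3,4,7], [6,3,0,2,7,0], [4,7,5,3,3], [7,0,6,1,1,3], [4,6,7,2,2,3], [7,0,1,6,7], [7,4,3,0,2,3], [4,1,3,2,0,3], [0,7,0,3,0,0], [7,6,0,3,0], [7,1,4], [3,3,2,3,0], [0,0,7,0,0], [4,2,4,3,0], [6,1,7,2,5,0], [3,0,7,5,3,3], [3,0,1,7,2,3], [1,3,0,1,6,7], [6,0,1,0,3,3], [6,7,4,6,1,3], [5,5,7,0,6,3], [5,5,3,4,5,3], [7,1,1,4,4,3,0], [3,4,5,4], [2,1,2,3,0], [4,4,3,0,3], [3,2,5,4,1,3], [2,7,0,6,3], [4,2,4,7,7], [5,0,7,4,1,7], [4,2,4,7,7,0], [2,3,4,5,3], [0,7,6,4,1,3], [7,1,4,2,1,7], [3,1,7,0], [4,2,7,2,3],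 [4,2,0,6,3,3], [4,1,3,2,1,3], [3,0,7,5,7,7,0], [4,1,3,0,7,0], [4,4,6,3,1,3], [4,7,2,4,3,4], [1,7,0,2,5,3], [3,4,3,6,0], [6,4,3,6,3], [7,6,0,7,2,3], [3,2,5,0,5,3], [6,1,3,4,7], [5,3,4,4,6,3], [3,6,0,6,0,3], [3,0,7,7,1,3,0], [7,4,4,6,1,3], [5,6,1,3,0], [6,1,7,0,0], [5,6,7,6,0], [1,6,6,0,7,7], [0,3,0,1,6,7], [3,3,4,1,7,4], [7,4,1,4,7,2,0], [3,0,6,5,4,3], [7,1,0,3,3,0], [1,7,0,7,2,7], [7,0,7,4,7,4], [4,3,3,6,4], [3,0,3,3,2,7], [7,6,0,2,3,3], [7,6,0,5,3], [7,0,5,6,6,7], [7,0,6,7], [7,0,6,6,0,1,3], [4,5,2,7,7], [4,5,2,7,7,0], [3,1,4,4,3], [5,4,7,6,3], [1,1,0,2,3,3], [7,4,7,7,4,3], [7,4,2,2,3], [5,4,6,0,3,3], [7,4,5,6,3], [7,0,7,4,6,3,0], [0,3,4,2,0], [6,7,7,2,4], [6,7,7,0,2,7], [4,3,4,4,7,4], [3,1,0,3,2,7], [4,3,4,4,7,0,0],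 [3,1,0,6,7], [1,0,0,3,6,3], [1,3,1,0,6,0,3], [7,6,7,0,5,7], [3,3,0,5,7,5,0], [6,7,6,0,2,3]]

/-- Part of the paths. -/
def pathsD43 : List (List ℕ) := [
[4,5,7,2,3], [7,4,5,7], [7,4,5,7,0], [5,4,6,3,3], [4,5,5,7,5,7], [4,3,6,0,3], [6,1,3,0,3], [4,3,6,0], [7,4,6,3], [7,7,4,5,3,3,0], [3,0,2,4,3], [2,5,4,5,3,3], [0,7,2,4,7,4], [6,7,0,2,5,3], [0,2,0,3,2,0,3], [6,7,4,1,3,1,3], [1,2,7,0,0], [3,2,3,0,0], [0,3,0,2,7,0], [4,6,1,3,1,3], [1,3,0,5,3], [4,1,2,3,3], [7,1,0,7,7,0], [7,0,5,3,2,3], [6,0,0,0,3,3], [2,0,2,3,3], [0,7,6,0,2,3], [5,2,7,1,4,7], [3,3,0,7,7], [0,7,1,4,7], [7,2,4,7,4,7], [5,6,3,4,1,3], [2,0,7,5,7,4], [5,4,1,7,6,3], [2,4,3,0,0], [1,7,5,4,3], [6,7,6,0], [0,3,2,4], [0,7,1,0,0], [6,5,7,1,4,7,0], [5,5,3,4,7],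 [6,0,7,4,3], [7,0,1,7,5,7], [7,0,7,2,5,3], [4,5,7,7], [6,0,3,5,6,3], [4,5,7,7,0], [1,3,0,3,0], [5,0,3,2,4], [1,6,3,0,7,7,0], [7,6,3,1,4,7], [6,7,4,7,6,3], [7,0,0,3,3,0], [3,4,7,4,6,3], [1,1,4,7,7], [1,1,4,7,7,0], [7,1,4,2,3], [5,5,0,7,7], [5,2,3,4,1,7], [5,5,0,7,7,0], [3,0,2,3,3,0], [7,4,7,1,2,3], [1,4,7,5,3,3], [2,7,6,4,1,3], [3,4,4,2,5,3], [1,3,5,0], [3,1,4], [3,0,3,0], [0,3,6,6,3,0], [7,6,0,0,3], [1,2,3,4,5,3], [2,7,7,0,0,7,0], [5,0,3,2,1,3], [6,4,6,5,3,3], [7,6,4,2,4,7], [0,7,4,1,7], [6,0,5,7,2,7], [1,6,0,3,0], [3,0,0,0], [3,2,0,7,0,0], [0,3,0,3,3,0,0], [3,2,2,4,1,3], [6,0,3,2,0,3], [5,6,0,5,7,7], [6,1,7,0,5,3], [3,0,7,7,4,2,0], [0,0,0,3,2,7], [2,4,7,0,2,7], [2,0,3,0], [2,2,0,3,0], [6,4,2,2,3,3], [5,0,6,0,7,7],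 [3,2,0,7,7,4], [5,7,0,7,7], [4,1,7,0,2,7], [6,7,0,0,7,0], [1,1,4,7,0,3], [7,4,4,3,1,3], [1,0,0,3,0], [3,0,7,5,0,7,0]]

/-- Part of the paths. -/
def pathsD44 : List (List ℕ) := [
[4,7,4,5,5,3], [1,3,0,0,0,3], [5,0,6,5,3,1,3], [6,4,1,3,6,3], [1,6,0,7,7,0], [1,6,0,7,7], [5,0,6,6,7,7], [1,7,1,7,0], [4,3,6,4], [6,1,0,0,7,7], [0,3,0,7,7], [2,0,7,6,3], [6,6,4,4,3,3], [3,5,3,0,2,7], [6,3,3,4,4,3], [4,7,0,2,3], [0,0,3,4,1,3], [5,5,0,3,0], [7,6,4,6,7], [3,0,3,1,4], [3,3,4,6,5,7], [7,0,3,5,2,7], [3,6,4,7,4,3], [3,5,4,5,7], [2,0,3,5,2,7], [7,0,6,3,1,7], [7,1,4,2,7,7], [4,6,0,3,1,3], [6,7,4,6,3], [4,3,3,0,2,3], [7,5,0,7,4,3], [1,3,2,4,5,7], [5,0,3,6,0,3], [5,4,5,3,3,3], [5,4,5,3,3], [0,1,0,7,2,7], [2,1,3,6,4], [6,0,3,0],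 [1,2,4,6,7,7], [1,2,4,6,7,7,0], [3,0,7,7,0], [2,1,4,7,7], [2,0,0,3,4,7], [0,0,0,5,3,3], [2,4,6,7,5,7], [2,1,4,7,7,0], [0,3,0,2,0,3], [4,2,7,7,1,3], [7,7,0,0,3,3], [4,5,3,1,1,3], [5,2,7,1,4,7,0], [3,3,4,4,3,0], [2,3,0,5,3,3], [7,0,6,7,4,3], [4,2,2,3,3], [6,1,4,7,7,0], [4,7,2,2,5,7], [7,0,0,7,0], [4,5,5,3,1,3], [4,5,6,7,7], [6,1,4,7,7], [4,5,6,7,7,0], [2,1,3,0,3], [3,4,3,5,4], [7,5,4,6,3,3,0], [0,3,0,5,3], [3,2,0,3,3,0], [7,5,0,3,0,7], [2,0,0,7,2,3], [4,5,3,3,4,7], [2,4,4,3,3], [6,0,7,6,3], [3,3,4,2,2,7], [6,3,4,2,3,0], [4,1,6,0,3,3], [2,7,1,4,7], [6,3,4,1,3], [7,4,6,5,3,3], [4,1,7,6,3], [6,0,6,7,6,3], [3,5,3,0], [2,4,3,6,3], [5,5,0,7,4,3], [6,0,3,6,3], [2,4,3,1,1,7], [2,1,3,4,7], [5,4,7,2,3,3], [6,0,3,1,1,7],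 [3,2,0,3,1,7], [5,3,0,0,0], [0,2,7,0,0], [1,0,2,3,0,0], [1,0,7,0,0,0], [2,0,6,6,3,3], [0,3,0,7,2,7], [7,4,3,3,4,7], [4,6,7,0,5,3], [1,6,4,4,3,3], [4,7,4,2,5,3], [2,3,0,7,7,5,0]]

/-- Part of the paths. -/
def pathsD45 : List (List ℕ) := [
[3,0,3,4,2,2,3], [7,7,4,6,0], [3,0,6,7,2,0], [2,2,7,4,6,3], [7,7,6,5,0,2,3], [7,0,3,3,2,3], [0,5,0,3,2,7], [7,0,3,1,1,3], [1,2,0,7,6,3], [4,2,4,3,1,3], [4,7,4,6,7], [6,6,3,3,4,7], [2,3,0,2,7,0], [7,0,5,0,6,7], [7,4,5,3,3,2,0], [6,4,3,5,6,3], [5,4,1,2,0,3,3], [6,4,7,4,3], [7,0,0,7,7,0], [0,3,1,2,0], [7,5,4,2,0,3], [6,0,2,7,4,3], [7,5,4,5,7,0], [7,4,1,3,0,0,3], [7,2,4,4,6,3], [4,7,0,7,1,7], [1,3,5,4,5,7], [5,6,4,7,4,3], [5,6,3,5,4,7], [4,1,3,5,2,7], [7,4,5,3,3,0], [1,6,3,4,2,3,0],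 [4,6,3,2,1,3], [7,0,3,6,1,3], [3,1,1,7,4,7], [1,6,3,4,1,3], [5,5,0,6,3,0], [6,0,3,0,0], [2,5,7,1,4,7,0], [2,0,3,5,6,3], [2,0,7,4,3,4], [4,2,3,4,7], [7,1,6,0,7,7], [2,0,7,4,3], [1,4,7,2,5,7], [4,7,0,6,0,3], [0,0,3,0,3], [4,7,7,4], [3,3,4,7], [4,1,1,1,3,3], [6,7,0,1,6,7], [2,4,7,4,3], [5,6,0,7,7], [7,0,5,5,3], [5,3,0,0,0,3], [7,0,5,5,3,4], [0,3,0], [7,7,2,2,4,7], [7,4,4,7,7], [7,1,4,7,1,7], [5,2,4,3,6,3], [3,0,5,3,3], [4,3,3,0,5,7], [3,2,4,5,7,0], [2,7,6,7,4,7], [1,0,3,3,4,7,0], [3,2,0,5,0,7], [3,5,0,5,0,3], [0,7,7,0,5,3], [2,3,0,7,7,0], [6,6,7,0,0,7,0], [5,7,4,2,7,0], [0,1,0,7,6,3], [2,4,2,2,3,3], [4,7,6,3,1,3], [6,3,0,7,7,0], [4,6,7,5,7], [2,7,0,0,7,0], [1,4,7,7], [1,4,7,7,0], [0,0,3,4,7], [0,3,5,3,0,0], [7,2,3,5,4,7],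 [6,5,7,4,5,3], [4,4,7,2,5,7], [3,4,5,4,5,3], [7,7,6,0,2,3], [5,0,7,5,3,3], [6,4,6,7,4,3], [2,4,2,7,7,1,3], [5,6,0,7,4,3], [5,4,5,7,7], [6,7,4,4,7,7], [7,6,7,4,7], [2,5,7,4,5,3], [7,4,2,3,1,3], [6,3,0,5,3,3], [3,0,3,0,1,1,3], [4,1,7,7,1,3], [0,7,7,0,2,3]]

/-- Part of the paths. -/
def pathsD46 : List (List ℕ) := [
[1,7,4,5,5,3], [1,7,4,5,2,3], [5,7,4,5,3], [0,3,0,5,3,4], [4,3,0,3,3,3], [4,6,7,4,3], [6,3,1,4,4,3], [4,3,2,1,2,3], [0,7,2,2,4,7], [3,0,1,7,5,3], [4,3,1,7,6,7], [7,0,6,7,1,3], [4,4,3,4,7], [3,5,3,0,6,3], [6,4,3,6,0], [7,7,7,5,4,7], [3,6,5,4,5,3], [7,1,4,7,6,3], [5,2,0,0,3,3], [2,0,5,7,2,7], [2,4,6,5,3,3], [2,0,2,3,6,0,3], [4,1,4,7,0,3], [0,3,0,3,2,1,3], [6,7,6,0,5,3], [7,7,0,7,7,4], [6,7,0,6,7],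 [2,7,4,7,6,3], [7,4,5,7,7], [3,6,0,5,7,0], [2,0,1,1,3,3], [5,0,7,1,0,0], [3,3,4,5,2,3], [6,4,5,7,2,3], [4,2,3,1,3], [6,7,4,5,7,0], [2,3,4,2,3,0], [6,4,3,6,0,3], [4,3,1,2,2,7], [2,3,4,1,3], [2,3,5,3,0,0], [5,7,7,5,0], [6,1,3,5,4,7], [7,4,5,5,2,3], [4,3,4,4,6,3], [3,0,0,0,3,0], [1,0,0,0,3,3], [6,7,4,6,4,7], [7,4,6,1,6,3], [2,3,0,7,5,3], [0,7,4,6,0], [1,0,7,0,0], [1,3,5,3,5,0], [1,1,7,0,0], [6,6,3,0], [3,0,3,0,0], [5,2,3,1,4], [0,5,3,0,3], [5,2,0,7,7], [7,6,4,1,7,0], [7,2,4,4,7,0], [5,2,0,7,7,0], [6,3,5,4,1,3], [4,7,2,4,7,7,0], [1,3,6,0,3,3,0], [5,7,7,0,6,7], [5,4,3,0], [0,0,3,0,0], [3,3,0,2,7,0], [2,4,7,0,3,3], [7,0,1,2,1,3], [4,7,1,7,7], [2,4,7,0,3], [3,3,4,2,3,0], [7,0,7,2,2,7], [4,7,1,7,7,0], [3,4,6,0,0,3],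 [6,4,4,4,3,3], [7,4,1,2,3], [6,0,7,2,3], [7,4,2,1,7], [4,4,7,7,1,7], [4,4,6,1,7,7], [6,3,4,1,7], [1,3,4,6,0], [0,7,1,4], [2,4,3,0], [2,3,2,3,4,7], [3,0,0,2,7,7], [6,6,0,3,4,7], [7,0,0,0,3,3,0], [6,1,4,3,2,7], [7,4,4,4,4,3], [7,6,0,0,3,6,0], [7,6,0,1,2,7,0], [6,5,7,6,0], [3,0,0,7,2,0], [1,3,3,4,7,4], [0,2,7,0,6,3], [2,4,7,7]]

/-- Part of the paths. -/
def pathsD47 : List (List ℕ) := [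
[1,3,0,5,3,4], [2,4,7,7,0], [3,5,4,5,3,3], [4,2,5,7,2,7], [4,7,6,5,7,0], [4,4,6,3,3], [7,4,2,0,6,3], [4,4,6,3,3,3], [4,4,4,7,2,3], [1,6,7,0,7,7], [7,1,2,4,1,3], [7,6,4,7,7,0,0], [7,4,2,0,2,7], [3,1,6,0,7], [6,3,3,4,7,4], [5,4,5,3,1,3], [5,4,6,7,7], [1,7,4,2,1,3], [5,4,6,7,7,0], [5,3,5,4,2,3], [4,6,7,7,7], [1,7,1,4,7,5,0], [3,3,6,4], [2,4,2,7,7], [5,0,7,6,3], [4,6,0,7,7], [2,7,0,7,6,3], [0,7,4,2,2,3], [2,4,2,7,7,0], [0,7,4,5,6,3], [3,5,6,3,0,0,3], [3,6,4,7,4,3,0], [3,4,4,7,4], [7,0,6,0,2,3], [3,4,4,7,0,0], [2,4,2,3,3], [7,5,3,5,4,7], [3,6,0,2,5,3], [2,0,1,7,0,3], [7,5,3,3,4], [3,6,0], [0,7,4,6,3], [4,6,0,7,0,3], [0,3,0,2,4,3], [4,6,5,2,3,3], [1,1,0,7,6,3], [7,0,6,6,1,7], [1,7,7,0,5,3], [2,2,4,5,3,3], [1,0,3,0,3],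 [2,0,5,7,7], [7,6,7,0,0,7], [3,3,4,7,0], [3,4,4,2,0,3], [6,5,7,4,6,3], [2,0,5,7,7,0], [3,3,4,5,6,3,0], [7,1,3,0,0,3], [3,0,3,5,7], [7,7,1,7,4], [6,7,0,0], [3,3,2,3,2,0], [4,7,2,3,1,1,3], [7,7,5,4,7,0], [3,5,4,5,2,3], [4,7,7,7,6,7], [6,0,6,3,2,7], [4,1,4,1,7,7], [2,0,0,2,7,7], [4,7,7,5,3,0], [0,5,5,0,7,7], [4,3,1,2,1,7], [0,5,5,0,7,7,0], [5,4,3,5,3,3], [5,4,1,3,1,3], [5,3,5,4,7,0], [5,3,5,4,7], [4,5,2,7,0,3], [0,3,1,4], [0,3,0,3,0], [3,0,7,5,7], [2,0,0,7,7,0], [1,7,2,4,7,4], [2,0,0,7,7], [5,6,7,4,6,3], [7,6,3,2,0,2,3], [3,2,4,5,7], [5,5,4,5,3,3], [0,3,0,0,0], [3,1,0,7,7,0], [6,0,7,7,7,5,0], [6,0,7,7,7], [4,7,1,7,7,7], [4,5,7,2,5,7], [1,2,0,3,6,3], [3,5,4,3,6,3], [4,1,7,4,6,7], [5,6,3,5,0], [3,0,2,7,1,7], [1,6,0,0,3,3]]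

/-- Part of the paths. -/
def pathsD48 : List (List ℕ) := [
[3,1,1,0,0,3], [3,3,0,6,7], [1,7,0,2,7], [7,0,0,2,0,3], [3,2,5,4,6,3], [6,4,3,3,0,0,3], [3,3,4,3,6,7], [7,4,5,5,3], [5,5,7,4,5,3], [6,0,2,0,3,3], [5,4,6,7,4,3], [7,2,4,6,4,3], [7,4,5,2,3], [2,0,6,4,7,7], [2,3,1,2,0], [3,6,4], [2,1,7,4,5,3], [7,4,3,0,0,3], [6,4,3,2,7], [4,6,5,7,2,3], [7,6,0,5,3,4], [6,3,3,4,7,7], [7,0,2,3], [7,6,0,2,3,0], [1,2,7,6,4], [5,7,7,7,0], [0,6,7,4,6,3], [3,3,0,2,3], [1,4,7,0,6,7], [4,2,4,6,7,7], [6,7,0,2,1,7], [5,0,5,3,3,3], [5,0,5,3,3], [3,6,6,0,5,3], [6,0,5,0,3,3], [3,3,4,7,1,3,0], [2,0,7,2,7], [6,0,7,1,6,7], [2,0,7,2,1,7], [3,1,7,0,0,7], [7,4,2,0,1,3], [2,3,4,3,6,3], [5,5,2,7,0,0], [1,4,3,0,3,3], [3,4,4,6,3,0], [5,5,6,0,7,7],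 [5,7,0,5,5,3], [1,1,3,4,1,7], [5,3,3,4,7], [7,2,0,6,7,0], [1,4,6,4,3,3], [0,3,5,3,0], [2,2,0,7,7,0], [1,2,7,4,1,7], [0,6,0,3,6,3], [2,5,4,2,3,3], [6,7,0,7,2,7], [5,3,4,2,2,3], [2,2,0,7,7], [4,7,0,0,7,7], [3,2,2,5,3,0], [3,6,4,2,3,2,0], [6,4,3,6,1,7], [7,4,5,7,6,7], [6,7,0,5,3], [4,3,3,0,2,7], [7,4,2,5,3], [2,7,5,7,0,0,3], [5,2,4,7,5,7], [3,4,3,2,0], [1,1,7,6,0], [6,7,4,7,4,7], [1,1,3,4,1,3], [7,2,0,6,0,3], [3,4,4,7,7,0], [7,0,0,0,7], [7,2,7,0,3,3,0], [0,6,4,7,4,3], [3,3,0,7,1,7], [7,0,5,7,5,3], [6,7,4,2,1,3], [4,4,3,1,3,3], [4,6,6,7,5,7], [7,0,5,7,7], [7,0,7,1,7], [5,5,7,0,0,7,0], [3,0,7,2,7,0], [7,1,4,6,7], [2,3,4,7,1,7], [2,2,7,4,5,3], [3,5,0,2,3,3], [2,3,4,7], [4,7,4,7,1,3], [4,3,3,6,7], [4,5,4,3,1,3],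 [7,0,6,0,3], [7,7,4], [0,0,3,0], [4,5,4,7,7], [3,3,4,4,6,3]]

/-- Part of the paths. -/
def pathsD49 : List (List ℕ) := [
[4,5,4,7,7,0], [2,3,5,4,7,0], [0,3,0,5,3,3], [3,3,0,5,7], [2,3,5,4,7], [1,3,2,4,2,7], [5,4,6,5,3,3], [7,6,3,3,4,7,0], [4,1,2,1,3,3], [2,3,4,7,5,7], [4,6,6,7,7], [3,6,1,4,7,0], [7,7,6,0,6,3], [7,7,0,5,7], [3,0,7,6,5,7], [5,2,0,7,4,3], [4,7,2,5,7], [7,4,7,4,1,7], [7,7,2,5,4,7], [5,4,2,3,4,7], [2,3,2,2,0,0,3], [4,7,7,0,1,7], [1,1,0,3,2,0,3], [5,0,5,7,7], [1,6,4,5,3,3], [5,0,5,7,7,0], [2,4,7,5,7,7,0], [7,2,7,4,7,0,0], [3,3,0,2,3,0], [2,4,7,5,7,7], [4,7,0,7,1,3], [3,6,4,1,1,7], [1,7,0,2,1,3], [7,1,0,6,7,0], [6,7,1,3,4,7], [7,4,2,4,2,7,0], [5,6,7,0,0,7,0], [1,4,7,0,3], [6,4,5,6,3,3], [4,7,0,3,3,3],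 [5,3,4,7,7,0], [3,5,4,5,3], [2,5,4,7,7,0], [0,7,4,5,7,7], [2,5,4,7,7], [3,3,4,5,7,0], [2,5,7,6,0], [6,7,7,1,0,0], [1,6,1,3,4,7], [7,7,1,4,7], [3,4,4,6,3], [5,0,2,7,5,7], [5,3,2,3,4,7], [2,7,5,7,4,1,3], [6,1,7,0,2,3], [3,4,4,5,5,3], [0,1,0,7,0,0], [2,1,4,3,0], [0,3,0,3,0,0], [2,7,1,4,7,4], [7,6,4,7,6,3], [3,2,0,7,7,0,0], [7,7,0,7,2,7], [6,6,4,7,0,3], [7,2,4,7,7,0], [1,3,0,7,7,0], [2,0,5,3,2,7], [5,0,3,0], [0,0,0,3,0,0], [4,7,2,3,3], [1,2,4,3,6,3], [0,7,4,1,2,3], [5,0,7,4,3], [3,2,0,7,6,3], [4,7,7,1,7], [4,6,1,7,7], [3,2,0,5,7], [7,2,2,0,3], [2,3,5,4,1,3], [2,0,6,7,2,3], [6,4,3,2,5,3], [7,1,1,0,6,7], [3,1,3,4,7,0], [6,0,5,6,3,3], [6,7,7,4,7,0], [3,2,0,0,0,7], [3,4,7,0,7], [4,6,3,3], [7,0,2,7,6,3], [4,6,3,3,3],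 [4,4,7,2,3], [2,3,4,2,3,3], [1,7,4,5,7], [1,4,3,6,0,3], [7,7,6,4,7,0], [1,2,4,7,4,3], [6,0,7,7,0], [6,0,7,7], [1,7,0,5,5,3], [3,6,0,3,1,7]]

/-- Part of the paths. -/
def pathsD50 : List (List ℕ) := [
[3,0,0,0,3], [2,7,0,7,2,7], [3,3,0,0,3,4], [3,2,4,7,7,0,0], [6,3,4,7,7,0], [6,0,2,1,3,3], [7,1,0,3,4,3], [7,4,2,7,2,3], [7,4,3,0,3,3], [2,7,1,3,4,7], [1,7,1,4,2,3], [0,3,6,0], [4,2,1,3,3], [2,3,3,4,7,4], [0,3,3,4,7,0], [3,0,3,3,5,7], [6,5,4,7,0,3], [0,2,0,5,7,7,0], [3,5,7,0,7,7], [3,2,4,4,6,3], [3,5,5,7,2,0], [6,3,3,6,4], [5,6,0,3,0], [1,2,4,7,7,0], [3,2,7,4,4,7], [4,5,4,2,7,7], [0,2,0,0,7,7], [1,2,4,7,7], [2,4,3,5,0,7,0], [6,4,4,6,3,3], [5,3,5,3,4,7], [1,4,2,3,2,1,3], [4,3,1,7,5,7], [2,2,4,6,7,7], [4,6,7,2,7],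 [0,1,7,0,2,7], [4,6,5,3,0,7,0], [4,7,0,7,0,3], [4,2,0,3,1,3], [5,7,0,0,3,3], [3,0,5,7,6,0], [7,4,2,5,7], [3,2,7,0,6,3], [5,0,6,7,4,3], [6,3,3,0,2,7], [3,0,5,7,4], [3,1,4,4,3,4], [0,3,6,4], [3,6,6,5,0,3], [2,3,5,4,2,3], [2,4,5,3,1,3], [4,1,7,0,6,7], [2,4,6,7,7], [2,4,6,7,7,0], [5,3,0,7,7,0], [3,5,3,4,7], [6,4,6,7,2,7], [2,4,2,0,7,7], [5,4,1,6,3,1,3], [7,0,1,6,1,3], [6,3,0,1,0,7], [7,4,1,7,2,3], [3,5,5,4,7,0], [4,7,2,1,3,3], [3,1,0,2,0,3], [2,0,3,6,4], [3,3,4,1,7], [4,2,1,7,2,3], [3,1,4,6,3,3], [7,0,6,3,2,7], [7,1,7,0,6,3], [4,2,7,5,7], [2,5,0,7,5,7], [4,1,6,4,3,3], [6,5,0,2,3,3], [4,4,4,7,7], [4,5,3,4,7], [1,3,3,0,5,7], [6,3,2,5,4,7], [3,3,1,0,2,3], [0,2,2,0,7,7], [7,0,0,7,7], [6,7,1,7,0], [1,2,4,7,0,3], [6,4,6,7,7],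 [5,6,4,7,7], [0,6,7,0,5,3], [3,3,0,2,7], [6,4,6,7,7,0], [6,4,5,3,1,3], [5,6,4,7,7,0], [7,4,3,5,3,3], [3,0,1,0,7], [3,5,4,7,6,3], [5,4,2,2,3,3], [3,6,6,4,1,3], [5,7,0,0,7,0], [6,4,4,3,1,3], [4,3,6,6,4,3], [7,5,0,3,2,0]]

/-- Part of the paths. -/
def pathsD51 : List (List ℕ) := [
[5,4,7,7], [3,1,4,6,4,3], [5,4,7,7,0], [6,3,5,4,5,3], [1,4,4,3,1,3], [3,3,2,0,2,3], [3,6,0,6,5,3], [4,2,0,7,2,3], [2,3,4,2,2,3], [2,0,6,1,7,7], [5,0,2,7,4,3], [2,0,7,7,1,7], [4,3,6,0,2,7,0], [6,5,3,3,4,7], [0,3,3,0,2,3,0], [2,0,6,1,7,7,0], [7,0,7,1,3], [1,4,2,0,7,7,0], [4,2,3,2,1,3], [4,2,3,0,7,0], [7,7,4,3,6,3], [2,3,4,7,7,0], [4,1,1,4,3,3,3], [4,1,7,0,3], [2,4,3,4,2,0], [3,0,6,3,1,3], [7,7,0,0,0,7], [0,3,4,4,6,3], [6,0,2,3,2,7],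 [7,7,7,4,4,3], [2,3,0,7,7,7], [4,4,2,0,7,7,0], [1,2,0,5,3,3], [4,7,1,7,0], [5,0,3,6,4], [5,4,1,7,2,3], [5,4,7,5,7], [6,6,0,0,7,7], [7,2,3,4,4,3], [7,4,2,7,7], [5,0,1,6,3,3], [7,6,0,7,4,3], [3,1,3,0,5,7], [1,3,4,5,4], [3,1,0,3,4], [4,3,5,4,2,3], [1,7,0,0,7,0], [4,4,5,3,1,3], [2,5,7,0,6,7], [4,4,6,7,7], [1,6,1,4,7,7], [0,6,7,7,4,7,0], [4,4,6,7,7,0], [2,4,5,6,3,3], [0,6,0,7,7,0], [0,6,0,7,7], [7,0,1,7,2,3], [4,6,1,2,3,3], [7,0,7,7], [2,7,0,3,6,3], [7,0,7,7,2,0], [5,4,6,7,6,3], [0,6,3,4,7,7,0], [3,0,3,0,3,3], [2,7,2,2,4,7], [3,0,0,3,4,3,0], [3,3,4,2,5,3], [3,3,5,7,4,7], [4,5,3,4,1,3], [6,7,7,5,0], [1,7,4,6,3], [7,6,3,4,6,1,3], [5,4,2,7,7], [7,7,7,4,7,0], [6,0,2,1,7,7], [6,0,1,6,3,3], [6,4,7,5,7,4], [6,4,7,5,7],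 [3,3,0,5,3], [6,0,7,7,1,7], [6,3,4,2,2,3], [1,2,1,0,7,7,0], [1,2,1,0,7,7], [7,0,3,4,3,4], [4,2,2,7,7], [7,0,3,4,3,0], [3,3,0,0,6,3], [4,7,0,7,6,3], [1,7,0,6,7], [1,7,6,0,5,3], [7,5,6,7,4,7], [4,4,2,7,7], [0,3,5,3,4,7], [6,6,4,7,7], [2,2,3,6,4], [2,0,3,6,1,3], [4,4,7,7], [5,3,4,7], [1,6,0,7,4,3], [7,4,7,4,6,3]]

/-- Part of the paths. -/
def pathsD52 : List (List ℕ) := [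
[7,7,4,7,4,7], [5,5,4,3,6,3], [4,4,7,7,0], [2,1,3,5,4,7], [4,2,3,3,6,7], [5,2,3,4,1,3], [1,4,4,3,4,7], [5,4,2,3,1,3], [4,3,3,2,2,3], [4,1,7,1,7,7], [4,7,1,3,3,0], [3,2,3,4,2,0], [5,0,7,7], [2,3,4,1,7], [5,0,7,7,0], [7,0,5,0,3,3], [4,1,4,3,1,3], [3,3,4,1,1,7], [2,4,4,4,3,3], [2,0,7,2,3], [0,2,3,4,2,2,3], [7,7,4,5,3,0], [2,4,3,2,7], [2,2,7,0,2,3], [3,6,0,2,7,0], [6,0,3,2,1,7], [2,3,5,4,1,7], [2,3,3,4,7,7], [4,2,0,7,7], [1,4,4,6,3,3], [3,3,3,0,2,3], [3,4,6,5,4,7,0], [5,4,1,7,0,3], [5,7,0,7,1,3], [4,2,0,7,7,0], [4,5,4,2,3,3], [7,1,7,0], [1,2,3,1,2,0], [5,0,1,7,2,3], [5,0,7,5,7], [7,7,5,4,7,2,0], [4,5,3,0,3,3], [7,0,3,2,7], [7,7,1,4,7,0], [2,5,0,2,3,3], [4,5,6,4,3,3], [3,5,4,2,3], [7,0,7,5,6,7], [4,5,3,1,3], [2,3,3,0,2,7],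 [4,6,7,7], [5,7,0,3,6,7], [7,4,7,5,5,7], [4,6,7,7,0], [5,0,6,7,6,3], [5,6,4,2,3,1,3], [5,3,4,2,3,0], [3,1,2,3,4,7], [7,5,2,0,0,3], [4,2,4,7,5,7], [2,4,2,7,5,7], [5,3,4,1,3], [6,5,0,7,6,3], [7,0,7,6,3], [4,5,5,6,3,3], [5,3,6,0,0,0,3], [2,3,4,5,7,7], [4,2,7,7], [5,2,4,5,3,3], [4,2,7,7,0], [7,4,7,7,5,3], [4,7,7], [0,5,3,4,7], [2,0,7,5,7,7], [4,3,1,2,0,1,3], [4,2,5,3,1,3], [4,7,6,7,5,7], [4,7,7,0], [7,5,7,5,3,0], [7,2,0,0,7,7], [6,5,4,6,7,7], [0,2,4,3,2,7], [3,0,5,3,3,3], [3,2,4,5,7,4], [5,2,7,0,7,7], [2,5,4,7,0,3], [7,5,3,4,2,3,0], [2,0,7,7], [4,1,4,6,3,3], [1,7,6,4,1,7,0], [7,4,5,2,7,7,0], [5,0,1,7,0,3], [7,7,0,6,7], [2,0,7,7,0], [5,4,2,3,3], [5,7,5,0,3], [2,4,1,7,2,3], [5,4,7,0,2,3], [1,7,4,2,5,3], [4,7,5,7,7]]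

/-- Part of the paths. -/
def pathsD53 : List (List ℕ) := [
[5,2,0,7,6,3], [2,4,7,5,7], [4,7,6,7,1,3], [4,7,5,7,7,0], [3,4,3,0,6,3], [4,5,5,4,7,7], [2,1,7,0,2,3], [3,0,3,0,5,7], [2,0,7,4,6,7], [4,4,4,3,1,3], [1,2,3,4,7], [3,2,2,0,0,3], [3,2,5,4,7], [1,4,6,3,3], [5,3,4,1,6,3], [3,5,2,4,2,7], [5,4,1,1,3,3], [5,0,2,3,3,3], [0,2,0,7,7,0], [5,0,2,3,3], [7,2,0,0,7], [5,5,4,7,7], [2,3,0,1,0,7], [7,0,3,6,7], [6,4,2,1,7,7,0], [4,4,3,1,3], [1,4,6,7,7,0], [7,2,0,3,4,3], [2,4,4,3,1,3], [4,1,6,3,3], [5,7,4,7,6,3], [4,2,1,7,7], [5,0,1,1,3,3], [4,1,6,3,3,3], [5,4,7,5,2,7], [4,2,1,7,7,0], [4,1,6,0,7], [4,7,1,3,2,4], [1,6,4,5,3,4], [4,2,0,1,7], [6,7,4,7,0,0], [4,3,2,5,2,3], [5,6,6,4,7,0], [4,2,7,0,7], [5,6,6,4,7], [0,2,4,4,3],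 [0,0,7,4,7], [1,6,4,5,3], [1,4,1,4,3], [6,5,4,2,0,3], [5,7,4,5,3,0], [4,4,6,7,0], [4,4,6,7], [4,2,7,0,7,0], [6,7,4,7], [4,6,6,5,7], [7,5,4,6,4,7], [1,4,6,0,7], [3,1,0,0,3,3], [7,5,4,7,7], [6,5,2,4,7], [1,4,6,3,4,3], [0,7,4,7,4], [0,7,4,2,3], [4,4,2,7,0,7], [6,1,2,0,6,3], [2,4,4,3], [0,7,4,7], [5,0,6,1,0,3], [2,4,3,5,7], [6,1,4,1,4,7], [0,7,4,7,5,0], [4,4,4,6,7,0], [4,4,4,6,7], [1,3,5,4,6,3], [4,6,7,4,7], [5,0,2,0,3], [0,7,4,7,0,0], [3,2,7,2,3], [7,6,3,3], [6,1,1,4,7], [6,5,0,6,3], [6,1,1,4,7,4], [5,3,0,6,3], [7,2,4,4,4,3], [7,4,7,4], [7,4,2,3], [0,5,0,2,7,4], [6,4,7,7,2,0], [4,2,4,4,3], [7,4,7], [0,5,0,2,7], [1,1,4,4,3], [1,1,4,4,3,4], [7,4,7,5,0], [5,4,2,0,3,4], [5,5,7,6,4,7], [7,4,7,5,2,0], [4,4,6,7,4,7],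 [5,4,2,0,3]]

/-- Part of the paths. -/
def pathsD54 : List (List ℕ) := [
[7,4,7,0,0], [2,7,4,7,5,0], [5,0,6,3], [4,7,5,3,0], [5,0,6,3,2,0], [2,7,4,2,3], [4,5,3,1,6,7], [2,7,4,7,4], [1,6,4,1,3], [4,2,5,5,7,0], [2,7,4,7], [2,7,4,7,0,0], [1,1,4,7,0], [1,1,4,7,4], [1,1,4,7], [5,0,5,5,3], [6,4,7,1,3,0,0], [4,7,7,2,0], [4,7,7,6,7], [3,1,6,4,2,7], [4,2,5,5,7], [2,4,2,4,4,3], [2,2,4,7,1,3], [4,7,6,3,3], [4,2,3,1,0,3], [6,4,5,3,4], [7,4,7,6,4,3], [6,4,5,3], [4,5,6,7,0], [4,5,6,7], [2,1,4,1,7,0], [0,5,7,4,7], [4,1,4,3,2,0], [7,4,2,2,7], [4,7,6,3,1,7], [0,6,5,4,7], [7,0,0,3,6,4], [2,1,4,1,7], [4,1,3,5,7], [6,4,1,2,1,3], [4,2,3,3,6,0], [6,7,0,2,3,0], [4,1,4,3], [4,1,4,3,4], [5,6,7,4,7], [5,3,4,3,0,7], [4,6,5,0,6,3],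 [2,0,2,5,3,2,0], [4,5,3,0,6,3], [2,0,2,5,3], [4,7,4,7,4], [4,7,4,2,3], [5,0,2,7,4], [1,2,0,6,0,3], [1,2,0,5,0,3], [4,7,4,7], [5,0,2,7], [7,6,4,4,3], [2,4,6,6,0,7], [4,7,4,7,5,0], [3,0,1,2,0,3], [2,0,1,6,1,3], [5,0,2,7,0], [1,6,3,4,7,0], [4,5,4,2,0,3], [4,7,4,7,0,0], [7,1,3], [1,4,2,2,4,3], [5,4,6,3], [5,4,6,3,4], [5,4,6,3,2,0], [5,4,7,2,7,0], [2,4,3,6,4,3], [0,2,2,4,4,3], [4,1,6,4,1,3], [7,2,2,1,4,7], [7,4,7,7,0], [5,7,0,5,0,3], [4,1,1,4,7,0], [2,4,6,3,3,0], [7,4,7,7], [5,4,5,5,3], [0,5,2,4,7,4], [4,4,7,7,2,0], [5,4,5,5,3,4], [2,4,6,5,0,3], [7,4,5,3,0,0], [2,4,7,1,3,0], [7,1,3,5,2,3], [2,7,6,0,7,0], [7,2,4,7,7,0,0], [6,5,4,7,4], [2,2,4,2,0,7,0], [4,6,4,5,3], [4,4,5,6,7,0], [4,4,5,6,7], [3,1,4,6,3], [5,7,4,7],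 [1,4,4,3,2,0], [5,5,4,2,0,3]]

/-- Part of the paths. -/
def pathsD55 : List (List ℕ) := [
[5,7,4,7,0,0], [6,5,4,7], [7,7,4,1,7], [6,5,4,7,0], [1,4,3,5,7], [5,7,4,2,3], [1,1,4,1,6,3], [2,2,4,1,7], [1,4,4,3], [1,4,4,3,4], [4,5,6,7,4,7], [2,3,3,6,3], [1,6,6,7,1,3], [6,5,4,5,7,0], [6,4,2,4,4,7], [1,3,0,2,3,4], [7,4,2,7,5,0], [2,2,4,5,2,3], [4,4,7,4,7,4], [4,4,7,4,2,3], [7,4,5,4,3], [5,4,2,3,1,3,0], [6,5,4,5,7], [4,4,7,4,7], [5,4,2,7], [2,5,5,4,2,3], [7,4,6,0,7,0], [6,0,2,0,5,7], [6,7,4,4,3,3], [2,2,4,6,5,3], [5,4,2,7,0], [5,0,6,6,0,7], [0,7,2,4,6,3], [6,6,0,0,6,3], [7,6,0,5,0,3], [4,2,5,3,4], [2,0,5,6,7,0], [2,0,5,6,7], [4,1,2,2,3,4], [4,5,7,6,7], [4,4,3,4,7,6,0], [2,4,6,6,3], [0,6,7,4,1,3], [2,4,1,3,2,0], [2,3,4,7,5,0],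 [4,2,5,3,2,0], [2,2,1,4,7], [3,6,5,0,2,3], [4,2,5,3], [2,2,1,4,7,0], [2,4,1,3], [4,1,6,1,3], [2,4,1,3,4], [4,1,1,1,3], [4,1,2,2,3], [4,7,1,3], [7,0,7,7,4,3], [4,1,6,1,0,3], [4,3,5,0,7], [4,6,7,6,3,4], [4,6,1,2,0,3], [2,2,7,4,7], [0,7,6,4,7], [2,5,0,6,3], [5,4,2,2,7,0], [2,1,1,4,7,0], [2,1,1,4,7], [4,3,5,6,3,4], [5,4,2,2,7], [4,7,1,3,0,0], [4,5,7,5,6,3], [3,2,0,5,7,0], [4,1,2,0,3], [2,2,7,4,2,3], [4,7,6,3,4], [0,5,6,4,7], [2,4,7,7,2,0], [2,1,4,6,0,7], [4,5,4,6,3], [5,2,4,7], [3,0,6,5,7,0], [1,3,4,4,2,3], [2,0,7,4,7,4], [2,2,4,4,3], [1,2,0,6,3], [3,0,6,5,7,0,0], [4,7,4,7,7,0], [2,0,7,4,7], [5,2,4,7,0], [1,4,1,4,7,4], [1,4,1,4,7], [6,5,2,4,1,3], [5,2,4,7,4], [7,2,4,2,7], [2,5,0,2,0,3], [3,5,0,6,0,3], [7,6,3,4,1,7],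 [1,7,2,4,7,0], [5,7,6,3,3], [6,3,4,3,1,3]]

/-- Part of the paths. -/
def pathsD56 : List (List ℕ) := [
[3,2,2,3,3], [6,0,1,1,7], [2,4,5,6,0,3], [4,7,7,1,7,0], [2,0,7,2,3,4], [2,4,5,5,0,3], [4,5,6,5,3], [7,1,0,2,3], [5,6,4,4,3], [1,7,4,5,3,0], [6,0,1,1,7,0], [4,6,1,2,3], [7,1,0,7,7], [7,6,5,4,1,3], [4,5,5,2,3,4], [4,7,6,7], [7,6,4,2,5,7], [7,0,5,3,3,0], [4,2,2,5,3], [6,0,2,5,4,3], [4,2,1,2,2,3], [4,5,5,2,3], [0,0,2,7,1,3], [0,7,6,6,7], [5,5,4,2,7,0], [3,0,2,3,4], [5,7,4,5,4,3], [5,5,4,2,7], [6,7,4,4,3,0,0], [2,1,0,7,1,7], [3,5,2,4,2,3], [4,5,7,4,7], [4,1,4,4,3,2,0], [6,5,4,3,0,7], [2,2,7,0,0,7], [2,0,2,4,3], [4,7,7,4,1,7], [4,6,5,4,7,0], [4,1,4,3,5,7], [4,5,7,4,2,3], [2,0,2,4,3,4], [7,2,4,7,6,4], [4,1,4,4,3],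 [3,5,0,7,6,3], [3,5,3,4,6,3], [7,5,3], [3,4,7,7,7], [2,7,0,5,3,4], [1,2,0,5,7], [0,6,4,4,3], [1,2,0,5,7,0], [7,1,4,6,4,3], [2,0,0,6,3], [4,6,5,3,4], [5,6,1,4,2,3], [4,4,2,0,2,3], [4,5,2,3,4], [4,1,7,6,7], [4,6,5,3,2,0], [7,0,6,5,4,3], [3,1,4,7,4], [4,6,5,3], [7,6,4,5,7,4], [2,1,4,3,2,3], [4,2,1,2,3], [7,6,0,5,7], [4,6,1,6,3], [4,5,2,3], [6,3,3,6,3], [5,3,3,0,7,0], [7,5,0,5,3], [1,2,0,0,0,7], [3,1,0,2,3,0], [5,0,2,5,3], [0,7,7,0,0,3], [5,3,4,7,6,0], [6,7,6,4,7,0], [6,6,4,2,1,3], [5,0,1,6,1,3], [7,1,2,0,0,7], [5,7,4,1,3], [4,5,4,2,7], [1,1,0,0,0,3], [2,4,1,4,6,3], [7,7,0,7,7,0], [6,6,4,6,3], [5,4,6,6,0,7,0], [4,5,4,2,7,0], [5,4,6,6,0,7], [7,2,4,6,3], [2,7,1,4,6,3], [6,0,1,6,1,3], [6,0,2,5,3], [1,4,6,1,3,4],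 [1,4,1,1,3,4], [6,0,1,2,2,3], [1,6,0,0,0,3], [6,0,2,5,3,2,0], [7,4,2,4,7,0], [6,7,4,1,3]]

/-- Part of the paths. -/
def pathsD57 : List (List ℕ) := [
[3,3,6,0,6,3], [1,4,1,6,6,3], [6,0,2,5,3,4], [6,3,4,7,6,0], [6,4,2,2,1,7], [4,4,2,5,3], [2,0,0,7,7,0,0], [4,2,4,1,3], [1,4,6,1,3], [7,5,0,5,7,0], [1,4,1,1,3], [1,4,2,2,3], [6,6,7,1,3], [4,1,7,4,2,0], [0,1,7,0,0,3], [6,6,1,4,4,3], [0,6,4,1,3], [0,7,0,0,6,3], [0,5,2,7,4,7], [4,1,7,0,6,0], [0,5,5,0,6,3], [4,1,7,0], [4,1,7,4], [4,1,7], [2,3,4,4,7], [4,4,7,0,7], [4,1,3,1,3,0], [2,2,5,4,7], [4,2,0,7], [4,2,3,4,3], [5,3,4,4,3,0], [1,3,3,4,2,3], [4,2,0,7,0], [2,0,2,0,5,3], [4,4,7,1,3], [3,2,2,3], [6,1,0,7,4,2,3], [1,4,6,1,0,3], [1,4,1,3,0,7], [5,5,6,0,6,3], [3,3,0,5,0,3],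 [1,1,7,4,2,3], [7,6,4,7], [0,2,4,4,7,0], [3,0,2,5,3,3], [0,5,0,5,7,0], [0,2,4,4,7], [6,6,4,2,5,7], [5,6,4,7,4], [2,4,7,1,7], [6,4,2,3,4,7,0], [6,0,2,0,3], [1,4,2,0,3], [1,1,7,4,7], [5,6,4,7,0], [5,6,4,7], [7,6,0,1,1,7], [6,4,7,1,3,0], [7,2,0,7,7], [1,6,0,2,7], [7,2,1,4,2,3], [6,0,1,2,2,7], [3,0,0,2,0,3], [5,5,0,3,3,0], [5,4,3,0,0,3], [5,0,7,4,3,0], [0,2,3,0,2,3,0], [2,5,4,1,1,3], [4,5,2,4,7,0], [5,0,6,5,7,0], [4,1,4,1,4,7], [2,4,7,7,0,0], [5,0,6,5,7], [7,2,0,2,7], [2,5,4,6,1,3], [7,4,2,4,7,4], [5,5,0,6,0,3], [7,2,4,4,7,4], [4,5,7,6,3,3], [5,6,7,1,3], [4,3,2,2,3,3], [5,2,2,4,7,0], [3,0,2,2,0,7], [1,2,4,1,3], [6,5,6,4,5,3], [3,0,0,6,7,0], [1,4,1,6,1,3], [3,4,2,4,7,0], [4,5,6,4,4,3], [2,3,4,2,7], [5,2,2,4,7],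 [2,4,2,2,7,0], [4,7,1,0,7,7], [3,4,6,0,2,7], [1,4,2,5,3,4], [2,4,2,2,7], [6,5,4,5,6,7], [0,2,5,4,6,3], [1,4,1,2,2,3], [3,6,3,0,6,3]]

/-- Part of the paths. -/
def pathsD58 : List (List ℕ) := [
[2,0,7,1,6,3], [1,4,2,5,3], [2,3,6,3,2,3], [0,2,7,1,3], [4,5,3,3,4], [4,2,3,2,7,0], [7,0,1,3,0], [4,2,5,7,0], [4,7,0,1,7], [4,2,5,7], [5,4,5,6,1,3], [5,2,1,4,7], [2,7,2,4,4,3], [7,6,4,6,3,0], [5,4,1,3,5,4], [5,2,1,4,7,0], [5,4,6,6,3], [5,4,2,1,1,3], [5,4,1,3], [4,6,0,1,7,0], [4,7,1,0,3], [2,0,2,0,3], [4,6,7,0,7], [4,1,7,1,7], [4,6,7,0,7,0], [3,1,4,1,7], [4,2,1,3,4], [4,6,3,4], [4,5,3,2,7,4], [4,5,5,3,4], [0,0,2,4,7,0], [5,2,0,2,7], [4,6,3,2,0], [7,0,2,7,4,3], [0,1,3,0,0,7], [4,2,2,1,1,3], [4,7,2,7,0], [1,7,4,7,7,0],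 [5,2,0,2,7,0], [4,2,1,3], [4,6,3,5,4], [4,6,3,5,2,0], [4,6,3], [7,0,5,0,3], [4,2,5,2,2,3], [4,5,5,3], [7,6,6,7], [6,4,4,6,7], [6,6,7,4,7], [3,0,2,3,2,0], [6,0,2,4,4,3], [5,7,4,7,1,7], [7,7,7,4,6,3], [6,4,4,6,7,0], [2,4,1,2,0,3], [2,2,5,0,6,3], [1,7,7,4,7,7], [0,2,4,5,7,0], [3,1,0,2,3], [2,2,1,1,4,7], [5,5,4,2,5,3], [5,7,7,0,0,3], [2,2,1,1,4,7,0], [2,4,7,6,3,4], [0,2,4,5,7], [1,4,4,4,3], [0,2,0,6,5,3], [7,1,3,4,7,4], [6,7,6,3,3], [4,7,5,3], [1,7,0,2,3,0], [4,4,3,2,0], [4,1,7,0,3,0], [5,5,7,4,7], [4,1,4,3,3,0], [1,4,3,2,7,4], [4,4,3,5,2,0], [4,7,1,0,7], [5,6,5,4,7], [4,3,5,7,0], [4,3,5,7], [4,1,4,6,0,3], [4,4,3,5,4], [4,4,3], [4,4,3,4], [0,2,5,4,1,3], [4,5,5,6,7,0], [4,5,5,6,7], [1,4,1,6,3], [2,4,4,5,2,3], [4,3,3,5,6,3],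 [2,4,7,1,3], [3,4,3,1,3], [5,6,4,2,0,3], [6,4,3,5,7,0], [6,4,4,3], [3,1,4,1,2,3], [5,3,2,0,0,3], [5,0,6,3,3,0], [3,0,5,5,3,3]]

/-- Part of the paths. -/
def pathsD59 : List (List ℕ) := [
[6,4,4,3,2,0], [5,0,3,6,4,3], [4,4,5,2,3,4], [1,4,7,6,7], [5,3,4,6,3], [6,4,7,1,0,7], [6,4,3,5,7], [4,4,6,5,3], [5,0,7,1,3,0], [3,0,1,6,3], [5,3,4,6,3,0], [4,7,6,0,5,7], [2,7,7,0,0,3], [4,4,5,2,3], [5,7,6,0,7,0], [3,5,0,7,0,3], [1,3,2,2,3], [7,6,3,2,1,3], [1,3,1,0,2,3], [2,5,2,4,7], [1,6,6,7,4,7], [5,4,2,5,3], [7,7,0,0,3], [7,1,1,4,7,0,0], [2,5,2,4,7,0], [5,2,4,1,3], [5,4,1,6,1,3], [1,0,2,4,5,7], [6,6,4,4,3], [7,7,0,6,7,0], [3,4,4,7,2,0], [2,5,2,4,7,4], [2,1,2,0,6,3], [7,4,7,1,7], [0,1,1,0,2,4,3], [2,2,0,7,4,7], [5,4,5,7,6,7],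 [7,5,0,5,5,3], [7,1,1,4,7,4], [5,2,4,5,2,3], [1,6,1,0,2,3], [5,7,2,5,4,7], [2,0,6,0,7], [6,6,4,4,7,0], [0,2,5,5,4,7,0], [7,2,0,3,3,0], [3,3,5,0,2,3], [4,6,7,4,1,3], [6,6,4,4,7], [2,5,0,6,7,0], [0,3,2,0,6,3], [3,4,4,4,4,3], [6,7,7,4,2,3], [2,5,0,6,7], [3,4,7,4,7,4], [4,4,2,4,1,3], [4,1,4,6,1,3], [2,0,6,0,7,0], [4,1,4,1,1,3], [3,5,7,4,7], [4,6,6,7,1,3], [6,7,6,0,7,0], [6,4,1,3,4], [1,7,0,0,3], [6,4,1,3,2,0], [6,4,1,3], [7,0,0,6,3], [5,2,7,4,7], [1,4,7,0,6,0], [5,5,0,6,3], [1,4,7,0], [1,4,7,4], [1,4,7], [6,3,4,7,5,0], [3,6,0,0,7], [1,4,3,1,3,0], [0,7,2,4,7,0], [2,5,4,5,3], [4,4,2,3,4,3], [2,4,2,0,0,3], [6,0,5,6,7,0], [5,4,7,7,2,0], [7,4,1,1,3,4], [7,1,0,3,3], [4,3,2,2,3], [1,2,4,7], [2,4,2,3,3,4], [7,4,2,1,1,3],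 [7,0,1,3,0,0], [6,3,4,4,3,0], [6,1,4,1,7], [2,1,0,6,3], [7,4,1,6,7], [4,5,2,4,3], [1,2,4,7,0], [2,0,0,5,3], [3,1,4,7,2,0], [5,4,2,5,7,0], [2,2,4,5,3], [7,4,7,4,3]]

/-- Part of the paths. -/
def pathsD60 : List (List ℕ) := [
[5,4,2,5,7], [5,5,4,1,3], [4,7,6,5,3], [6,0,7,5,3,0], [6,1,4,1,7,0], [4,6,3,1,7], [2,1,0,6,5,3], [6,5,0,6,7], [5,2,0,6,4,3], [5,5,0,3,4,3], [5,0,3,2,7,0], [6,5,0,6,7,0], [4,7,6,4,7], [2,4,4,7,0], [2,4,4,7,4], [5,0,5,7,0], [2,4,4,7], [2,1,2,0,2,3], [4,5,6,4,7,4], [5,0,5,7,4], [0,2,5,4,2,7], [6,0,6,0,7], [4,1,4,2,0,3], [2,0,0,2,3,4], [5,0,5,7], [4,5,6,4,7], [7,1,6,0,5,3], [0,7,7,7,2,3], [2,5,2,4,2,3], [0,6,6,1,4,7], [5,5,0,6,4,3], [1,2,4,2,7], [2,3,2,0,2,3], [2,0,5,3,2,3], [2,0,6,6,7,0],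 [2,1,0,2,3], [5,4,7,4,3,0], [2,3,0,2,3,0], [2,0,6,6,7], [1,1,4,4,7,0], [7,6,7,4,7,0], [1,1,4,4,7], [7,0,3,0,2,3], [5,4,6,5,7], [5,0,6,0,2,3], [0,2,2,4,1,3], [6,0,2,3,3,4], [1,2,4,2,7,0], [6,1,0,0,6,3], [5,0,2,7,1,3], [3,5,2,1,3,3], [4,5,6,7,1,3], [4,6,0,7], [3,0,2,2,4,3], [2,7,7,0,0,7], [4,6,3,4,3], [3,0,3,3,5,0], [7,5,7,0,5,3], [5,0,7,4,2,3], [4,6,0,7,4], [5,2,4,4,3], [4,5,2,7,0,7], [4,6,0,7,0], [7,7,2,4,7], [4,6,3,4,3,0], [6,4,2,2,7], [4,2,3,5,2,3], [7,0,2,7,4], [4,7,4,3,2,0], [4,6,6,1,7], [4,5,4,6,7], [0,2,0,3,3,0], [3,5,4,6,3], [1,3,4,7,5,3], [2,7,4,7,7,0], [6,0,0,6,0,7,0], [4,1,2,4,1,3], [6,7,4,6,6,3], [7,5,4,2,3], [3,6,4,2,0,3], [6,0,0,6,0,7], [3,5,0,2,0,3], [1,1,0,3,0,7], [6,7,4,5,7,4], [3,5,3,4,6,3,0],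 [0,7,4,2,0,7], [6,5,4,6,1,3], [0,7,4,1,7,0], [4,2,4,2,2,7], [6,4,7,7,0,0], [2,5,4,6,3], [3,4,4,6,1,3], [6,5,4,2,2,3], [1,0,0,2,0,3], [7,5,0,5,3,3], [2,7,6,6,7], [5,5,3,2,2,3], [1,6,1,4,7], [7,4,3,2,3], [7,0,2,3,0]]

/-- Part of the paths. -/
def pathsD61 : List (List ℕ) := [
[6,1,0,6,3], [0,2,0,2,7], [4,1,2,1,3], [4,1,6,3,4], [4,3,0,5,3,0], [4,5,3,5,4], [4,1,6,3,2,0], [4,1,6,3], [4,3,2,7,4], [4,5,3,4], [4,7,7,6,4], [3,6,0,0,6,3], [4,5,3,2,0], [6,4,2,0,1,3], [1,6,6,4,1,3], [4,5,3,0,2,4], [4,5,3], [4,2,5,2,3], [0,7,4,4,3], [4,6,5,2,3,4], [2,4,6,3,5,4], [4,3,5,0,3,0], [4,4,5,3,2,3], [4,6,5,2,3], [4,4,3,3,0,0], [2,4,7,2,7,0], [2,4,2,1,3], [2,4,2,1,3,4], [4,5,5,6,3], [2,4,6,3,2,0], [4,1,2,3,4], [5,5,3,0,0,3], [4,2,7,6,7],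 [2,4,6,3], [2,4,6,3,4], [4,2,5,5,2,3], [5,6,4,2,2,3], [4,1,2,3], [4,6,6,5,3], [2,7,1,3], [2,4,7,6,3,3], [3,6,6,0,2,3], [7,0,7,4,7,0], [5,4,5,6,7], [4,4,2,5,7,0], [7,4,5,7,2,0], [5,6,4,5,3], [7,7,0,6,0,3], [4,5,2,1,4,7], [5,0,5,7,4,7], [1,2,4,4,4,3], [6,4,1,4,2,3], [7,2,3,4,7], [6,3,2,0,5,3], [2,1,4,2,5,3], [4,5,4,1,3], [3,6,3,0,2,3,0], [4,4,7,1,0,3], [4,2,0,2,0,3], [1,7,0,6,7,0], [1,4,7,1,7], [7,7,0,1,3,0], [0,2,4,7,4], [4,4,2,1,3,4], [0,2,4,7], [2,5,0,3,3,0], [6,0,3,4,6,3], [0,2,4,7,0], [4,5,2,0,2,7], [4,4,6,3,2,0], [7,6,1,4,7,4], [1,3,0,0,7], [5,6,4,2,1,3], [4,4,7,2,7,0], [0,3,1,4,1,3,0], [3,3,4,6,3], [4,4,2,1,3], [4,4,6,3,5,4], [6,6,3,0,0,3], [4,4,6,3], [1,3,1,4,7], [2,0,7,4,3,0], [4,4,5,5,3], [5,7,6,3,0,7,0],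 [4,7,6,6,7], [4,5,3,4,2,3], [2,2,0,2,3], [1,3,6,5,4,7], [2,3,6,6,4,7], [6,1,0,6,7], [3,3,1,4,1,3], [7,6,6,4,1,3], [7,1,1,4,1,3], [5,3,0,3,3,0], [1,3,0,6,7,0], [7,0,3,0,0,3], [2,4,5,7,0], [4,3,1,0,2,3], [2,0,6,5,3,2,0], [6,3,0,2,7]]

/-- Part of the paths. -/
def pathsD62 : List (List ℕ) := [
[2,4,5,7,4], [6,1,0,6,7,0], [3,2,3,4,7,0], [2,4,5,7], [4,1,4,4,4,3], [2,0,6,5,3], [2,4,3,2,7,0], [3,5,2,3,3,3], [7,5,3,2,2,3], [5,7,1,3], [4,1,7,0,2,3,0], [4,4,4,3,2,0], [1,4,7,0,3,0], [2,5,4,6,6,3], [7,7,4,7,7], [2,4,2,5,7,0], [2,5,2,1,4,7], [4,4,7,1,0,7], [5,3,1,0,2,3], [4,4,3,5,7,0], [4,4,3,5,7], [2,2,0,2,0,3], [4,4,4,3,5,4], [4,4,4,3], [4,4,4,3,4], [2,5,4,1,3], [3,2,2,4,1,7], [2,4,2,5,7], [4,1,4,1,6,3], [3,0,0,0,7],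 [6,7,0,6,7,0], [1,7,2,7,1,3], [0,6,0,2,7], [4,3,6,7,6,0], [1,3,0,7,6,3], [4,2,2,4,3], [5,5,4,6,3], [7,0,1,0,7,0], [1,6,3,0,0,3], [4,5,7,7,2,0], [3,5,5,4,7], [7,0,7,7,0,0], [2,4,7,4,7], [2,5,0,2,7], [4,1,2,1,7,0], [2,7,6,4,4,3], [4,1,2,1,7], [5,7,4,7,7,0], [5,7,4,7,7], [2,5,0,2,7,0], [1,7,4,1,4,3], [2,4,7,4,7,4], [5,5,4,5,5,3], [7,1,3,2,7], [2,0,5,5,7,0], [0,2,2,4,7,0], [4,6,4,4,3], [1,0,6,0,5,3], [0,2,2,4,7], [5,4,6,3,3,0], [1,2,0,0,0,3], [5,4,6,6,0,3], [5,4,3,6,4,3], [2,0,5,5,7], [6,1,3,4,7,0], [4,5,3,4,6,3], [6,7,6,0,7,7], [0,7,6,4,7,4], [4,4,4,6,5,3], [5,4,7,1,3,0], [3,0,0,3,3,3], [6,3,4,4,3], [7,2,7,0,5,3], [5,4,2,1,0,3], [4,4,4,5,2,3], [3,5,0,7,7,4], [2,4,1,4,1,3], [5,7,4,4,3], [4,6,1,1,3,4], [4,2,3,2,0],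 [4,6,1,1,3], [2,0,7,2,3,0], [3,6,1,0,2,3,0], [0,6,1,4,2,3], [4,2,3,5,2,0], [2,3,4,1,7,0], [7,6,4,6,3], [5,2,4,4,2,3], [3,6,5,0,6,3], [2,0,6,7,0], [7,0,0,3,2,3], [4,2,3,5,4], [4,3,2,3,3], [4,2,3,4], [2,2,4,3,2,3], [4,2,3], [2,7,1,3,3], [1,0,7,1,3,3], [0,1,7,1,3], [3,2,7,5,3]]

/-- Part of the paths. -/
def pathsD63 : List (List ℕ) := [
[0,5,3,2,2,3], [6,0,6,6,7], [2,4,1,2,0,7], [6,0,6,6,7,0], [6,5,2,4,2,3], [6,1,0,2,3], [6,3,0,2,3,0], [3,6,0,5,3,4], [4,5,2,4,1,3], [7,1,0,2,0,3], [3,2,0,0,0,3], [0,3,0,3,3,0], [1,7,7,4,7], [1,0,1,0,0,3], [3,5,0,5,7], [6,3,2,0,2,3,0], [3,6,3,4,5,3], [1,1,0,2,4,3], [1,3,0,6,7], [7,7,5,0,5,3], [6,3,2,0,2,3], [2,4,1,1,7], [3,3,5,3,3], [6,0,1,3,2,3], [7,4,1,7,2,0], [2,5,5,4,7], [2,1,0,2,0,3],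 [1,0,0,6,7], [2,5,5,4,7,0], [6,4,5,3,3,0], [0,1,3,0,3,3,0], [1,7,1,4,1,3], [4,6,6,4,4,7], [7,1,0,0,7], [3,2,0,6,3], [3,1,0,2,3,3], [3,5,3,4,2,3], [7,6,4,5,3], [3,2,0,1,3,0], [6,0,3,0,1,7], [1,4,4,6,1,3], [1,0,3,4,7,4], [1,1,4,1,3], [1,0,0,6,7,0], [7,0,2,7,5,3], [1,7,7,2,3], [5,4,7,1,3], [2,1,2,7,1,3], [2,0,6,3,4], [6,4,7,0,3,0], [2,0,7,2,7,0], [2,0,6,3], [2,0,6,3,2,0], [6,4,4,3,3,0], [7,4,4,7,4,7], [2,3,4,7,0,3], [4,1,4,7,0], [4,1,4,7,4], [4,1,4,7], [1,0,2,0,5,3], [6,4,4,6,0,3], [0,2,4,2,7,0], [7,2,4,7,0], [2,0,2,1,3], [0,2,4,2,7], [3,4,4,2,3], [6,4,5,4,3,4], [6,4,5,4,3], [1,6,4,1,7,0], [3,6,3,3], [5,7,2,7,7], [5,6,1,7,1,3], [6,4,4,7], [1,6,3,0,2,3], [6,1,0,6,5,3], [3,4,4,7,0], [7,7,4,2,3], [6,4,4,7,0], [0,1,3,0,0,3],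 [3,6,4,4,3,3], [4,4,5,2,4,3], [4,1,2,4,7,0], [3,0,0,3,4], [4,3,1,4,7,2,0], [5,2,7,4,4,3], [6,4,7,0,0,3], [1,2,4,6,4,3], [0,3,0,5,7], [4,5,5,4,1,3], [1,4,6,0,1,3], [1,4,6,3,3,4], [0,2,1,4,6,3], [6,1,2,0,2,3], [5,5,7,6,3,3], [0,2,0,5,7,4], [1,6,0,0,7], [0,2,0,5,7,0], [6,0,0,6,3], [1,3,0,2,3], [0,2,0,5,7]]

/-- Part of the paths. -/
def pathsD64 : List (List ℕ) := [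
[4,4,7,6,4,7], [5,2,0,2,3], [6,6,4,5,2,3], [5,4,5,7,0], [4,2,4,4,7], [7,4,4,3,3], [7,4,4,3,3,3], [5,4,5,7,4], [2,5,4,2,7], [6,3,2,4,7,0], [1,4,4,2,0,3], [6,4,2,1,1,7], [5,4,5,7], [4,4,5,6,4,7], [5,0,6,5,3], [7,7,7,2,3], [7,4,4,3,0], [4,2,3,2,3,4], [2,5,7,4,2,3], [4,3,0,7,4], [2,1,4,4,3,4], [2,1,4,4,3], [4,7,5,3,4,3], [6,3,6,4,1,7], [5,4,7,4], [5,4,3,1,3,0], [4,5,6,1,7], [2,5,7,4,7], [5,4,7,4,2,0], [5,7,0,0,3], [4,2,3,2,3], [5,4,7], [4,5,3,4,3], [0,5,0,2,3,4], [5,4,7,0,6,0], [5,4,7,0], [7,0,3,5,5,3], [6,6,1,4,7,4], [6,6,1,4,7], [2,2,4,1,3,4], [1,6,6,0,6,3], [3,0,2,3,0,3], [7,5,4,5,7], [2,4,2,5,3,4], [1,3,0,5,7,0], [0,7,5,4,1,3], [5,2,4,1,7,0], [0,6,0,0,3], [3,6,7,4,1,7], [6,4,2,0,0,3], [2,4,2,5,3], [0,5,5,0,5,3],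 [7,6,7,0,2,7], [5,4,6,0,2,3], [2,2,4,1,3], [5,0,7,2,5,3], [6,5,4,5,3], [2,4,1,6,1,3], [2,2,3,3,6,3], [0,7,1,7,1,3], [4,3,6,0,3,0], [4,6,6,1,4,3], [5,0,6,0,7,0], [5,0,6,0,7], [1,3,0,0,3,3], [4,5,7,1,2,3], [4,5,7,7,0,0], [1,0,0,3,3,0], [4,2,7,5,0,7], [7,0,0,7], [0,7,4,6,3,0], [0,2,4,2,0,3], [7,0,7,7,0], [4,6,3,3,6,0], [5,5,0,6,7], [6,0,2,4,3], [4,6,7,4,3,3], [4,1,2,0,1,3], [6,1,4,6,4,3], [2,3,0,6,7,0], [1,0,0,6,0,3], [1,3,4,7,2,3], [5,4,7,5,3], [1,3,4,7,1,3], [4,4,6,0,7], [0,2,0,0,0,7], [3,3,3,4,5,7], [3,5,6,0,0,3], [2,3,4,2,5,3], [5,4,7,4,7,4], [5,4,7,4,2,3], [2,0,6,0,3], [2,0,5,0,3], [3,5,0,2,7], [3,0,5,0,3], [7,5,6,4,7], [3,0,2,5,2,3], [5,5,0,2,7], [3,6,4,3,2,3], [6,3,4,7,0]]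

/-- Part of the paths. -/
def pathsD65 : List (List ℕ) := [
[6,5,3,4,4,3], [7,2,0,5,7,0], [1,3,0,0,7,0], [2,0,3,3,0], [5,5,0,2,7,0], [6,6,7,5,3], [1,7,5,3], [6,7,0,0,7,4], [2,0,7,5,0,7], [1,4,2,4,1,3], [6,5,6,0,2,7], [4,7,5,4,2,3], [7,4,1,4,3,0], [7,4,2,0,7,0], [5,7,0,5,7], [1,6,7,4,1,3], [5,0,5,3,4,3], [1,1,4,1,1,3], [7,4,2,0,7], [5,0,2,3,2,3], [7,4,1,7,0], [7,5,4,5,3,0], [5,4,7,6,4,3], [4,2,5,4,6,3], [6,4,2,1,7], [7,1,0,2,1,3], [0,1,0,2,0,3], [5,0,5,0,7], [4,2,7,6,6,7], [0,2,2,7,1,3], [1,4,7,2,7,0], [2,0,2,7,4], [4,7,0,2,3,0], [2,0,2,7,0], [2,0,2,7], [1,4,2,1,3], [1,4,6,3,4], [6,3,0,5,7], [7,6,3,0,5,3], [1,4,6,3,2,0], [1,4,6,3], [4,4,3,2,7,4], [4,4,5,3,4], [5,7,4,4,7,0], [2,3,2,4,5,3], [4,4,5,3,2,0], [7,0,6,0,5,3],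 [5,2,0,1,0,7], [0,2,4,1,2,3], [4,4,5,3], [3,4,7,0,0,3], [5,7,5,3], [6,4,2,7,1,3], [7,4,4,3], [5,0,1,7,0,7], [5,6,4,2,7,4], [5,4,3,6,7,0], [2,1,4,6,5,3], [5,6,4,2,7], [7,6,0,3,4,7], [0,3,2,0,5,3], [7,1,4,2,7], [7,6,3,0,2,3], [7,4,6,3,2,0], [5,4,5,6,5,7], [1,4,2,3,4], [2,4,4,2,3], [3,5,3,4,4,3], [4,2,4,6,3], [5,0,7,5,2,3], [7,4,1,7,7,2,0], [7,4,3,6,3,5,0], [1,4,2,3], [1,2,0,6,7,0], [4,7,4,5,4], [4,7,4], [4,7,4,2,0], [4,7,0,6,0], [4,7,0], [4,7], [1,7,4,4,3,0], [5,6,4,1,3,2,0], [7,0,3,4,6,7], [4,5,2,0,7], [4,7,2,5,5,3], [5,7,0,0,6,3], [4,3,1,3,0], [7,0,2,4,3], [4,7,1,1,6,3], [7,0,0,3], [5,6,4,1,3], [4,7,2,2,1,3], [4,2,7,2,3,0], [4,4,3,4,3], [4,5,2,0,7,0], [4,2,7,1,3], [1,3,3,5,3,3], [1,3,4,4,7,0], [6,4,7,4,3,0],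 [3,0,7,5,3,4]]

/-- Part of the paths. -/
def pathsD66 : List (List ℕ) := [
[2,7,4,4,3], [6,4,6,5,7], [4,5,6,4,5,3], [1,7,7,4,2,3], [1,6,4,4,7], [6,4,5,5,4,3], [1,6,4,4,7,0], [3,1,2,4,5,7,0], [4,7,2,3,4,7], [2,7,1,4,2,7], [2,1,4,2,3,4], [2,1,4,2,3], [7,2,0,2,5,3], [6,0,6,0,2,3], [7,4,4,4,6,7], [3,0,2,0,5,3], [0,3,0,6,7,0], [3,1,2,0,2,3], [5,3,0,1,3,3], [2,4,7,4], [2,4,7,0,6,0], [2,4,7], [0,3,0,0,3], [2,4,7,4,2,0], [2,4,7,0], [2,4,3,1,3,0], [7,1,6,0,0,3], [2,1,7,4,4,3,0], [4,1,3,0,0,7], [2,7,0,2,4,3], [3,0,5,7,5,0], [3,1,4,1,3,0], [2,7,0,0,3], [4,4,4,2,1,3], [3,4,1,4,7,4], [7,1,7,6,4,7], [4,4,4,6,3], [7,4,6,3,5,4], [1,2,2,4,4,3], [5,5,5,4,1,3], [4,2,2,0,1,7], [4,2,4,6,7,0], [4,7,4,3,0], [4,6,5,7,4], [4,6,5,7,0],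 [4,6,5,7], [4,3,2,3,0,3], [7,7,4,4,7], [4,1,3,6,7,0], [4,1,1,1,0,7], [0,6,0,2,3], [2,2,1,4,2,3], [4,2,4,6,7], [4,2,2,7,0,7], [5,0,6,4,3], [4,7,4,6,0,3], [4,5,4,3,3,0], [1,2,1,0,2,3], [4,5,5,4,3], [5,7,0,0,0,3], [4,6,3,3,1,7], [6,5,3,2,2,3], [2,4,2,7,1,3], [6,6,4,7,0], [7,2,0,2,3], [6,6,4,7], [4,4,6,1,4,3], [6,6,4,7,4], [7,0,6,1,6,3], [7,7,0,2,7,0], [4,4,3,1,0,3], [4,7,0,3,4], [7,4,5,3,0], [4,3,6,0,7,0], [1,4,4,6,7,0], [4,2,1,4,3], [7,4,4,3,3,4], [0,2,3,4,7,0], [1,6,7,4,7], [3,5,4,2,3,0], [4,5,5,5,7], [7,4,6,3,6,0], [6,6,7,0,0,3], [7,2,1,4,7], [7,4,3,1,3], [0,5,2,7,1,3], [4,2,2,0,2,3], [7,7,1,4,1,3], [6,0,7,5,0,7], [5,0,3,5,0,3], [6,3,0,1,1,7,0], [1,7,4,4,7,0], [7,0,0,2,7,0], [6,0,5,2,1,7], [3,3,0,5,7,0], [0,7,2,0,0,3],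 [4,2,4,5,7,0], [3,6,0,6,3], [3,1,2,0,6,3], [4,6,3,0,2,7]]

/-- Part of the paths. -/
def pathsD67 : List (List ℕ) := [
[2,3,2,4,7], [7,5,6,0,0,3], [1,1,1,4,6,3], [4,2,4,5,7], [1,4,4,4,4,3], [4,2,0,6,5,3], [2,2,4,2,1,7], [4,2,0,7,1,3], [3,3,2,5,3], [6,3,4,6,3], [6,0,7,1,3,0], [6,3,4,6,3,0], [4,6,7,2,0,3], [4,7,6,4,3,0], [6,3,4,1,3,0], [4,5,7,0,7], [1,2,2,4,7], [3,4,2,4,4,7], [1,2,2,4,7,0], [4,5,7,0,7,0], [5,4,2,0,7,0], [5,4,1,7,0], [4,6,6,4,3], [3,3,4,2,3], [5,4,1,7], [0,6,4,1,7], [4,1,2,2,7], [6,3,2,0,0,3], [5,4,1,7,4], [2,1,4,1,3], [1,3,3,2,5,3], [1,1,7,1,3], [4,5,7,1,3], [0,6,1,4,7], [7,7,2,4,5,3], [2,0,0,3,4], [2,0,2,3,3,0], [3,0,3,2,4,3,0], [4,7,2,5,3], [7,7,6,6,4,7], [2,0,0,3], [5,0,1,6,3], [5,4,2,4,5,3],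 [6,0,1,6,7], [1,6,0,0,3], [0,6,6,4,1,3], [5,7,4,4,7], [4,6,3,2,3], [5,0,5,3], [5,0,5,3,4], [2,0,1,6,0,3], [7,0,6,0,7], [7,0,6,0,7,0], [7,1,0,3,6,3], [0,7,4,4,7,4], [6,0,1,1,0,3], [7,2,4,5,7], [6,4,3,5,0,3], [2,0,1,0,7], [6,0,3,0,7], [1,2,0,2,7,0], [1,2,0,2,7], [5,3,6,0,6,3], [7,7,7,4,7], [2,3,2,4,6,3], [2,5,3,1,4,7], [5,7,5,6,0,0,3], [4,4,4,4,3], [6,0,5,2,0,3], [4,2,5,4,1,3], [6,0,7,7,7,2,0], [7,4,4,7,0], [1,1,4,6,3], [7,5,7,0,2,3], [3,1,2,0,5,3], [7,6,1,3,5,7], [6,0,2,7], [0,6,6,0,6,3], [0,2,4,5,4,3], [6,0,2,7,0], [1,7,0,3,4,3], [6,0,2,7,4], [6,4,3,0,2,3], [7,7,5,4,6,3], [0,3,0,5,7,0], [7,2,4,2,7,4], [4,2,4,7,4,7], [4,2,5,0,2,7], [1,4,2,1,7,0], [1,3,1,4,2,3], [1,4,2,1,7], [7,7,4,2,1,3], [1,0,0,0,0,7], [6,3,4,3,0,7],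 [6,3,0,0,6,3], [2,0,2,4,2,3], [5,2,4,7,7,0,0], [6,1,4,7,1,3], [7,2,1,7,1,3], [6,4,7,0]]

/-- Part of the paths. -/
def pathsD68 : List (List ℕ) := [
[5,6,0,6,3], [6,4,7,0,6,0], [6,4,7], [6,4,7,4], [4,7,1,6,3], [7,0,5,3,2,0], [3,2,4,1,7], [4,7,7,4,3,0], [3,0,0,3,3,0], [1,1,4,2,0,3], [4,5,3,6,7,4], [7,6,7,4,4,7], [5,0,2,1,7], [4,2,7,5,2,3], [3,6,4,1,3], [1,7,6,4,7], [6,7,0,0,3], [5,0,2,1,7,4], [4,6,1,0,7,0], [5,0,2,1,7,0], [2,5,3,2,2,3], [2,2,4,7,4], [2,2,4,7,0], [4,4,6,4,4,3], [2,0,3,0,0,3], [2,2,4,7], [4,5,4,6,3,3,0], [6,7,4,5,3,0], [5,3,3,4,2,3], [5,6,0,7,1,3,0], [3,6,0,7,7], [5,5,4,1,7,0], [5,2,1,4,1,3], [7,4,5,2,3,4], [7,6,4,7,4], [7,0,0,5,3,3,0], [3,4,4,7,5,0], [5,4,1,2,2,7], [2,2,7,0,0,3], [5,6,3,4,6,3,0],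 [3,0,2,0,1,3], [5,5,4,1,7], [5,2,0,3,4,3], [5,0,2,2,4,3], [6,7,4,4,3], [7,0,7,4,7], [4,4,2,3,2,0], [1,4,6,5,3], [3,6,6,7,4,7], [1,0,6,4,4,3], [6,1,4,2,3], [0,6,4,2,4,7], [1,4,2,1,2,3], [3,0,6,6,7], [3,4,3,0,2,3], [1,7,6,0,5,7], [4,2,0,6,7,0], [5,2,0,0,7,4], [3,3,4,1,1,3], [4,4,3,2,3,3], [4,4,2,3,4], [0,2,4,4,6,3], [4,4,2,3], [7,1,2,1,2,3], [4,2,7,1,3,3], [0,1,7,1,3,3], [7,2,7,7], [4,6,1,0,3], [0,3,0,2,3], [0,3,4,2,4,7], [4,1,3,0,7], [2,3,4,6,3], [1,7,4,2,3], [4,2,0,3,4], [5,7,6,4,7], [0,0,0,2,7,0], [6,7,4,6,3,0], [2,0,2,1,0,3], [4,2,0,3,2,0], [4,2,0,3], [3,0,6,3], [2,0,6,3,3,0], [4,3,6,3,4], [6,0,0,0,0,3], [1,4,2,4,4,3], [3,0,2,1,3], [1,7,4,7], [5,5,6,4,7], [1,7,1,3], [2,7,7,2,7], [5,3,2,2,3], [6,1,4,6,5,3],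 [0,6,6,0,5,3], [2,4,7,4,3,0], [6,6,7,4,4,3], [2,4,6,5,7,0], [2,4,6,5,7], [5,0,3,0,2,7], [7,7,7,4,2,3], [3,6,0,5,6,3]]

/-- Part of the paths. -/
def pathsD69 : List (List ℕ) := [
[1,2,4,5,7], [3,0,3,3,0], [6,6,1,4,2,3], [0,1,1,0,0,3], [3,4,4,7,0,3], [2,5,0,6,4,3], [3,5,0,3,4,3], [3,5,3,0,0,3], [1,2,2,0,2,3], [3,0,1,2,1,3], [7,7,4,5,2,3], [1,2,4,5,7,0], [1,1,1,7,1,3], [5,2,4,4,7,0], [2,3,4,5,3,0], [5,2,4,4,7], [0,3,0,2,1,7], [0,1,0,6,7], [5,5,0,5,7,0], [3,4,4,4,5,3], [1,3,0,3,3,0], [7,0,0,6,1,7], [3,1,0,2,7,0], [4,7,1,0,0,7], [4,3,2,0,6,3], [7,7,4,4,7,0], [6,3,4,5,7], [2,0,5,2,7], [0,3,0,2,7], [6,0,2,3,0,7], [6,0,5,5,0,3], [6,6,5,4,2,3], [6,0,5,6,0,3], [2,4,3,0,7], [3,3,3,0,7,0], [6,3,3,0,7,0], [3,0,1,3,3],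 [3,1,3,1,3], [3,0,3,4,3], [4,7,2,7,6,0], [4,6,1,3,4], [4,1,1,3,4], [4,2,2,3,4], [6,0,0,0,3], [4,6,4,3,3,4], [3,6,1,4,7], [4,1,1,3,2,0], [7,0,7,1,7,0], [4,1,6,6,3], [3,0,7,2,5,3], [4,3,5,3,2,0], [2,0,3,6,7,0], [4,5,2,5,3], [4,7,0,3,2,0], [4,6,1,3,2,0], [4,6,1,3], [4,2,2,3,2,0], [4,1,1,3], [4,2,2,3], [3,4,1,7,1,3], [6,6,7,7,2,3], [4,2,0,6,3,4], [0,5,6,0,0,3], [3,0,2,1,7,0], [4,2,0,6,3], [3,1,4,4,4,3], [0,3,6,4,4,3], [6,1,0,0,7,0], [1,1,0,6,5,3], [1,4,4,7,0], [2,4,2,7,4], [1,4,4,7], [0,1,2,0,5,3], [0,3,1,4,1,3], [2,4,2,7,0], [4,7,2,4,7,0], [4,2,0,2,1,3], [2,4,2,7], [4,3,4,4,2,3], [2,0,2,2,1,7], [3,0,5,0,3,3], [3,0,2,3,5,7], [3,0,5,2,4,3], [0,0,0,0,7,0], [5,6,0,2,7], [3,0,7,7,2,0], [7,0,0,7,4], [2,7,4,1,4,3,0],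 [0,0,0,0,7], [1,4,6,4,7], [7,0,7,5,3,0], [3,4,2,0,0,3], [0,3,0,6,0,3], [7,0,3,4,3], [3,1,4,2,3], [3,0,6,1,7], [4,6,3,5,2,3], [4,2,1,7,4], [5,6,0,2,7,0], [6,3,2,4,7]]

/-- Part of the paths. -/
def pathsD70 : List (List ℕ) := [
[4,2,1,7,0], [4,2,1,7], [4,2,2,0,7,0], [4,3,6,3,3], [2,1,7,5,3], [4,5,7,2,7,7], [2,5,7,5,3], [7,2,7,7,2,3], [2,2,0,2,7], [2,2,0,2,7,4], [0,3,0,0,3,3], [4,3,4,4,7,0], [7,5,3,4,7], [4,6,4,4,7,0], [1,3,0,0,3], [5,3,4,4,3,0,0], [7,6,0,1,3,0], [1,4,2,4,7,0], [4,3,0,0,3,4], [1,6,0,5,0,7], [2,1,4,6,3,4], [0,0,0,3,3,0], [3,0,3,1,2,3], [3,0,5,7], [0,0,0,5,0,3], [3,6,4,2,3,4], [3,5,0,2,7,0], [2,1,4,6,3], [2,4,4,5,3], [2,7,2,7,7], [2,0,5,7,4], [7,5,4,7,4], [2,0,5,7,0], [3,2,0,7,4,3], [4,1,3,0,2,3],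 [2,0,5,7], [1,1,0,6,7], [4,5,2,0,2,3], [1,6,6,0,2,3], [4,5,4,5,7,0], [0,2,0,0,0,3], [0,1,0,2,7,0], [2,2,0,6,4,3], [1,1,0,6,7,0], [6,0,1,0,0,3], [6,1,0,2,4,3], [6,3,0,6,7], [6,7,7,4,7], [5,4,5,2,3], [5,3,1,4,7,4], [5,4,6,5,3], [3,4,7,5,3], [4,7,4,4,3,0], [6,4,1,1,0,3], [5,0,2,3,2,0], [1,0,3,4,7,0], [1,3,1,4,7,0], [5,6,4,5,7], [6,0,5,2,7], [5,0,2,3,5,2,0], [4,5,4,7,4], [1,1,4,2,7], [4,4,5,6,1,7], [4,2,5,7,4,7], [6,4,3,0,7], [3,0,3,1,7], [3,2,4,1,2,3], [5,0,2,3], [4,4,5,3,4,3], [5,0,2,3,4], [2,5,4,2,3], [4,5,4,7,0], [2,5,2,0,6,7,0], [0,3,4,7,1,3], [7,4,5,7,0,0], [5,5,0,1,6,3], [2,3,0,2,7,4], [1,4,2,4,2,7], [6,0,2,3,3,0], [5,2,0,0,3], [2,3,6,4,4,3], [2,3,6,0,2,7], [7,5,4,1,3], [3,0,3,4,7], [6,0,0,3], [3,0,7,4,3,4],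 [7,4,7,2,5,7], [1,0,1,0,2,3], [5,5,0,5,3], [2,4,2,4,2,7], [0,2,3,0,5,7], [1,3,1,4,1,3], [3,3,4,4,7,0], [6,0,1,6,0,3], [6,0,0,3,2,0], [7,1,3,2,2,3], [7,1,7,1,3], [2,7,4,3,1,3], [1,1,0,6,3], [1,2,4,5,3]]

/-- Part of the paths. -/
def pathsD71 : List (List ℕ) := [
[5,4,6,0,7,0], [5,4,6,0,7], [7,2,3,4,1,3], [2,4,6,1,0,3], [2,3,0,6,3], [0,1,0,3,3,0], [1,1,0,2,1,3], [0,0,0,0,3], [7,4,6,3,0], [2,4,2,0,3], [4,7,0,7,7,0], [0,2,4,6,1,3], [6,0,0,6,7,0], [2,1,7,4,7], [0,2,4,1,1,3], [1,4,2,0,1,3], [6,6,5,4,1,7], [7,4,5,6,7,0], [0,1,0,6,0,3], [0,1,6,7,5,3], [2,1,7,1,3], [0,6,7,7,2,3], [7,1,4,7,1,3], [2,2,7,7,5,3], [5,7,5,0,5,3], [2,0,0,0,7], [6,0,7,2,1,3], [6,0,1,3,4,3], [6,0,1,0,7], [2,3,0,6,0,3], [3,6,0,5,5,3], [7,0,0,6,0,3],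 [4,2,0,5,0,3], [6,0,1,0,7,4], [7,5,4,6,3], [1,0,0,0,3], [3,5,2,4,7], [0,7,7,4,7], [1,2,4,1,1,3], [4,6,3,4,7,0], [6,0,1,0,7,0], [1,1,0,3,3,0], [0,1,0,2,4,3], [4,2,0,3,3,0], [0,3,0,6,7], [7,7,6,6,7], [1,2,0,0,7], [1,2,0,0,7,0], [4,2,7,0,3,0], [4,2,4,3,3,0], [7,2,4,7,6,0], [4,5,6,0,1,3], [1,0,2,2,4,3], [2,0,2,3,3,4], [4,1,2,0,7], [1,2,0,3,4,3], [0,3,4,4,3,0], [5,0,5,3,3,0], [4,7,6,3,0,7], [4,7,5,6,7,4], [0,0,3,0,0,3,0], [4,1,1,7,0], [4,1,1,7,4], [4,1,1,7], [4,2,5,4,3], [0,0,7,7,2,0], [3,3,0,2,0,3], [4,1,7,5,3], [5,2,1,7,1,3], [2,4,1,7,0,7], [3,6,0,1,3,0], [5,7,4,4,3,0], [7,2,3,4,4,7], [1,7,2,4,4,3], [5,4,3,0,7,4], [2,0,1,1,7,0], [1,0,6,1,0,3], [5,5,7,0,0,3], [5,4,5,3,4,3], [0,6,5,4,2,7], [3,0,2,7,6,0], [6,1,1,4,1,3],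 [4,7,4,1,7,0], [5,5,4,7,0], [2,4,7,5,2,3], [7,2,7,4,7,2,0], [5,5,4,7,4], [5,2,5,7,4,7], [1,0,2,0,3], [5,5,4,7], [6,0,1,7,1,3], [3,3,5,2,2,3], [2,1,3,0,2,3], [7,0,5,3,4], [0,0,2,1,3], [0,0,6,3], [3,1,4,1,7,0], [0,0,5,5,3], [7,0,2,3,4], [4,1,7,7,2,0]]

/-- Part of the paths. -/
def pathsD72 : List (List ℕ) := [
[0,0,6,3,4], [4,6,7,7,0,0], [4,3,1,2,1,3], [7,0,6,5,7,0], [3,2,4,7,0], [4,2,1,1,7,0], [4,2,1,1,7], [6,4,6,5,3], [4,5,7,1,7,4], [2,2,5,4,2,7], [6,4,5,2,3], [4,3,1,6,7], [1,4,3,2,3], [2,2,7,1,3], [6,3,2,2,3], [5,0,5,6,0,7], [7,5,4,2,3,3], [2,0,7,4,4,3], [4,2,0,2,7,0], [4,2,0,2,7], [4,1,4,2,1,3], [5,0,1,6,4,3], [4,6,3,0,5,7], [7,1,4,6,3], [0,7,6,4,7,0], [4,1,4,6,3], [1,3,4,5,6,3,0], [1,6,0,3,3,0], [2,2,4,6,3],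 [0,6,4,6,3], [3,3,4,6,3,0], [2,2,4,2,1,3], [7,0,2,0,5,3], [2,4,1,2,3], [4,4,4,5,3], [1,6,0,6,0,3], [5,5,7,1,3], [7,4,3,0,3,4], [0,0,6,0,7,0], [7,6,4,7,2,0], [7,4,6,6,3], [7,4,6,1,3,0], [2,7,5,4,2,3], [0,0,6,0,7], [5,4,3,5,3,2,0], [5,4,5,2,5,3], [4,5,7,2,4,3], [7,4,5,7,4], [4,3,5,2,0,3], [5,4,6,1,3], [7,0,5,2,0,3], [4,7,1,2,3], [5,4,1,1,3], [4,5,3,3,2,0], [0,5,3,4,7,4], [4,7,7,0,0], [5,4,2,2,3], [0,5,0,6,7], [1,0,2,1,3], [1,0,6,3], [6,1,2,4,7,0], [2,7,0,2,3,0], [0,0,5,3], [5,7,4,6,3,0], [4,2,3,3,4], [2,4,1,6,3], [5,2,1,7,4,7], [2,4,1,6,3,4], [4,1,7,2,5,3], [2,4,5,3], [2,4,5,3,2,0], [2,4,5,3,4], [1,0,6,3,2,0], [0,7,4,4,7], [0,0,5,3,4], [2,4,2,5,2,3], [0,0,5,3,2,0], [4,2,0,1,3], [4,7,2,1,2,3], [1,3,6,3,2,3],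 [4,7,4,4,3], [0,2,0,0,7,4], [1,0,2,1,7], [1,6,0,6,3], [0,2,0,0,7,0], [6,5,2,4,4,3], [3,6,0,7,1,3], [3,2,0,5,3], [7,7,0,0,7], [0,0,2,2,4,3], [3,4,4,7,7], [5,0,2,5,4,3], [7,4,2,5,4,3], [4,2,4,4,2,3], [5,0,1,1,7,0], [4,4,2,4,6,3], [1,0,2,1,7,0], [3,0,6,0,3,0], [7,4,1,6,4,3], [4,1,4,2,3]]

/-- Part of the paths. -/
def pathsD73 : List (List ℕ) := [
[7,5,0,1,6,3], [1,0,6,5,3], [4,4,7,4], [4,4,7,4,2,0], [7,2,0,6,3], [4,4,7,0], [4,4,7], [5,2,4,2,7], [3,3,4,4,4,3], [7,5,0,2,0,3], [0,6,4,5,7], [0,0,2,3,2,0], [3,0,0,6,6,7], [6,5,0,5,7], [4,7,0,2,4,3], [3,0,3,2,7,0], [4,7,0,0,3], [1,2,0,2,3], [7,1,0,6,0,3], [7,6,0,6,6,7], [4,4,4,3,4,3], [0,0,2,3,4], [1,3,3,6,3], [4,4,2,7,1,3], [1,7,7,0,1,3], [2,2,7,5,3], [7,2,4,7,0,0],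 [2,5,4,3,0,7], [7,1,4,4,3,2,0], [6,7,0,7,7,0], [3,6,5,4,7], [7,1,4,7,6,4], [6,7,0,0,7], [5,2,4,5,7], [7,0,6,0,0,3], [1,0,2,3,3,4], [2,3,3,0,0,7], [0,3,3,0,6,3], [3,6,4,1,1,3], [5,6,3,0,2,7], [4,2,1,4,2,3], [2,0,7,7,0,0], [1,3,4,1,3,4], [5,2,0,6,5,3], [6,5,0,6,0,7], [3,0,6,7,0], [7,1,0,2,7,0], [3,5,7,7,2,3], [4,2,4,7,4], [6,6,0,6,5,7], [4,2,4,7], [3,0,0,3], [4,2,4,7,4,2,0], [4,2,4,7,0], [5,2,1,4,6,3], [6,0,2,3,2,3], [0,0,7,4,3,0], [5,3,0,5,7], [0,0,6,5,7,0], [2,4,4,4,2,3], [1,6,4,2,2,3], [1,0,3,6,7,0], [6,7,0,5,7], [3,3,4,2,0,7], [7,6,6,0,2,3], [3,6,7,4,4,3], [6,0,5,0,7], [0,5,0,3,3,0], [0,5,0,5,0,3], [6,3,6,0,3,3], [3,0,6,7,7,0], [6,0,6,1,1,3], [5,2,2,0,0,7,0], [6,6,4,5,7], [0,6,1,4,4,3], [4,4,6,5,7,0], [4,4,6,5,7],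 [6,0,6,6,1,3], [0,2,4,1,7,0], [1,4,3,6,7,0], [0,2,4,1,7], [6,0,2,3], [2,3,0,3,6,3], [2,3,0,2,7], [3,1,4,7,6,3], [5,4,6,4,3], [5,0,7,1,7], [2,1,0,6,7,0], [6,0,2,3,4], [1,6,4,2,7], [1,0,1,7,0,7], [6,0,2,3,5,4], [5,3,6,3,3], [3,6,7,5,3], [4,6,6,4,7,0], [4,7,2,0,2,3], [4,6,6,4,7], [0,1,2,4,4,3], [4,6,6,4,7,4], [3,0,6,0,7]]

/-- Part of the paths. -/
def pathsD74 : List (List ℕ) := [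
[0,0,6,1,0,3], [1,0,1,1,0,3], [1,7,0,7,4,3], [1,0,3,0,7], [6,3,4,2,1,3], [6,6,0,3,3,0], [4,4,2,1,4,3], [2,3,6,4,7], [2,3,4,7,0], [2,4,1,4,2,7], [0,0,2,0,3], [7,1,1,0,0,3], [1,4,7,7,0,3], [3,6,0,5,7], [6,6,0,6,0,3], [3,6,7,7], [4,3,6,7,4], [0,6,0,6,3], [4,6,7,0,3,0], [4,6,4,3,3,0], [0,0,2,1,7], [4,5,5,3,2,3], [7,0,7,7,4], [4,6,4,6,0,3], [4,6,5,4,3], [2,0,7,5,6,3], [4,2,7,1,2,3], [5,4,1,2,3], [2,3,4,4,3], [5,2,4,6,3], [4,1,7,1,6,3], [3,0,6,7,6,0], [3,2,4,7,6,0], [4,5,6,6,7], [0,0,2,1,7,4], [6,0,3,3,4,3], [0,0,2,1,7,0], [5,2,7,1,3], [7,6,3,3,3], [1,3,6,0,3,3], [2,0,6,0,2,7], [2,5,5,4,6,3], [0,0,7,1,2,3], [5,4,3,5,0,3], [7,5,2,0,2,7], [7,5,6,0,6,3], [6,1,4,2,2,3], [7,6,4,6,5,3], [5,0,3,0,7], [7,2,0,0,3], [5,4,7,7,0,3],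 [4,3,6,0,6,3], [5,4,6,1,0,1,3], [5,4,6,5,2,7], [6,4,2,4,1,3], [5,4,7,4,3,0,0], [6,6,7,4,1,3], [3,6,4,2,3,3], [5,0,1,1,0,3], [5,7,0,7,4,3], [0,0,7,7,0,0], [4,2,0,1,0,3], [1,0,7,2,5,3], [4,5,5,3,3,4], [4,5,4,2,4,3], [3,6,4,4,3,0], [4,5,2,5,7], [1,2,4,1,7], [6,5,6,4,7], [7,0,1,6,7,0], [7,6,4,2,2,3], [4,2,3,0,1,3], [2,4,4,4,3], [4,5,7,1,0,3], [7,0,6,7,0], [4,3,3,6,5,3], [6,6,0,2,0,3], [4,2,1,2,4,3], [6,5,6,4,7,0], [2,2,4,2,5,7], [6,1,4,2,0,3], [4,7,1,7], [0,2,7,5,3], [5,7,7,0,1,3], [4,6,3,4,6,3], [5,2,0,6,3], [1,0,7,1,6,3], [7,4,2,4,7], [7,5,0,5,7], [2,7,4,4,3,0], [0,0,3,6,7,4], [6,4,1,7,4], [3,5,0,6,7], [0,2,0,5,3], [0,0,3,2,0,3,0], [1,4,2,2,7,0], [3,4,4,7], [2,5,4,7], [2,5,4,7,4], [4,5,4,1,7]]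

/-- Part of the paths. -/
def pathsD75 : List (List ℕ) := [
[6,4,1,7], [6,4,1,7,0], [1,4,7,7,2,3,0], [6,4,2,0,7], [3,6,4,1,7], [0,7,7,0,1,3], [4,1,1,7,1,3], [1,7,6,0,7,0], [4,4,5,7,1,3], [6,4,3,2,2,3], [6,1,4,7], [5,7,0,2,3,0], [0,0,6,0,1,3], [6,1,4,7,0], [5,7,4,3,2,3], [6,1,4,7,4], [6,5,2,7,4,7], [4,2,0,0,3], [5,4,1,6,3], [2,2,4,2,5,3], [7,5,5,0,2,3], [5,4,5,3,2,0], [6,6,4,1,3], [6,1,7,0,0,3], [4,4,6,3,2,3], [5,4,5,3], [5,4,5,3,4], [1,4,1,7,0,7,0], [1,0,1,1,7,0], [2,0,6,0,0,3], [1,0,2,5,4,3], [7,4,4,7,4], [0,0,3,6,5,3], [6,3,0,5,6,3], [2,2,4,2,3], [4,2,0,1,0,7], [2,1,1,0,2,3], [6,0,5,6,3], [6,4,6,5,0,7], [6,6,0,6,7,0], [6,0,5,6,3,4], [7,7,7,7,4,7], [1,6,0,5,7], [2,0,0,3,2,3], [1,6,0,5,7,0], [1,7,0,0,0,3],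 [5,0,7,1,2,3], [3,6,6,0,6,3], [4,7,4,4,7,0], [3,0,3,4,1,3], [6,4,3,2,3], [5,0,7,7,0,0], [7,5,2,0,7,0], [1,7,7,5,3], [3,1,1,7,5,7], [4,6,0,2,7], [6,6,0,6,3], [2,4,5,4,3], [4,6,0,2,7,0], [6,1,6,4,7], [6,1,6,4,7,0], [2,4,7,0,3,0], [7,2,5,4,6,3], [3,0,5,7,0], [7,2,4,3,2,7], [1,6,4,2,0,3], [2,4,4,3,3,0], [6,0,2,1,7], [3,4,7,4,7], [1,0,6,5,0,3], [6,0,7,6,3,5,0], [5,2,4,2,5,3], [1,3,2,0,0,3], [3,3,4,1,7,0], [5,0,6,0,0,3], [1,0,6,3,3,0], [5,2,7,5,3], [0,7,5,7,1,3], [5,7,1,3,2,7], [0,0,5,7], [0,5,0,3,4,3], [2,0,5,6,0,7], [4,6,4,7], [4,6,4,7,4], [7,7,2,0,2,3], [0,0,3,2,7,0], [0,0,5,7,0], [5,7,0,3,4,3], [0,0,5,7,4], [5,3,0,6,1,7], [3,6,4,4,7,0], [5,6,3,2,4,7], [6,4,5,6,3], [0,2,0,6,4,3], [7,4,7,0,3], [6,4,5,5,5,3], [6,3,1,4,7],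 [5,4,2,1,7,4], [7,4,5,7,7,0], [5,4,2,1,7,0]]

/-- Part of the paths. -/
def pathsD76 : List (List ℕ) := [
[7,1,6,7,7], [2,2,0,5,3], [5,2,0,5,3], [1,0,3,1,7], [1,6,0,5,3], [4,2,2,4,7], [6,1,7,2,4,7], [3,2,4,5,2,3], [1,0,3,1,7,4], [2,3,6,4,7,0], [2,0,6,5,4,3], [5,4,3,4,4,7], [1,0,1,2,7,4], [3,1,4,6,5,3], [5,3,6,4,7,0], [2,0,5,6,6,7], [1,0,1,2,7,0], [5,4,6,4,1,7,0], [1,1,0,1,6,7,0], [2,3,4,1,7,4], [1,6,0,1,6,3], [4,5,5,4,1,7], [0,3,3,0,7,0], [0,3,4,6,3], [5,4,2,2,4,3], [4,6,7,4,4,3], [2,0,2,4,7], [3,0,7,6,3], [2,0,2,4,7,0], [0,0,7,1,3,0], [6,4,2,4,7,0], [6,3,0,0,3], [6,4,2,4,7], [0,3,4,6,3,0], [7,7,0,3,6,7], [0,0,3,6,4,3], [7,4,4,6,7], [7,4,1,4,3], [0,6,4,2,0,3], [0,3,2,0,0,3], [0,0,6,3,3,0], [4,4,4,2,3,4], [2,4,4,6,3],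 [4,4,4,2,3], [2,3,6,3,3], [7,2,3,6,3,3], [3,3,6,7,1,3], [2,2,0,6,3], [4,7,0,3,0], [4,4,3,3,0], [6,3,4,7,4,7], [2,2,0,6,3,4], [3,6,4,6,4,3], [4,4,6,0,3], [4,5,4,3], [0,0,7,2,0,3], [2,4,1,4,7,0], [4,5,4,3,4], [4,6,1,1,7,0], [4,7,7,0,0,0], [5,2,5,4,1,3], [4,6,1,1,7], [4,5,3,5,7,0], [2,4,1,4,7], [3,4,7,0,5,3], [1,3,4,7,4,3], [4,5,3,5,7], [0,0,6,4,3], [1,7,1,3,3], [1,3,3,2,7], [6,0,0,7], [3,0,2,3], [3,4,2,4,7], [6,0,0,7,4], [5,6,0,0,6,3], [4,1,7,4,2,3], [1,3,4,5,3,0], [3,0,6,6,7,0], [0,0,2,7,0], [2,2,0,7,1,7], [6,0,3,4,3], [5,5,4,5,7,0], [4,4,2,0,3], [4,3,0,6,3], [0,3,2,4,5,3], [3,0,7,4,7], [1,4,7,7,7,2,0], [6,0,3,4,3,0], [4,3,0,2,1,3], [4,1,7,4,7], [0,3,4,3,0,7], [7,7,5,6,1,3], [4,1,7,1,3], [5,0,2,4,7,4], [2,0,0,5,7],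 [6,0,3,3,6,0], [4,5,6,3,4], [0,5,3,0,0,3], [1,0,1,0,7,0], [2,4,6,4,7]]

/-- Part of the paths. -/
def pathsD77 : List (List ℕ) := [
[3,0,0,7], [4,5,6,3,2,0], [6,7,0,2,7,0], [4,2,5,2,1,3], [0,0,3,6,7,0], [4,5,7,2,7,0], [7,4,6,0,2,3], [4,5,2,1,3], [3,2,4,7,4], [3,1,4,7], [4,5,5,5,3], [4,5,6,3,5,4], [4,5,6,3], [4,6,5,6,3], [0,6,1,7,1,3], [1,1,6,7,1,3], [3,0,3,6,7,0], [6,6,0,5,3], [6,0,1,2,7,0], [0,0,6,5,2,7], [1,0,6,7,1,7], [6,6,0,1,6,3], [1,7,2,4,7], [6,0,3,1,7,4], [7,2,1,0,2,3], [4,1,2,4,5,7], [4,3,0,3,3,0], [6,0,3,1,7], [1,1,0,0,3], [5,2,2,0,0,3], [1,6,1,0,0,3], [5,0,1,6,7,0], [5,0,1,6,7], [1,0,7,1,4,3], [6,6,7,4,4,7], [5,0,1,7,2,3,0], [0,0,7,7,0,3], [0,3,1,6,3,3], [2,5,7,1,3], [4,5,2,4,4,7,0], [6,6,0,2,3],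 [3,4,4,4,7,4], [3,0,2,1,7], [1,0,6,7], [6,0,2,4,1,7,0], [7,1,4,1,3,0], [3,2,2,4,4,3], [5,2,0,5,7,0], [3,0,6,3,3,0], [2,2,4,5,7], [3,1,4,6,6,3], [6,5,4,6,4,3], [1,2,4,3,2,3], [5,5,4,5,2,3], [3,0,2,7], [3,0,7,4,7,4], [5,5,4,6,5,3], [1,3,4,7,4], [3,0,3,6,3], [1,0,6,7,0], [4,3,4,6,1,3], [6,3,0,2,3], [7,0,7,2,7,0], [6,4,4,2,0,3], [5,6,4,4,7], [5,3,4,4,7,0], [5,6,4,4,7,0], [1,0,0,3,2,3], [0,0,5,3,3,0], [3,6,4,6,3], [6,6,0,0,7], [2,4,6,4,3], [1,2,4,2,3], [7,0,3,5,0,3], [0,0,5,6,0,3], [4,6,0,1,3], [4,3,5,3,3,0], [4,6,3,3,4], [4,1,1,1,7], [2,0,7,1,7], [5,3,0,0,3,4], [3,4,7,4,1,7], [0,7,7,5,3], [1,4,7,7,2,3], [4,3,0,1,3,3], [7,2,7,1,3], [4,3,0,3,4,3], [2,0,0,0,0,3], [1,2,1,4,7], [1,4,1,3,4], [0,0,6,7], [1,2,1,4,7,0],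 [1,3,4,7,5,0], [7,4,4,5,5,3], [7,1,4,1,3], [0,3,4,1,7,0], [1,4,6,6,3], [6,5,4,1,7], [7,7,4,6,3], [6,5,4,1,7,0]]

/-- Part of the paths. -/
def pathsD78 : List (List ℕ) := [
[3,6,4,5,7], [1,4,1,3,5,4], [1,4,4,3,3,4], [4,4,6,1,3], [0,3,4,7,4], [1,4,1,3], [0,0,6,7,0], [6,1,1,7,1,3], [2,2,1,7,5,3], [4,3,3,6,3,0], [0,0,2,4,3,4], [4,5,6,0,7], [4,3,6,3,5,0], [4,5,6,3,4,3], [3,2,4,6,3,3], [3,2,2,4,7,0], [0,3,2,1,4,7], [5,7,5,6,4,7], [4,7,1,4,3,0], [4,3,6,5,3], [3,2,4,7], [1,6,4,2,1,3], [3,0,0,7,0], [0,5,3,0,6,7], [2,4,2,1,7], [4,1,6,4,3], [4,5,6,0,7,0], [1,6,4,6,3], [4,6,1,6,7], [5,2,0,3,3,0], [7,7,2,1,7], [2,2,1,7,1,3], [0,0,6,6,7], [5,6,0,0,3], [5,7,4,5,7,0,0], [4,4,2,0,6,3], [5,7,5,4,1,3], [3,6,4,4,3], [6,5,2,0,0,3],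 [3,0,2,7,4], [0,3,0,2,3,0], [3,0,3,2,0,3], [0,1,0,2,3], [1,2,0,5,3], [3,1,4,1,3], [4,2,4,2,7,0], [6,6,0,0,3], [0,0,3,3,0,0], [4,2,4,2,7], [3,6,0,2,7], [0,3,2,0,2,3,0], [0,1,0,2,3,4], [2,0,1,6,7], [7,7,1,2,3], [2,4,3,5,0,3], [0,0,0,7,0], [4,5,6,0,2,7], [0,0,6,1,7], [1,0,2,3,2,3], [1,7,6,0,6,3], [0,0,0,7], [2,7,0,7,4,3], [6,6,0,1,0,7], [3,4,7,4,2,3], [3,0,6,0,3], [1,2,3,0,0,3], [0,0,0,7,4], [5,0,3,3,4,3], [2,0,5,2,0,3], [0,3,4,7,6,4], [1,2,4,2,4,7], [4,6,3,2,4,7], [4,4,2,1,7,0], [4,4,2,1,7], [0,0,3,4,3,0], [4,4,3,6,3,3], [6,3,1,3,1,3], [7,5,5,3,3,3], [3,4,7,2,3], [4,2,5,7,5,3], [0,7,1,3,3], [1,3,4,5,7], [6,6,4,2,7,4], [3,0,0,3,3], [6,6,4,2,7], [0,3,4,5,5,3], [0,3,4,2,5,3], [4,1,3,0,0,3], [0,0,5,0,3,4], [6,1,1,4,2,3],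 [3,0,7,1,3,4], [5,7,0,7,7,0], [2,1,0,0,7,0], [0,0,6,0,3,4], [0,0,3,3,0], [5,6,0,2,4,3], [0,0,6,0,3], [0,0,5,0,3], [2,4,3,3,4,3], [0,0,6,0,3,2,0]]

/-- Part of the paths. -/
def pathsD79 : List (List ℕ) := [
[2,5,4,3,2,3], [4,2,4,4,5,3], [5,7,1,7,1,3], [3,2,1,3,1,3], [7,0,7,4,2,3], [1,0,2,7], [0,6,0,5,3], [5,0,2,2,4,7], [1,4,3,0,2,3], [4,2,0,5,7], [0,0,3,1,7,4], [2,1,0,3,3,0], [5,2,0,5,5,7], [1,6,1,4,6,3], [2,0,0,0,3], [1,0,2,7,0], [3,3,1,0,0,3], [5,6,3,4,4,3], [1,0,2,7,4], [4,6,1,0,2,4,3], [1,6,4,4,5,3], [2,2,4,1,1,3], [4,5,4,5,2,3], [6,0,7,7,0,3], [7,2,4,4,7], [7,4,7,2,2,3], [0,0,7,5,6,3], [2,0,5,5,0,3], [5,4,2,3,2,0], [0,1,3,4,7,0], [5,5,7,4,4,3], [1,7,2,5,4,7], [2,0,5,3,3,0], [0,0,0,2,2,7], [7,0,0,6,4,3],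 [4,1,1,4,2,7], [7,4,5,7,2,4], [6,4,5,4,7,0], [5,2,0,6,7,0], [1,2,4,6,5,3], [1,2,4,5,2,3], [5,4,2,3], [2,3,4,5,7], [6,5,0,2,3], [7,4,5,3,1,3], [4,4,5,4,7,0], [0,7,6,0,7,7], [3,4,7,1,3], [6,6,0,2,7], [2,1,3,0,0,3], [3,0,6,3,5,7], [7,2,4,1,2,0,3], [3,0,6,0,7,0], [4,5,2,0,0,3], [7,1,0,0,0,3], [7,4,4,2,1,3], [4,7,5,4,1,3], [4,3,0,3,4,7], [4,6,0,0,3], [5,6,0,5,0,3], [5,6,0,6,0,3], [0,1,1,0,2,3], [0,2,4,2,3], [7,1,4,2,5,3], [2,3,0,5,7], [5,6,0,3,3,0], [5,3,4,2,1,3], [2,2,4,4,5,3], [5,0,6,0,1,3], [4,3,4,7,7], [5,7,7,5,3], [1,2,3,2,2,3], [1,4,2,7,0], [4,7,1,6,0,3], [4,1,1,6,7,0], [1,4,2,7,4], [1,4,2,7], [4,1,1,6,7], [7,6,4,5,7], [6,6,0,5,7,4], [6,6,0,5,7,0], [7,1,0,0,3,4], [6,0,7,2,0,3], [5,5,0,2,3], [2,1,0,2,4,3],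 [6,0,6,4,3], [5,5,0,2,3,4], [0,3,4,7,0], [5,2,5,4,2,3], [4,5,5,0,7,0], [3,1,4,7,0], [0,3,6,4,7], [1,0,1,3,3,2,0], [7,7,2,3], [3,5,2,7,1,3], [1,0,6,1,7], [7,4,7,6,7,0], [2,1,4,4,7,0], [1,0,0,7,0], [4,3,6,3,2,0]]

/-- Part of the paths. -/
def pathsD80 : List (List ℕ) := [
[2,1,4,4,7], [7,2,0,2,3,0], [4,1,7,1,3,0], [1,0,0,7,4], [5,6,0,6,7], [4,7,6,6,1,3], [0,3,4,4,3,3], [1,0,0,7], [1,0,3,4,3], [0,3,0,3,0,7], [4,3,3,4,3], [5,4,3,2,3], [5,4,6,5,0,7,0], [4,1,6,3,3,0], [5,0,5,6,3], [5,6,0,6,7,0], [2,3,0,3,4,3], [6,1,0,2,7], [6,1,0,2,7,0], [1,3,4,2,5,3], [2,4,1,6,6,3], [3,0,0,3,5,4], [4,2,3,0,6,3], [1,0,3,3,0], [7,2,0,5,7,7], [0,0,0,3], [4,7,4,6,3,0], [0,0,2,3,3,0], [4,4,7,0,7,7,0], [2,4,6,1,3], [1,1,0,6,5,7], [4,2,1,7,4,7],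 [2,4,1,1,3], [3,0,3,1,1,3], [2,4,5,2,5,3], [3,6,0,5,3], [1,0,6,0,3], [1,6,7,5,3], [4,2,1,7,1,3], [2,3,1,6,3,3], [6,7,7,2,3], [0,1,6,7,1,3], [5,0,1,7,1,3], [3,2,2,5,3,3], [3,2,2,4,2,3], [0,0,3,0,1,3], [2,1,1,0,6,7], [5,6,1,0,2,3], [6,0,3,4,7,0], [7,5,0,7,6,3], [0,7,2,4,7], [2,7,5,4,7,4], [1,1,4,6,4,3], [2,2,0,5,7,0], [4,7,5,4,6,3], [0,1,0,0,3], [0,1,0,0,3,4], [7,7,4,7], [0,6,1,0,0,3], [6,6,0,6,4,3], [6,3,1,4,7,0], [7,6,4,3,6,3], [1,0,2,4,3], [2,5,4,5,2,3], [3,0,6,7], [3,3,4,7,1,3], [6,7,1,3], [2,1,2,4,7,0], [5,0,1,3,2,3], [5,4,5,5,0,3], [0,7,7,6,7], [0,2,5,5,7], [2,1,2,4,7], [6,6,4,5,3], [0,3,3,2,0,3], [0,7,5,3,0], [2,5,5,4,1,3], [3,4,4,3,0], [5,4,5,3,3,0], [0,3,2,4,3,0], [6,4,5,6,7], [0,3,0,0,3,0], [1,4,1,7,0],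 [1,4,1,7,4], [1,4,1,7], [4,4,2,5,4,3], [0,7,7,2,0], [6,5,6,7,4,7], [0,5,6,7], [4,6,6,3,4], [0,1,3,5,7], [2,1,4,7], [4,1,3,4], [2,1,4,7,0], [1,4,2,5,7,0], [0,1,7,1,0,7], [4,4,3,3,4], [0,5,6,7,4], [0,5,6,7,0], [3,4,7,5,0]]

/-- Part of the paths. -/
def pathsD81 : List (List ℕ) := [
[0,2,7,4,3,3], [4,1,3,2,0], [4,6,6,3], [6,4,2,5,3], [4,1,3,5,2,0], [4,2,1,1,3], [4,1,3,5,4], [4,5,6,1,3], [4,1,3], [3,3,6,3], [3,6,3,6,1,3], [4,6,6,0,7], [0,2,2,5,2,3], [0,2,5,3], [0,1,6,1,3], [0,1,1,1,3], [0,1,2,2,3], [3,4,1,7,2,4], [0,2,5,3,4], [6,5,0,2,7], [4,1,3,3,2,0], [4,6,6,0,7,0], [3,4,7,6,0], [7,4,1,3], [6,4,7,4,7], [4,3,5,2,3], [0,2,5,3,2,0], [2,4,4,2,5,3], [4,2,2,1,7], [7,4,1,3,0,0], [7,4,1,3,4], [7,0,6,5,3], [6,5,4,2,7,0],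 [7,2,5,4,7], [7,2,5,4,2,3], [3,0,5,3,4,3], [5,5,4,2,3,2,0], [2,0,6,4,4,3], [2,3,1,4,7,4], [0,1,6,1,0,3], [2,4,6,5,3], [2,4,6,5,3,4], [6,5,4,2,7], [3,4,4,3,5,4], [2,4,5,2,3], [3,3,0,0,7,0], [4,5,5,4,7,0], [2,4,6,1,6,3], [0,5,0,2,2,7], [0,7,1,3,0,0], [3,3,4,7,0,0], [0,1,2,0,3], [5,5,4,2,3], [7,6,0,7,0], [5,6,7,5,3], [4,3,2,7,0], [4,5,7,0], [0,6,5,3], [4,5,7,4], [0,6,1,6,3], [4,5,7], [4,6,7,7,1,4], [1,0,2,0,5,7], [4,5,3,1,3,0], [5,4,7,0,0,3], [4,6,5,0,1,3], [0,6,5,3,4], [7,0,0,7,5,0], [2,0,2,3], [2,0,2,3,4], [0,6,5,3,2,0], [4,6,7,1,0,3], [0,5,2,3,2,0], [3,4,5,3,0,0], [0,5,2,3,5,2,0], [3,6,6,4,7], [6,5,7,1,3], [3,0,2,7,7,0], [7,6,5,3,3,3], [7,5,4,7,6,0], [0,2,2,1,1,3], [0,2,1,3], [0,6,3], [0,2,5,2,2,3], [0,5,5,3],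 [3,4,2,3,2,0], [3,4,7,0,3], [0,6,3,4], [3,3,5,4,7,0], [0,5,5,3,4], [2,0,2,1,7,4], [0,6,3,2,0], [2,0,2,1,7,0], [4,4,2,1,1,7], [0,7,2,7,0], [1,2,7,4,7], [6,3,4,4,2,3], [0,6,3,5,4], [0,6,3,5,2,0], [0,5,5,3,2,0]]

/-- Part of the paths. -/
def pathsD82 : List (List ℕ) := [
[4,2,2,7,1,3], [6,3,6,3,3], [3,6,3,2,3], [0,2,7,2,1,3], [0,2,1,0,7,0], [6,7,0,5,0,3], [0,7,6,5,3], [2,7,5,0,5,3], [0,6,3,1,7], [6,4,6,3,4], [6,4,5,5,3,4], [4,7,1,4,6,3], [7,6,4,7,0], [1,4,4,6,3], [7,4,5,7,2,3], [6,4,6,3,2,0], [0,5,2,4,3], [6,4,6,3], [5,4,3,6,5,3], [2,5,7,4,1,3], [6,4,5,5,3], [4,2,4,1,2,3], [4,4,4,4,5,3], [6,4,2,1,3], [6,0,2,7,1,3], [2,2,4,4,7,0], [0,6,0,7,0], [2,5,0,5,7,0], [0,6,6,1,7], [3,4,1,2,2,3], [5,3,4,1,7,0], [0,6,0,7],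 [7,5,7,0,6,7], [0,5,2,0,1,7], [0,6,3,4,3], [5,2,4,3,2,3], [2,5,0,5,7], [3,5,0,5,3], [7,6,1,0,2,3], [4,4,7,1,2,3], [1,7,0,0,7], [0,6,3,4,3,0], [5,3,4,7,4], [4,4,7,7,0,0], [5,0,6,7,0], [5,0,6,7], [0,1,2,1,3], [0,1,6,3], [6,3,6,4,7,0], [5,0,1,3,3,0], [0,5,3], [0,2,5,2,3], [0,1,7,2,7,0], [4,2,4,1,6,3], [3,6,0,6,4,3], [0,5,3,5,2,0], [3,0,3,1,0,3], [4,2,4,5,3], [0,3,0,5,3,0], [1,2,0,0,3], [0,1,6,3,2,0], [7,4,4,7], [0,5,3,4], [0,7,7,6,4], [0,5,3,2,0], [4,4,2,0,1,3], [2,0,3,1,7], [7,5,3,1,6,7], [2,3,3,2,7], [2,0,0,7], [2,0,0,7,4], [0,1,2,1,7], [6,4,6,4,3], [2,0,0,7,0], [7,5,4,7,2,0], [0,5,7,5,3,0], [2,0,3,4,3], [4,7,7,0,0,7], [0,2,2,4,3], [6,0,7,1,7], [1,6,1,4,2,3], [0,5,7,7,2,0], [2,0,6,1,7], [5,4,1,1,7,0], [7,4,6,5,7],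 [0,1,2,1,7,0], [5,4,1,1,7,4], [6,5,0,2,4,3], [1,4,4,2,3], [0,2,3,3,3,2,0], [0,6,1,1,3], [4,4,4,7,4], [0,6,6,1,3], [0,3,2,3,3], [4,4,4,7,0], [0,2,3], [6,4,5,7,4], [6,4,3,2,7,0], [6,0,6,5,3], [6,4,5,7]]

/-- Part of the paths. -/
def pathsD83 : List (List ℕ) := [
[0,2,3,2,0], [0,7,4,3,1,7], [1,1,1,4,2,7], [0,3,5,7,4,3], [0,2,3,5,2,0], [4,4,7,0,0,3], [4,1,2,0,2,3], [2,5,4,6,4,3], [5,3,2,0,2,3], [0,2,3,5,4], [0,2,3,4], [0,1,0,7,1,3], [1,7,1,7,1,3], [0,5,0,7,1,3], [3,6,0,3,3], [6,1,2,7,1,3], [2,4,2,4,7,4], [4,7,5,0,7], [0,2,3,2,3], [1,7,4,1,7,0], [0,5,0,7,0], [7,6,0,6,3], [6,0,6,5,7], [2,4,2,4,7], [0,3,5,5,3,4], [2,3,0,0,3], [2,4,2,4,7,0], [4,7,6,4,3], [7,0,5,7,2,4], [0,5,0,7,4], [7,0,5,7], [3,1,4,7,0,0], [4,7,2,1,0,3],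 [0,5,3,4,3,0], [0,5,0,7], [0,5,3,4,3], [0,7,2,0,3,4], [4,2,2,7,5,3], [0,5,7,1,2,3], [6,0,7,1,4,3,0], [2,0,3,3,6,0], [0,1,2,0,1,3], [2,5,3,4,7,0], [1,3,0,5,7], [0,3,6,0,3,0], [0,6,6,1,4,3], [7,0,1,0,0,3], [0,1,2,3,3,4], [0,7,5,0,7,4], [3,3,0,6,3], [5,7,2,0,0,3], [2,0,3,1,0,3], [0,0,7,0,0,7], [2,4,1,6,7], [2,4,1,6,7,0], [3,4,4,3,0,0], [0,6,3,1,0,3], [4,3,0,6,7,0], [2,0,6,5,6,7], [0,0,5,7,5,3], [1,1,3,2,2,3], [0,6,5,7], [6,3,3,4,6,3], [4,4,2,4,7], [4,3,0,0,3], [2,2,3,0,0,3], [4,4,2,4,7,0], [6,4,4,2,1,3], [0,2,4,6,7,0], [0,7,4,3,0], [5,0,6,0,3], [0,6,5,7,0], [0,3,2,3,0,3], [2,0,5,3,4,3], [2,0,5,0,7], [3,0,5,6,7], [0,2,4,6,7,4], [0,2,4,6,7], [3,3,4,2,7], [0,7,4,6,0,3], [5,0,3,3,0], [5,0,5,0,3], [1,3,4,3,1,3], [4,7,1,3,0],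 [4,6,5,0,3], [4,6,6,0,3], [0,1,2,2,7], [6,7,4,7,7], [5,3,2,4,6,3], [7,2,0,5,3,4], [4,3,6,4,3], [5,3,4,4,3,3], [4,2,1,0,3], [0,7,6,4,3,0], [7,1,0,0,3], [5,0,1,3,4,3], [4,6,3,3,0], [4,3,5,7,7], [0,1,2,2,7,0], [6,5,4,6,3]]

/-- Part of the paths. -/
def pathsD84 : List (List ℕ) := [
[0,6,6,4,3], [5,0,1,0,7], [4,3,3,6,1,3], [5,5,4,5,6,3], [1,0,1,7,1,3], [0,7,2,5,3], [6,7,7,4,1,7], [0,6,3,2,3], [6,1,4,4,3], [6,5,7,4,2,3], [4,4,4,6,5,7], [5,2,4,4,4,3], [2,4,1,7,0], [3,4,7,6,1,2,0], [2,4,1,7], [4,6,0,2,3], [6,6,5,4,7,4], [6,6,5,4,7,0], [6,6,5,4,7], [4,5,4,6,4,3], [2,4,2,0,7], [2,4,2,0,7,0], [4,6,0,2,3,4], [0,2,7,7,2,0], [1,2,2,4,1,3], [6,5,7,4,7], [2,4,4,7,1,3], [0,7,1,6,3], [4,3,2,2,3,0], [2,4,6,0,7,0], [3,4,2,7],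 [2,4,6,0,7], [0,6,3,3,2,3], [0,0,6,4,7,0], [5,6,4,1,7,4], [4,2,2,7,0], [4,2,2,7,4], [4,2,2,7], [6,1,2,4,1,3], [3,4,2,7,4], [4,7,7,2,3,0], [0,3,5,6,0,3], [3,4,2,7,5,0], [3,0,2,2,3,0], [7,7,4,1,1,3], [5,2,5,4,7], [5,2,5,4,7,4], [4,4,7,5,6,3], [2,3,2,2,3], [1,7,1,0,3,3], [1,0,7,4,2,3], [6,4,2,5,7,0], [0,2,0,3,5,4], [1,2,4,4,3], [1,0,7,4,7], [7,2,4,4,3], [0,6,1,0,3], [0,1,1,1,0,3], [0,7,2,7,1,2,0], [0,1,3,0,7], [7,6,4,4,7], [0,2,0,3,4], [0,2,2,3,3,0], [6,4,2,5,7], [4,2,3,4,7,0], [0,2,0,3,2,0], [0,2,0,3], [5,5,5,4,7], [6,5,4,1,3], [3,4,3,6,3,4], [1,0,7,4,7,4], [1,2,7,1,3], [3,1,1,7,7], [3,5,0,5,5,3], [6,0,6,3], [6,0,6,3,4], [6,0,7,2,7,0], [0,2,1,7], [3,4,3,5,7], [6,0,5,5,3], [3,5,0,6,3], [1,3,6,4,1,3], [0,7,6,3,5,0],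 [0,2,2,0,7], [1,6,4,7,0], [1,6,4,7], [1,6,4,7,4], [1,4,7,1,6,3], [6,3,4,7,0,3], [7,1,4,6,5,3], [0,2,4,7,0,7], [0,2,1,7,4], [0,5,2,2,4,3], [0,2,1,7,0], [2,5,2,7,1,3], [3,1,3,1,3,3], [4,5,2,7,1,3], [4,7,6,3,3,3], [0,5,6,0,1,3], [5,6,1,4,7]]

/-- Part of the paths. -/
def pathsD85 : List (List ℕ) := [
[4,7,5,7,5,0], [0,1,1,7], [0,1,2,0,7,0], [4,2,3,1,7], [5,4,2,0,0,3], [2,7,1,0,7,7], [5,5,4,5,3], [4,1,7,0,7], [4,1,7,0,7,0], [2,4,7,6,7], [7,1,4,1,7], [0,1,2,0,7], [0,1,2,3,4,3], [5,6,6,4,1,3], [0,7,6,3,0,7], [4,7,5,2,3], [0,1,1,7,0], [0,1,1,7,4], [0,2,5,4,3], [3,0,1,7,1,3], [1,1,7,7,5,3], [7,4,4,3,0,0], [7,2,1,0,6,3], [0,7,1,2,3], [5,0,5,2,7], [5,3,4,5,3,0], [2,3,0,2,3,4], [7,6,4,7,5,0], [1,2,2,4,2,3], [5,4,3,0,7],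 [0,3,2,1,7,0], [3,0,5,2,0,3], [3,3,0,0,7], [1,6,0,5,6,3], [0,3,5,0,3,4], [0,5,7,2,4,3], [3,6,4,7,6,0], [0,5,0,6,1,3], [3,0,3,1,7,0], [5,4,1,1,0,3], [0,5,3,3,2,0], [0,7,7,0,0], [0,2,0,1,3,4], [0,1,7,2,5,3], [6,4,1,1,7,0], [1,7,0,2,3,4], [0,2,0,1,3], [0,7,2,1,2,3], [1,0,0,2,1,3], [1,0,0,6,3], [0,6,5,6,0,7], [3,4,4,7,0,7], [0,0,0,0,5,3], [0,2,3,3,4], [3,4,1,3,4], [4,7,0,6,7,0], [2,1,2,4,2,7], [0,2,3,5,4,3], [6,4,1,1,7], [6,4,1,1,7,4], [7,5,6,4,5,3], [7,2,2,4,7,4], [4,4,7,1,7], [3,1,7,7,1,3], [2,7,5,3], [3,2,5,7,1,3], [5,5,6,0,0,3], [0,2,7,1,2,3], [5,3,6,4,4,3], [0,5,6,6,7], [2,0,1,2,1,3], [4,2,7,4,4,3,0], [0,3,6,7,4], [2,0,5,3,4], [2,0,5,3,2,0], [2,0,5,3], [0,3,2,0,3,0], [3,4,1,7,4], [4,3,4,4,7], [0,6,5,4,3],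 [3,3,1,4,7,0], [2,7,4,4,7], [3,6,4,7,0], [4,6,4,1,7,0], [3,4,7,0,6,0], [7,7,7,0,0,3], [2,0,2,5,2,3], [0,5,2,5,7], [0,2,3,0,1,3], [4,7,2,0,3], [2,2,0,0,7], [4,6,4,3,2,0], [0,7,1,7], [0,2,0,1,0,3], [7,1,0,2,3,0], [2,2,0,0,7,0], [5,0,2,4,3], [0,5,2,5,7,0], [6,1,2,4,2,3], [2,0,1,2,1,7]]

/-- Part of the paths. -/
def pathsD86 : List (List ℕ) := [
[6,4,6,0,1,3], [0,5,7,7,1,4], [4,6,3,5,7,0], [1,6,0,2,3], [0,7,1,7,4], [4,6,4,3], [0,2,1,2,4,3], [4,6,4,3,4], [7,7,0,1,3], [1,4,1,7,1,3], [5,3,4,7,1,3], [5,2,2,7,1,3], [0,7,4,3,2,1,3], [7,4,1,7,5,3], [1,1,0,0,7,0], [0,2,5,2,1,3], [0,5,2,1,3], [0,5,5,5,3], [0,5,6,3], [3,0,7,1,3], [7,0,3,1,7,0], [7,0,2,7,5,0], [3,0,3,3,3,0], [0,5,6,3,4], [0,6,5,6,3,4], [3,0,5,6,3], [6,0,6,7],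 [0,5,6,3,2,0], [6,6,4,2,3,4], [1,1,0,3,4,3], [4,6,5,0,7], [4,7,6,7,2,3], [6,0,6,7,0], [4,3,2,3], [4,6,5,0,7,0], [6,7,1,3,3], [4,6,1,4,7], [6,3,4,2,5,3], [0,6,0,1,3], [0,1,1,1,7], [1,2,3,0,5,7], [3,4,2,1,3], [1,6,6,0,2,7], [3,0,5,5,7,0], [4,5,4,1,6,3], [0,5,2,1,0,7], [2,3,6,0,5,7], [7,6,0,7,7,0], [4,6,6,4,1,3], [3,4,5,6,3,0], [0,7,7,6,3,0], [4,5,4,5,3], [6,0,3,3,0], [5,2,4,1,2,3], [6,0,5,0,3], [6,0,6,0,3], [3,4,2,2,3,0], [3,2,0,3,3], [6,4,6,4,7], [0,3,6,5,3], [1,2,2,4,2,1,3], [0,5,6,0,7,0], [0,6,1,6,7], [0,1,6,4,3,4], [0,3,3,6,3,0], [3,0,1,3,6,0], [0,5,6,0,7], [0,3,6,3,5,0], [6,0,0,5,7], [7,2,4,7,7], [7,7,4,4,3,0], [5,5,4,1,1,3], [0,7,1,4,3,0], [3,0,7,4,7,0], [5,5,4,2,2,3], [1,2,2,4,6,3], [0,6,1,6,7,0], [0,1,6,4,3],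 [5,4,7,7,0,0], [5,5,5,7,1,3], [7,5,3,6,3,3], [0,3,4,7,7], [3,1,3,0,3,3], [6,0,5,5,7,0], [0,7,6,6,1,3], [4,2,4,5,4,3], [2,4,6,5,4,3], [4,6,1,6,4,7], [3,4,3,2,1,3], [3,6,4,2,7,0], [6,0,5,5,7], [4,3,0,5,7,0], [1,0,0,0,7,0], [0,3,6,3,2,0], [0,3,1,2,4,3], [0,1,7,1,3,0], [0,6,3,0,7], [0,6,1,1,0,3], [6,5,4,6,4,7], [1,0,0,0,7]]

/-- Part of the paths. -/
def pathsD87 : List (List ℕ) := [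
[1,3,0,6,0,3], [0,3,3,4,3], [5,4,6,0,0,3], [0,1,6,3,3,0], [2,3,6,7,7], [7,5,7,1,3], [0,0,6,7,1,3], [4,2,7,0,6,0], [0,6,6,0,7,0], [4,2,7,0], [0,2,2,1,7], [4,2,7,4], [4,2,7], [0,6,6,0,7], [7,0,7,5,7,0], [7,0,5,5,3,0], [4,2,3,1,3,0], [3,4,6,7,7,0], [0,3,5,2,3,4], [0,2,2,1,7,0], [6,1,4,4,7], [0,1,3,3,2,0], [5,7,6,4,5,7], [0,7,1,2,0,3], [7,0,5,0,7,0], [3,5,4,7,4], [5,6,0,6,4,3], [5,3,1,4,7,0], [0,5,7], [5,0,3,4,3], [0,3,3,1,7], [4,4,6,4,7], [4,4,6,4,7,4], [1,6,0,6,0,7], [0,3,2,7,0], [0,5,7,0], [2,0,7,2,0,3], [0,5,7,4], [0,5,7,4,2,0], [3,2,7,4,2,3], [5,3,0,2,0,3,0], [3,4,4,3,2,0], [2,0,6,4,3], [1,2,4,4,7], [5,0,6,1,7], [1,2,4,4,7,0], [0,3,1,7,0,3], [0,6,7,1,0,3], [2,0,6,4,3,4], [5,3,6,7,7], [5,7,7,2,3], [5,3,3,2,7],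 [7,6,3,0,7,0], [4,2,2,0,5,3], [4,5,2,0,5,3], [0,5,2,1,7], [4,1,6,0,5,3], [5,0,6,0,6,3], [5,4,6,7,0,3,0], [5,4,6,5,4,3], [0,7,5,0,7], [0,3,5,6,7,4], [3,0,1,1,7,0], [7,4,7,6,3,0], [2,3,6,0,6,3], [7,4,6,1,1,3], [1,7,5,4,2,3], [0,3,2,1,0,3], [0,7,6,4,3], [5,5,2,4,6,3], [7,1,6,4,1,3], [3,0,1,3,2,4], [0,7,2,1,0,3], [5,5,4,1,2,3], [3,3,0,7,0], [3,4,6,3], [7,6,0,0,7,4], [6,3,0,6,3], [7,0,0,6,7], [0,3,3,6,1,3], [1,4,4,6,5,3], [0,7,1,3,0], [0,6,5,0,3], [3,4,1,3,0], [3,4,6,3,5,0], [3,4,6,3,0], [2,4,6,6,4,3], [0,3,6,4,3], [2,5,4,1,7,0], [0,2,1,0,3], [6,4,2,0,3], [3,2,0,0,3], [0,6,3,3,0], [6,4,3,6,3,4], [6,1,7,4,7], [2,5,4,1,7], [2,1,1,7,1,3], [7,7,2,7], [3,5,2,7,2,3], [0,2,3,1,7]]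

/-- Part of the paths. -/
def pathsD88 : List (List ℕ) := [
[6,4,2,7,4], [4,3,5,2,4,3], [0,7,5,2,3], [4,5,6,5,7,0], [4,5,6,5,7], [4,3,6,7,0], [3,4,1,3,6,0], [0,7,5,7,5,0], [1,1,4,2,3], [5,6,0,2,3], [6,4,2,7,0], [4,6,3,5,0,3], [6,4,2,7], [0,1,7,0,7], [2,0,0,5,0,3], [2,0,0,6,0,3], [4,1,3,3,2,3], [6,0,1,3,3,2,0], [4,2,1,3,2,3], [4,1,1,0,7,0], [2,7,7,2,3], [6,0,5,7,4], [4,4,7,0,3,0], [4,4,4,3,3,0], [0,6,3,5,7], [5,2,2,4,2,3], [0,6,4,3,4], [6,0,5,7], [6,0,5,7,0], [0,7,2,0,3], [6,0,3,2,7,0], [7,0,0,0,3], [3,4,7,1,3,0], [6,4,4,6,4,7], [2,1,4,2,7], [1,4,6,5,7], [0,6,7,1,0,7], [2,3,1,4,7,0], [5,5,0,7,7,0,0], [0,6,3,5,7,0], [3,3,4,7,5,0], [0,6,4,3], [4,1,7,1,3,3], [6,3,1,6,3,3], [7,6,5,3,3], [0,2,7], [4,3,0,2,3], [4,3,4,2,4,7],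 [5,0,6,0,5,3], [0,2,7,2,2,1,3], [3,4,3,0,7,0], [0,2,7,0,6,0], [3,1,4,2,7,0], [0,2,7,0], [0,2,7,4,2,0], [0,2,7,4], [6,1,4,6,3], [6,4,4,5,3], [4,4,3,0,6,3], [3,2,4,5,3], [3,0,0,6,3], [0,7,6,4,3,3], [5,2,0,0,0,3], [1,4,7,4,7,4], [1,4,7,4,7], [3,4,3,0,7], [1,3,2,7,2,3], [2,3,1,3,1,3], [1,4,7,1,3], [0,5,6,5,7], [0,1,7,2,1,3], [0,1,0,7,0,7], [5,4,2,4,7], [5,3,0,0,3], [7,4,4,4,3], [1,2,4,6,3], [4,3,0,0,7], [0,3,5,2,4,3], [0,5,7,4,3,0], [3,4,6,3,3,0], [0,3,6,7,0], [3,4,6,0,7], [6,4,2,2,3], [1,4,1,2,3], [3,0,5,2,7], [4,3,1,4,7], [0,7,2,3,2,0], [3,0,7,1,6,3], [4,4,5,6,3], [6,4,1,1,3], [6,1,7,1,3], [7,6,3,6,3], [5,5,2,7,5,3], [1,3,6,0,6,3], [2,1,0,2,7,0], [2,1,0,2,7], [0,6,5,2,7], [3,4,1,6,6,3], [6,3,0,5,2,7], [0,7,4,3,0,0]]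

/-- Part of the paths. -/
def pathsD89 : List (List ℕ) := [
[5,0,3,3,6,0], [5,5,3,4,7,0], [0,7,7,0,3,0], [6,4,3,0,0,7], [0,3,5,0,3], [4,1,1,0,0,3], [6,6,4,1,1,3], [0,0,0,3,0,7], [5,4,1,6,7,0], [5,4,1,6,7], [0,1,7,1,4,3], [0,6,5,2,7,0], [6,0,3,6,7,0], [0,7,7,0,3], [3,1,6,3,3], [4,2,5,7,1,3], [0,6,6,0,1,3], [0,7,2,2,7], [2,5,0,1,6,3], [2,2,0,0,3], [0,1,6,7], [6,3,6,0,2,7], [3,4,4,3,3,4], [0,7,4,1,7,0,0], [5,6,0,5,3], [0,7,5,7,0,0], [0,1,7,2,3,0], [2,7,0,6,0,7], [6,5,6,0,0,3], [7,5,7,0,5,7], [0,7,2,2,7,0], [2,5,0,5,3], [5,0,1,2,7,4], [0,7,4,6,7,4], [0,1,6,7,4], [1,1,1,0,0,3], [0,1,6,7,0], [5,5,2,7,1,3], [4,6,3,0,2,3], [5,3,0,0,3,3], [7,0,0,5,3,3], [3,4,5,7], [5,6,6,4,2,7], [1,0,3,4,4,3,0], [0,1,0,3,2,3], [0,5,3,3,0],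 [3,4,5,7,5,0], [0,5,6,0,3,4], [4,2,4,6,4,3], [0,5,5,0,3], [0,3,0,1,0,3], [0,5,6,0,3], [3,4,6,4,3,0], [0,2,3,0,7], [0,6,0,3,2,3], [1,4,1,1,7], [6,5,4,2,3], [3,4,5,7,0,0], [0,7,7,1,3,0], [1,2,2,7,1,3], [3,0,7,0,2,3], [7,7,5,3], [5,3,6,7,5,3], [3,0,2,7,7], [4,7,4,3,0,0], [4,2,3,6,7,0], [7,5,3,0,0,7], [4,7,7,0,3,0], [3,0,3,2,1,7], [0,3,2,3,6,3], [4,3,5,0,3], [0,1,1,0,3], [7,0,7,4,3], [0,3,0,7], [4,6,1,0,1,3], [0,5,2,0,3,4], [4,7,2,5,7,0], [6,0,0,0,7,0], [5,2,3,4,7,0], [3,4,7,6,3,0], [0,5,2,0,3], [4,6,5,2,7], [4,7,7,0,3], [0,7,7,7,2,0], [0,3,5,5,0,3], [4,7,2,7,1,3], [0,2,5,3,2,3], [6,4,2,3,4], [2,3,0,5,6,3], [6,4,2,3,2,0], [0,6,7], [1,4,4,7,7,0,0], [0,7,6,6,7,0,0], [1,0,6,0,7,0], [0,6,3,1,3,0], [3,4,1,7,0], [0,7,2,3,0],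 [1,0,6,0,7], [3,3,4,5,3,0], [2,4,3,2,3]]

/-- Part of the paths. -/
def pathsD90 : List (List ℕ) := [
[0,6,5,2,0,7], [5,3,0,2,7], [0,3,2,7,0,0], [4,4,4,6,1,3], [3,4,7,4], [4,1,4,1,3], [0,6,7,0], [6,5,4,7,1,3], [0,5,5,7], [5,4,6,4,7], [0,2,2,3,2,3], [0,2,5,0,7,0], [7,0,2,4,3,0], [1,3,4,7,6,0], [3,5,0,1,3,0], [0,5,3,2,7,0], [0,5,5,7,0], [0,5,5,7,4], [3,0,6,4,1,7], [7,5,0,6,7,0], [0,2,5,0,7], [0,6,7,5,3,0], [1,7,4,1,3], [3,4,1,2,0,3], [4,1,7,4,3,3], [1,6,4,7,4,7], [0,1,2,1,4,3], [0,2,3,0,7,4], [1,4,3,5,2,3], [7,0,1,1,6,3], [1,4,7,2,0,3], [0,2,4,3,4], [0,2,3,5,7], [6,4,1,4,4,3], [2,7,0,7,7,0], [7,4,4,2,0,3], [5,7,7,4,7], [3,2,1,4,7], [5,0,1,0,0,3], [0,3,3,3,2,0], [1,0,7,1,7], [4,3,2,4,7], [7,0,2,4,7,0], [0,2,4,3],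 [5,3,0,6,7], [3,4,7,4,3,0], [1,4,6,4,3], [2,7,0,0,7], [4,1,6,4,6,3], [0,3,6,4,3,0], [0,7,6,1,0,3], [4,7,4,2,7], [1,7,5,7,1,3], [7,7,6,0,3,3], [0,6,6,7], [0,5,3,2,3], [3,1,7,4,2,3], [3,2,0,2,3,4], [3,0,3,4,4,3,0], [4,3,6,4,4,3], [5,2,4,2,3], [0,6,6,7,0], [3,0,2,3,0], [1,4,4,4,7,4], [1,0,2,3], [0,6,7,2,3,0], [3,2,0,2,3], [0,3,2,1,4,3], [7,4,4,6,3], [0,3,3,0,0], [1,6,4,5,7,4], [1,0,2,3,2,0], [3,2,0,2,3,0], [1,0,2,3,4], [0,3,5,5,0,7], [7,6,7,1,3,1,3], [4,7,7,1,2,3], [2,3,2,7,5,3], [3,3,2,7], [0,5,7,2,1,3], [0,0,7,0], [0,5,3,3,2,3], [0,6,1,7], [0,1,2,3,2,3], [0,3,4,3,4], [0,0,7], [6,6,0,7,1,7], [3,4,7,0,3,0], [7,6,4,7,0,6,0], [0,3,4,3], [5,5,0,5,6,3], [0,0,7,4], [0,0,7,4,2,0], [0,0,7,0,6,0], [3,4,7,6,4], [6,1,4,4,2,3],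 [3,0,2,0,3,0], [2,3,0,7,4,7], [0,6,1,7,4], [0,3,4,3,0]]

/-- Part of the paths. -/
def pathsD91 : List (List ℕ) := [
[2,2,4,6,4,7], [2,2,0,0,5,7], [4,7,2,2,3,4], [4,7,5,7,0,0], [0,6,5,6,7], [1,0,7,7,0,3], [0,7,5,3,0,0], [7,0,2,7,0], [2,3,0,0,7], [3,4,6,1,3,0], [4,7,2,2,7], [1,0,7,4,3,0,0], [0,3,3,6,0], [5,3,4,7,0], [0,6,1,4,3], [0,7,4,3,3], [0,3,1,0,3], [0,0,7,0,3,4], [4,1,6,7,0], [4,1,6,7], [2,4,5,6,3], [1,3,3,0,7,0], [7,5,6,7,2,3], [6,7,5,7,1,3], [2,4,1,7,1,3], [6,7,5,3], [0,1,3,2,3], [4,5,3,3,0], [4,2,5,2,0,3], [5,4,7,0,3,0], [0,2,0,2,2,3], [3,1,0,7,1,3], [4,5,5,0,3], [0,7,2,3,4], [4,5,6,0,3], [7,6,4,5,3,0], [3,2,7,0,2,3], [4,2,3,0,7], [0,3,3,1,2,0], [1,1,4,1,7], [7,4,7,1,3,0], [7,7,4,7,6,3], [0,3,0,1,7],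 [0,5,6,4,3], [6,4,7,6,7], [0,2,3,3,2,0], [3,4,7,4,3], [2,3,3,5,3,3], [6,5,6,7,1,3], [7,1,3,3], [3,4,6,3,2,3], [0,3,5,5,2,7], [4,3,0,0,3,3], [0,3,5,6,5,3], [3,4,5,5,3], [3,4,2,5,3], [0,3,3,3,4], [0,5,0,3,4], [1,0,6,5,7], [3,4,1,2,3,0], [2,4,6,1,4,7], [0,5,0,3,2,0], [0,6,0,3,4], [0,3,3,0], [3,2,4,5,3,0], [0,6,0,3], [0,5,0,3], [7,4,7,0,2,3], [0,6,0,3,2,0], [2,3,4,2,1,3], [3,4,2,5,3,0], [2,1,7,7,2,3], [5,2,5,7,1,3], [1,2,2,0,0,3], [0,3,1,7], [6,0,5,3], [6,0,5,3,2,0], [3,4,3,6,7], [6,0,5,3,4], [0,3,1,7,4], [3,4,2,0,7], [0,3,1,7,4,3], [0,3,0,1,1,3], [0,3,4,6,7], [0,1,2,7,0], [2,5,0,1,6,7], [1,0,1,6,7,0], [0,1,2,7,4], [0,6,1,7,0,7], [6,0,1,6,3], [0,2,5,2,4,3], [0,3,3,1,3,4], [6,7,4,4,7], [6,4,2,4,5,3], [7,1,7,7,0,1,3],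 [7,7,2,5,7], [0,7,5,6,3], [7,2,4,2,0,3], [1,3,0,0,5,3], [1,3,4,7,0]]

/-- Part of the paths. -/
def pathsD92 : List (List ℕ) := [
[0,7,7,2,5,3], [1,3,6,4,7], [0,5,7,1,3,0], [0,0,2,2,7], [6,7,0,7,7,4], [0,7,5,6,3,0], [5,6,3,0,0,3], [5,7,4,4,6,7], [0,5,2,1,0,3], [3,2,3,0,0,3], [3,0,0,5,3,0], [3,4,4,3], [4,2,3,4,5,7], [0,0,2,2,7,0], [0,5,6,3,3,0], [0,2,0,3,2,3], [7,6,0,7,7], [7,7,1,7,7], [7,2,2,7,1,3], [5,6,3,0,2,3], [1,0,6,6,7,0], [1,0,3,3,0,0], [7,2,0,7,2,3], [3,2,4,6,4,3], [3,2,3,4,2,3,0], [1,0,6,6,7], [0,2,5,3,3,0], [7,2,0,2,3,3], [5,2,4,6,4,3], [0,0,3,2,3], [1,3,0,2,3,0], [7,5,4,1,1,3], [1,1,0,2,3], [2,4,2,3], [2,7,6,4,6,3], [1,1,0,2,3,4], [0,3,1,0,3,0], [3,6,4,7,5,0], [0,5,5,6,0,3], [3,0,3,6,3,0], [2,7,5,7,1,3],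 [4,5,7,7,5,3], [3,2,1,7,7], [4,1,4,2,7,0], [0,5,2,2,7], [1,4,1,6,7,0], [1,0,3,3,6,0], [4,1,4,2,7], [0,2,7,1,7], [4,7,6,4,5,7], [1,0,6,5,6,7], [7,4,2,4,7,7], [3,0,7,5,2,3], [6,1,0,3,0,7], [5,3,4,4,3], [3,0,0,5,3], [1,7,0,2,7,0], [0,5,2,2,7,0], [3,4,7,0], [1,0,3,1,0,3], [2,2,0,6,0,3], [2,2,0,3,3,0], [3,6,4,7], [0,7,7,4,2,0], [4,7,7,2,3], [3,6,3,5,2,3], [6,4,5,7,1,3], [7,4,6,3,1,3], [0,1,6,1,7], [0,7,2,1,3], [3,0,3,2,2,3], [0,1,0,7,0], [0,0,7,0,7], [0,3,3,2,3], [0,7,2,2,3,0], [1,4,7,1,3,0], [0,1,0,7,4], [5,3,0,0,7], [3,2,4,6,3], [3,4,4,3,3], [0,1,0,7], [0,1,3,4,3], [3,0,3,0,7], [1,4,2,1,0,3], [5,3,1,4,7], [7,4,1,1,7,4], [1,4,6,3,3,0], [5,4,5,6,3], [7,4,6,3,4], [1,0,1,6,3], [0,7,6,1,2,3], [0,7,2,0,7,0], [6,5,7,4,4,7],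 [0,0,3,5,4], [0,5,0,3,3,4], [6,0,6,1,4,7], [0,1,3,3,0], [1,0,1,2,1,3], [0,0,3], [0,0,2,2,1,3]]

/-- Part of the paths. -/
def pathsD93 : List (List ℕ) := [
[0,2,3,3,0], [0,3,0,7,1,4], [0,0,3,4], [0,6,6,1,0,3], [6,0,6,6,4,1,3], [0,0,3,2,0], [5,0,7,1,4,3], [0,0,3,5,2,0], [6,4,6,3,2,3], [0,1,6,0,3], [6,7,1,7,1,3], [2,7,7,5,3], [0,5,2,7], [4,1,1,0,3], [0,0,3,3,2,0], [4,3,0,7], [4,1,3,4,3,3], [2,3,0,3,1,7], [3,4,5,3,0], [3,4,2,5,7,0], [0,5,2,7,0], [7,1,0,0,6,3], [0,1,3,3,4], [1,0,7,7,0,0], [4,5,2,0,3], [3,6,4,6,3,0], [0,2,3,5,0,3], [2,5,0,2,3], [4,7,7,7,2,0], [0,6,0,6,1,3], [0,6,3,3,2,0], [2,2,5,4,2,3], [4,3,2,3,6,3], [7,0,2,2,7,1,3], [4,6,7,7,2,3], [5,3,2,1,7,7], [1,6,7,1,3], [5,4,1,7,1,3], [5,7,2,7,1,3], [3,3,5,6,0,1,3],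 [0,1,2,3,5,7], [0,3,0,1,3], [0,3,5,5,6,3], [0,6,7,1,7], [6,0,7,1,4,3], [7,6,4,5,3,3], [7,2,4,7], [7,4,4,7,2,0], [0,7,1,1,7,0], [6,0,1,2,4,3], [0,7,2,1,7,0], [1,0,0,3], [1,0,0,3,4], [4,7,7,4,7], [6,1,0,0,3], [0,3,3,5,3,0], [3,6,4,2,7], [1,0,1,3,3,0], [0,1,2,4,3], [1,0,2,3,3,0], [0,7,1,4,3], [2,7,1,7,1,3], [3,2,5,2,3], [1,6,0,7,0], [7,2,3,5,7], [2,7,0,7,0], [6,6,5,7], [2,3,2,1,1,3], [1,6,0,7], [7,1,3,2,4], [2,3,0,7,0,0], [2,0,1,7], [1,6,3,4,3], [7,5,3,2,3,0], [2,7,0,7], [3,0,6,3,0], [3,3,3,0,0], [4,6,7,4], [6,7,4,3,0], [1,6,3,4,3,0], [4,6,7,0], [4,6,7], [6,6,5,7,4], [4,6,7,1,3], [3,4,2,3], [5,3,1,6,7], [5,5,7,1,7], [6,6,3,2,3], [7,7,6,7], [2,5,5,7], [7,1,4,3,4,3], [1,2,2,4,3], [3,3,2,0,3], [7,5,3,0], [2,5,5,7,4],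 [7,2,3,4,2,0], [7,6,7,1,4,3], [3,2,4,3,0], [2,5,5,7,0], [3,0,0,3,0]]

/-- Part of the paths. -/
def pathsD94 : List (List ℕ) := [
[7,7,6,7,2,0], [7,7,2,3,3,0], [4,1,4,1,7], [2,0,5,6,5,3], [7,7,2,0], [3,2,7,7,2,0], [5,6,7], [7,6,3,1,7], [1,3,5,7], [7,6,5,6,3], [1,4,3,4], [7,6,3,2,3], [2,3,1,0,3], [1,7,1,0,7], [5,3,2,7,0,0], [5,6,7,4], [5,6,7,0], [4,3,4,7,5,0], [2,7,4,3,3], [1,4,3,2,0], [5,7,2,3,0], [6,3,3,3,6,0], [1,4,3,5,2,0], [1,3,5,7,0], [1,4,3,5,4], [2,3,3,6,0], [1,4,3], [0,7,1,3], [0,2,3,3,6,3], [7,4,7,0,7,0,3], [5,7,6,7], [2,2,5,2,3], [2,5,3], [1,6,1,3], [1,1,1,3], [1,2,2,3], [2,7,7,6,4], [2,5,3,4], [1,6,1,3,4], [7,7,2,5,0], [1,2,2,3,4], [4,3,4,7,6,0], [7,4,6,7,0], [1,1,1,3,2,0], [7,1,0,3,0,0], [2,5,3,2,0],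 [2,5,3,5,4], [2,5,3,5,2,0], [1,7,0,3,2,0], [0,2,4,1,3], [1,2,2,3,2,0], [7,1,2,1,7], [6,5,7,5,6,3], [5,7,5,6,3], [7,5,6,0,7,0], [3,2,2,1,3,3], [1,2,0,3,5,4], [6,7,1,3,0,0], [1,6,1,0,3], [3,5,0,7], [6,7,6,3,4], [6,1,2,0,3], [1,2,2,3,3,0], [2,1,2,0,3], [5,0,2,2,7,0], [2,3,5,0,7], [3,5,6,3,4], [5,0,2,2,7], [7,1,3,0,0], [7,1,6,4,3], [1,2,0,3], [7,6,3,4], [5,0,3,4,2,3], [4,7,6,0,7,0], [5,6,5,3], [6,1,2,3], [7,6,7], [2,2,5,3], [2,1,2,2,3], [5,5,2,3], [6,3,5,0,3,0], [5,6,5,3,4], [7,7,1,7,0], [4,6,7,7,2,0], [5,5,2,3,2,0], [7,6,7,4], [7,7,1,4,3], [6,1,2,3,2,0], [4,2,2,3,2,3], [7,6,7,0,0], [6,4,3,3,0,0], [5,5,2,3,4], [7,0,3,0,0,0], [7,0,0,3,3,4], [7,5,5,7,4], [1,3,4,2,3], [0,7,5,3], [6,1,2,1,3], [1,7,6,7], [6,5,3]]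

/-- Part of the paths. -/
def pathsD95 : List (List ℕ) := [
[2,1,2,3], [6,1,6,3], [5,2,3], [1,7,6,7,4], [6,5,3,5,2,0], [7,6,3,5,4], [6,1,7,2,7,0], [5,2,3,5,4], [6,5,3,4], [2,1,2,3,4], [4,2,0,2,3], [5,2,3,4], [6,5,3,2,0], [7,5,7,2,4], [5,2,3,2,0], [6,3,0,5,3,0], [5,2,3,5,2,0], [6,1,6,3,2,0], [1,0,3,2,2,3], [3,4,3,2,3], [1,7,2,2,1,3], [1,7], [1,4,3,4,3], [3,6,1,1,3], [2,0,7,0], [2,3,4,3,4], [1,7,4,2,0], [1,4,3,4,3,0], [3,6,1,1,3,4], [7,1,3,5,0], [3,5,2,7,7,0], [1,7,0,6,0], [1,7,4,5,4], [1,7,0], [1,7,4], [3,3,1,4,3], [4,7,0,7], [1,3,1,3,0], [2,0,7], [2,3,4,3], [5,2,5,4,3], [0,3,2,2,3], [6,6,0,7,1,3], [2,5,7], [6,3,2,1,1,3], [5,0,1,3], [5,0,1,3,4], [1,7,1,7], [6,7,0,7,0], [5,3,3,4], [2,3,2,7,0], [4,2,4,3], [2,5,7,0],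 [7,0,1,7], [2,5,3,1,3,0], [4,3,3,0,6,0], [5,3,5,4,3], [4,2,3,5,7], [7,0,5,3,0,0], [7,7,1,4], [5,3,1,3,2,0], [6,0,1,7,0], [7,1,0,3], [6,7,0,7], [7,6,3,6,1,3], [2,2,1,1,3], [2,1,3], [6,3], [2,5,2,2,3], [5,5,3], [7,6,3,3,0], [2,1,3,4], [6,3,4], [5,3,2,7,4], [5,5,3,4], [2,1,3,5,2,0], [6,3,2,0], [6,3,3,1,3,0], [7,2,4,3,3,0], [7,2,7,0], [7,2,3,3,4], [2,1,3,5,4], [6,3,5,4], [6,3,5,2,0], [5,5,3,2,0], [7,4,2,3,2,3], [4,4,2,3,3,0], [3,5,7], [4,3,4], [5,5,6,7], [3,6,5,6,7], [3,3,5,6,3], [2,7,2,0,3], [4,3,2,0], [1,7,0,3,0], [7,0,3,6,4], [1,4,3,3,0], [4,3,5,2,0], [7,1,0,7], [3,5,7,4,6,0]]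

/-- Part of the paths. -/
def pathsD96 : List (List ℕ) := [
[3,5,7,0], [1,4,6,0,3], [4,3,5,4], [4,3], [6,3,6,4,3,0], [5,5,6,7,0], [4,1,1,6,3], [0,3,4,3,1,3], [1,3,4,7,7], [6,4,7,1,3,3], [4,3,6,3,2,3], [2,7,2,1,3], [2,1,0,7,0], [2,3,3,2,3], [7,6,5,3], [5,2,4,3,4], [6,3,1,7], [2,1,0,7], [7,6,5,7,0,0], [7,6,5,3,5,0], [2,1,3,4,3], [6,3,1,7,4], [5,7,6,1,0,3], [5,3,3,3,2,0], [5,2,4,3], [6,1,2,7,0], [7,6,5,3,2,4], [1,7,7,6,3,0], [7,5,7,7,0,0], [5,0,2,5,7], [3,2,2,3,0,0], [1,6,3,3,4], [5,4,6,7,1,3], [2,0,7,6,0,7,0], [6,5,7,2,1,3], [6,0,7,0], [2,3,5,2,3], [6,6,1,7], [6,3,4,3,4], [2,4,4,2,7], [6,0,7], [1,3,3,6,3,0], [5,2,0,1,7], [6,3,4,3], [7,5,4,3,0,0], [6,0,7,4,2,0], [6,0,7,4], [1,1,6,4,3], [5,2,7,0,7], [5,6,7,4,3,0],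 [6,3,4,3,0], [7,7,1,2,0], [6,6,1,7,4], [7,4,3,2,0], [5,4,6,7], [2,5,0,7,1,3], [1,2,1,3], [1,6,3], [2,1,7,6,7], [6,1,6,1,3], [5,3], [2,5,2,3], [1,7,2,7,0], [1,2,1,3,4], [7,1,7,7,2,0], [5,3,5,2,0], [7,5,5,7,0,0], [1,6,3,4], [3,0,5,3,0], [5,3,5,4], [1,6,3,2,0], [3,2,7,4], [5,3,4], [7,7,6,4], [5,3,2,0], [6,7,4,6,7,0], [5,3,0,2,4], [6,5,2,3], [5,5,6,3], [2,7,6,7], [2,5,5,2,3], [1,2,3], [6,6,5,3], [7,0,0,7,0,0], [6,5,2,3,4], [7,5,5,3,0,3], [3,5,0,3,0], [4,5,3,2,3], [4,3,3,0,0], [5,5,6,3,2,0], [1,2,3,2,0], [1,7,2,3,4,3], [7,5,7,6,0], [1,2,3,4], [6,6,5,3,4], [0,2,4,6,3], [3,6,3,4,3,0], [6,6,5,3,2,0], [6,1,3,4,2,3], [4,2,3,3,2,7]]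

/-- Part of the paths. -/
def pathsD97 : List (List ℕ) := [
[5,3,4,2,3], [7,4,1,6,3], [3,3,3,2,3], [7,7,6,5,3], [1,2,1,7], [7,5,2,1,7], [4,2,0,0,7,0], [3,6,1,6,3], [5,7,5,3,0], [3,6,7,6,0], [7,1,3,2,5,0], [2,2,4,3], [2,0,2,5,7], [6,5,0,1,7], [5,7,7,2,0], [1,2,2,0,7], [6,6,7,2,0,3], [7,7,6,4,3], [1,2,1,7,0], [3,2,7,1,2,0], [6,5,7,0,7], [3,4,2,0,2,3], [2,3,3,3,2,0], [6,1,1,3], [1,2,1,2,3], [6,6,1,3], [3,2,3,3], [1,1,7,6,7], [2,3], [6,1,1,3,2,0], [7,2,3,4,3], [3,2,3,3,2,0], [6,1,1,3,4], [2,3,2,0], [7,4,3,1,7], [7,6,3,5,3,0], [3,5,7,4,3], [2,3,5,2,0], [3,5,2,4,3,0], [6,6,1,3,4], [2,3,0,2,4], [6,7,2,7,6,0], [2,3,5,4], [2,3,4], [1,0,7,1,3], [2,0,7,5,3], [6,5,0,7,1,3], [5,0,7,1,3], [0,3,6,3,3], [7,0,6,1,6,7], [5,5,3,3,2,3],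 [5,6,1,7], [2,3,2,3], [5,5,7,2,1,3], [5,0,7,0], [5,3,4,3,4], [0,7,4,4,3,0], [2,3,2,3,4], [3,5,5,3,4], [3,0,7,4], [3,3,2,0,7], [7,5,3,4,3], [1,7,1,6,0,3], [5,0,7,4], [5,6,1,7,4], [3,4,7,2,4,7], [5,0,7,4,2,0], [5,3,4,3,0], [5,0,7], [5,3,4,3], [7,2,0,3,4], [5,3,4,3,2,3], [5,7,1,2,3], [5,5,0,2,2,3], [7,2,3,1,2,3], [1,2,0,1,3], [2,5,2,1,7], [3,4,3,4,1,3], [3,6,0,3,0], [6,6,1,4,3], [3,2,2,3,5,0], [1,2,3,3,4], [7,5,0,7,4], [5,7,7,0,0], [3,5,0,7,6,0], [2,7,5,0,7], [0,7,0,0,7], [3,1,0,1,7], [2,7,6,4,3], [6,3,3,6,0], [6,3,1,0,3], [6,7,4,3,3], [6,1,4,6,7,0], [5,0,7,5,3], [0,1,7,5,3], [0,5,7,5,3], [5,4,2,7,5,3], [7], [7,2,5,5,3], [7,1,1,6,3]]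

/-- Part of the paths. -/
def pathsD98 : List (List ℕ) := [
[7,2,2,1,3], [4,3,4,3], [5,2,0,7,0], [7,4,5,4], [7,4], [7,4,2,0], [7,0,6,0], [7,0], [5,2,3,4,3], [1,6,7,1,0,3], [5,3,3,1,4,3], [5,2,0,7], [3,3,4,3,2,0], [3,1,3,0], [4,6,1,7], [4,3,4,3,0], [5,7,1,3,5,0], [2,7,2,3,0], [3,0,2,3,3], [6,5,7], [5,5,3,5,7], [2,2,7,0,7,0], [4,4,3,0,0,3], [5,5,4,3,4], [6,3,3,1,7], [2,2,0,1,7], [2,4,6,7,0], [7,4,3,0], [6,5,7,4], [6,5,7,0], [3,2,3,0,3], [7,7,7,1,4], [1,3,6,7,0], [1,1,1,0,7], [2,4,6,7,4], [2,4,6,7], [2,2,7,0,7], [7,4,6,0,3], [5,4,3,3,0], [5,5,4,3], [2,1,3,5,7], [3,6,0,7,0], [2,1,4,3,4], [5,5,5,7], [5,2,5,0,7,0], [2,7,6,5,6,3], [1,7,4,3,0,0], [4,3,3,6,0], [6,7,5,0,7], [4,6,1,4,3], [3,3,3,6,0], [1,3,5,0,3], [4,3,1,0,3],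 [7,0,3,4], [0,7,4,5,3,0], [5,5,5,7,4], [2,1,4,3], [3,6,6,7,0,3], [5,5,5,7,0], [4,6,5,6,7], [1,7,7,0,3], [0,7,4,3,1,3], [2,0,7,1,3], [4,4,7,1,3,0], [5,7,0,7,0], [4,4,6,6,0,3], [1,2,2,7], [5,0,1,7,4], [6,6,4,3,4], [7,4,3,6,3,0], [3,3,3,2,4], [7,4,3,1,2,0], [6,7,2,0,3], [7,6,4,3,0], [5,7,0,7], [7,6,0,1,7,0], [5,3,0,7,0,0], [5,6,4,6,7], [1,2,2,7,0], [5,0,1,7,0], [6,6,4,3], [5,0,1,7], [1,2,2,7,4], [1,7,7,2,3,0], [2,3,4,2,3], [7,2,5,3], [6,3,0,3,5,4], [6,3,2,3], [1,1,7,0,7,0], [2,7,7,6,7], [6,6,5,0,7,0], [7,2,7,1,4], [3,1,3,3,3,0], [3,5,6,3,3,0], [1,1,0,1,7], [7,2,5,3,6,0], [3,1,3,5,7,0], [0,2,0,0,3], [2,7,5,3,0], [6,1,3,3,0,0]]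

/-- Part of the paths. -/
def pathsD99 : List (List ℕ) := [
[3,5,6,7,0], [3,6,1,0,3,0], [5,2,0,6,6,3], [2,7,7,2,0], [1,1,7,0,7], [7,7,7,0,0], [1,7,7,4,2,7,0], [7,1,6,3], [2,2,3,1,7], [2,7,5,2,3], [6,0,7,0,7], [6,1,0,7,0], [6,3,3,2,3], [0,6,4,7,0], [0,5,6,0,6,3], [6,1,3,4,3], [6,1,0,7], [0,6,4,7,4], [5,6,7,0,3,0], [7,6,7,4,3], [7,7,4,3,0], [3,5,6,0,3], [5,3,6,7,4], [7,5,7,4,2,0], [5,3,2,0,3,0], [5,6,5,4,3], [6,7,2,2,4,3], [2,1,7,0,7], [3,2,0,3,2,7], [4,2,3,2,2,3], [0,7,2,7,7], [0,1,7,4,2,3], [2,7,6,1,2,3], [2,0,3,5,4], [6,0,3,3,4], [0,1,7,4,7], [4,7,2,4,4,3], [6,1,0,3], [1,1,1,0,3], [7,2,7,1,2,0], [1,3,0,7], [3,6,7,5,3,0], [2,0,3,4], [2,2,3,3,0], [6,1,0,3,4], [7,1,6,7,0], [2,0,3,2,0], [2,0,3], [0,3,0,6,3],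 [3,6,3,4], [1,7,7,7,2,0], [6,3,3,5,2,0], [0,3,1,3,1,3], [5,5,7,6,7], [1,6,6,3], [5,2,5,3], [6,1,3], [1,1,3], [2,2,3], [7,0,5,3,0], [7,2,7,6,0], [6,1,3,4], [1,1,3,4], [2,2,3,4], [6,4,3,3,4], [6,1,3,5,4], [1,1,3,2,0], [2,2,3,5,2,0], [5,2,5,3,2,0], [3,5,3,2,0], [2,2,3,5,4], [7,0,3,2,0], [6,1,3,2,0], [2,2,3,2,0], [2,0,3,2,2,3], [2,3,6,1,1,3], [4,6,0,6,3], [6,3,5,2,3], [5,3,3,3,2,3], [2,1,7], [2,2,0,7,0], [5,5,7,7,2,0], [7,7,7,0,3], [2,2,3,4,3], [7,6,3,5,0], [2,2,0,7], [3,3,6,7,4], [4,1,6,4,7], [2,1,7,4,2,0], [6,1,3,3,2,0], [2,1,3,1,3,0], [3,0,2,5,7], [2,4,7,0,7], [2,1,7,4], [5,2,2,4,3], [2,1,7,0], [2,1,0,7,1,3], [7,7,5,7,0,0,3], [7,4,1,6,3,3], [3,4,6,3,3,1,3]]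

/-- Part of the paths. -/
def pathsD100 : List (List ℕ) := [
[7,6,3,4,1,3], [3,2,1,4,7,0,3], [5,6,0,1,3], [2,5,3,5,7], [5,6,3,6,6,3], [1,1,7], [1,2,0,7,0], [2,5,4,3,4], [3,6,4,3,2,0], [7,2,1,2,0,3], [2,7,0,3,0], [2,4,3,3,0], [2,5,4,3,2,0], [6,1,7,7,2,0], [2,7,7,0,0,0], [1,2,0,7], [1,2,3,4,3], [1,1,7,4,2,0], [7,6,3,0,7], [7,5,6,7,4], [1,1,7,0], [1,1,7,4], [2,5,4,3], [7,7,6,4,7], [1,0,3,6,3,3], [5,2,3,0,1,3], [3,1,2,1,3], [2,1,1,7], [4,5,7,2,0,3], [3,1,6,7], [5,7,1,7], [3,2,7,6,4], [4,3,3,1,2,0], [7,5,3,0,0,0], [0,0,0,6,3], [2,2,4,3,3,0], [5,5,4,2,4,3], [1,7,7,2,0], [1,7,5,3,0], [6,7,7,0,0], [4,2,0,1,1,3], [2,1,1,7,4], [2,1,1,7,0], [3,1,6,7,0], [5,7,1,7,4], [2,2,5,4,3], [0,6,3,2,2,3], [7,5,5,5,7], [2,2,1,1,7],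 [7,1,2,3], [5,4,5,2,7], [5,0,2,2,3], [2,5,7,1,7], [6,6,7,0,3,0], [6,3,6,7,4], [6,3,2,0,3,0], [3,2,1,7,0], [6,6,4,3,3,0], [7,1,2,3,2,0], [3,5,5,7,6,0], [3,5,0,3,4], [5,7,2,4,3], [3,5,2,0,3], [5,0,6,1,3], [6,6,5,4,3], [5,0,1,1,3], [5,3,3,2,0], [7,7,0,0], [2,0,1,3,4], [1,7,2,5,3], [5,5,7,1,2,3], [2,0,1,3,2,0], [2,0,1,3], [7,2,1,2,3], [2,3,1,2,3,0], [0,1,0,6,3], [6,5,6,0,7], [3,2,7,0,3,0], [0,0,0,5,3], [2,3,3,4], [2,5,5,2,7,0], [3,5,3,2,7,0], [2,3,6,1,3,0], [2,3,5,4,3], [6,7,1,4,3,0], [7,5,7,0,0,0], [2,0,6,6,3], [5,6,3,3,6,0], [2,3,1,3,2,0], [7,4,3,6,3], [4,2,7,5,3], [7,7,6,4,7,4], [1,1,0,7,1,3], [5,5,3,2,3], [2,7,1,2,3], [1,7,1,6,3], [5,6,6,7], [1,6,1,0,7,0], [3,1,7,0,7,0], [3,6,7,4]]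

/-- Part of the paths. -/
def pathsD101 : List (List ℕ) := [
[2,3,2,1,7,0], [6,7,0,3,0], [6,4,3,3,0], [3,2,0,3,0], [7,6,5,0,3], [6,4,6,0,3], [6,5,4,3], [2,3,5,2,0,3], [5,0,1,2,3], [2,7,7,0,0], [7,1,7,1,3,0], [5,6,6,7,0], [1,3,5,6,0,3], [2,5,3,3,2,0], [0,7,6,3,3,3], [4,4,7,1,3,3], [5,2,5,7], [2,3,0,1,3], [3,3,6,5,3], [3,5,7,5,3], [1,3,1,2,1,3], [7,1,7], [2,0,1,0,3], [5,7,0,1,7], [5,5,3,3,4], [5,4,2,4,3], [5,2,5,7,0], [2,3,0,6,6,3], [2,5,3,5,0,3], [1,3,2,7,6,4], [5,7,7,1,4], [2,7,1,4,3], [5,7,1,0,3], [7,1,7,4], [4,4,6,4,3], [2,1,2,4,3], [1,6,7,7,0,0], [0,1,7,6,0,7,0], [4,7,7,0,1,3], [7,0,5,3,2,7], [0,1,7,7,5,3], [7,4,3,5,6,7], [3,4,1,1,3,3], [7,4,3,2,1,3], [7,0,3,3,4], [5,4,3,4], [6,1,1,7], [6,1,2,0,7,0], [5,3,5,7],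 [0,0,0,6,4,3], [5,4,3,2,0], [7,0,3,0], [4,3,3,0], [5,2,7,2,0,3], [2,3,2,0,3,0], [4,6,0,3], [5,4,3], [7,2,5,7,0,0], [7,0,6,6,3], [6,1,1,7,0], [7,7,0,0,0], [7,0,6,1,3], [5,3,5,7,0], [7,2,1,7,0,3], [1,3,2,3,0,3], [6,7,4,3,2,1,3], [1,2,7,6,7], [2,5,2,1,3], [5,2,1,3], [5,5,5,3], [5,6,3], [6,5,6,3], [3,6,3,0,3,0], [5,2,1,3,4], [3,6,5,0,3], [5,6,3,4], [6,5,6,3,4], [1,0,2,4,6,3], [0,3,0,0,7], [5,6,3,2,0], [3,5,0,3,2,4], [1,3,5,0,3,0], [5,7,2,7,0], [7,2,0,3,2,0], [7,2,2,0,7], [4,4,3,2,3], [5,6,3,5,4], [5,3,4,6,1,3], [3,4,6,1,3], [6,0,1,3,4], [6,3,6,6,3], [6,0,1,3], [1,1,1,7], [6,0,1,3,2,0], [4,3,4,2,1,3], [6,1,7,1,0,3], [7,6,5,3,0,3], [6,3,1,2,3,0], [5,2,1,0,7], [5,2,1,3,4,3]]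

/-- Part of the paths. -/
def pathsD102 : List (List ℕ) := [
[6,3,1,3,2,0], [3,2,1,3,4], [3,3,1,0,3,0], [7,7,6,3,0], [2,7,5,7,0,0], [6,0,6,6,3], [6,0,5,6,1,3], [3,5,3,3,0], [6,3,3,4], [5,5,2,4,3], [4,3,2,0,3,3], [6,7,2,2,7], [3,6,5,3], [2,7,2,1,2,3], [5,6,0,7,0], [6,1,6,7], [1,6,4,3,4], [3,3,6,3,0], [2,0,0,0,5,3], [5,6,0,7], [3,6,3,5,0], [5,6,3,4,3], [3,6,5,3,4], [6,1,7,2,3,0], [6,7,5,7,0,0], [7,1,4,3,0], [0,3,2,4,7], [5,7,4,3,2,0], [5,5,4,6,7], [6,1,6,7,0], [1,6,4,3], [2,2,3,3,4], [7,7,4,1,6,3,0], [0,7,7,1,2,3], [0,3,4,7,2,3], [1,7,4,5,3,3], [3,4,7,7], [2,7,4,2,7], [1,1,6,7], [6,3,0,1,3], [1,7,2,2,7], [5,5,0,7,0], [4,3,4,6,7], [6,3,2,2,5,3], [4,1,2,7,0], [7,1,6,0,3], [1,1,6,7,0], [3,6,3,1,4], [4,3,1,7],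 [7,1,1,7,6,0], [1,1,7,2,3,0], [7,4,4,2,3,0], [5,5,3,4,3,0], [5,5,0,7], [6,7,2,1,7,0], [5,5,3,4,3], [7,2,3,3,0], [6,1,2,4,3], [6,7,1,4,3], [5,6,7,5,6,3], [7,6,6,1,3], [1,3,3,6,1,3], [7,2,3,2,1,7], [2,7,7,2,5,3], [2,7,5,6,3], [1,6,6,0,3], [3,1,3,5,4,3], [1,3,6,4,3], [3,6,3,3,6,0], [3,6,3,2,0], [3,1,2,4,3], [1,7,1,3,0], [6,3,0,7], [6,1,1,0,3], [6,7,7,7,2,0], [0,1,0,0,7], [2,0,2,2,7], [3,3,4,3], [5,0,3,2,3], [1,6,3,3,0], [6,0,3,3,2,7], [4,7,5,7,1,3], [0,6,7,1,3], [7,2,5,2,7], [5,2,2,3], [6,6,3], [2,1,1,3], [5,6,1,3], [1,3], [5,2,2,3,4], [6,6,3,4], [7,4,3,5,0], [5,6,1,3,4], [1,3,4], [6,6,3,5,4], [7,0,2,0,7], [4,3,3,4], [1,3,0,2,4], [6,6,3,2,0], [4,3,5,4,3]]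

/-- Part of the paths. -/
def pathsD103 : List (List ℕ) := [
[1,3,2,0], [2,1,1,3,2,0], [1,3,5,2,0], [1,3,5,4], [1,0,2,2,3], [6,6,0,7,0], [3,5,2,3], [2,2,1,7], [3,5,7,2,3], [4,4,2,7], [6,6,0,7], [3,5,2,3,5,0], [0,0,2,5,3], [7,7,2,0,3], [1,0,1,1,3], [3,5,2,3,4], [2,2,1,7,0], [3,3,6,0,3], [1,3,3,2,0], [7,7,7,6,3,0], [7,1,2,0,3], [6,7,7,1,2,0], [2,2,1,7,4], [3,0,2,7,0,0], [6,5,4,6,7], [0,7,6,0,7,0], [1,0,3,4,2,3], [5,7], [6,5,0,1,3], [3,3,1,7], [7,6,5,2,3], [3,1,2,7,1,3], [6,6,7,0,7,0], [3,2,7,0], [5,7,0], [6,4,2,4,3], [5,7,4], [5,7,4,2,0], [6,7,7,1,4], [3,3,5,6,0,3], [5,3,1,3,0], [5,4,3,4,3,0], [5,5,2,0,7], [2,5,5,4,3], [0,2,0,2,3], [3,1,7,0,3], [6,7,1,0,3], [2,2,4,6,7], [7,4,3,5,2,7], [0,3,6,3,2,3], [4,5,7,7,2,3],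 [5,0,1,7,5,3], [0,3,6,0,3,3], [3,1,4,3,4], [6,5,7,1,2,3], [5,2,1,7], [5,2,2,0,7,0], [0,0,5,3,4,3], [2,3,6,0,7,0], [1,3,4,6,7], [7,5,0,7], [3,5,6,7,4], [3,0,7,2,5,0], [3,1,4,3,6,0], [5,2,1,7,4], [2,2,1,4,3], [1,3,4,6,7,0], [3,2,1,0,3], [7,6,4,3], [2,4,6,5,6,7], [7,7,1,3,0,0], [6,6,3,3,6,0], [7,2,1,0,3], [0,0,5,0,7], [4,3,3,0,7,0], [4,3,4,6,3], [3,1,1,3,3,3], [3,5,7,7], [2,3,5,6,1,3], [3,3,6,1,3], [3,3,3,1,3,3], [7,1,3,0], [6,5,0,3], [6,6,0,3], [1,0,2,2,7], [2,1,0,3,4], [3,1,3,3,2,0], [3,6,4,3], [7,1,3,6,3,0], [2,1,0,3], [3,5,7,7,0,0], [3,6,7,7,2,0], [6,3,3,0], [3,6,1,7,4], [6,6,0,3,4], [2,3,4,3,3], [6,5,3,2,3], [2,2,7], [5,5,0,1,7,4], [3,5,3,2,3]]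

/-- Part of the paths. -/
def pathsD104 : List (List ℕ) := [
[1,2,7,1,7], [4,7,5,6,3], [3,5,2,7,0,0], [3,2,2,3,0], [7,2,5,0,7], [0,3,4,2,7], [3,2,5,3,4], [6,0,1,2,3], [2,2,7,4,2,0], [2,2,7,0], [2,2,7,4], [7,1,1,4,3], [3,3,2,7,4], [7,7,2,3,0], [5,5,7,0,7], [3,6,7,2,3,0], [6,3,3,0,0], [3,4,7,1,3,3], [4,7,7,2,7], [0,2,5,2,7,1,3], [3,4,7,5,2,3], [2,3,1,7], [1,7,0,7,0], [1,3,2,1,1,3], [7,5,2,3], [6,7,1,6,3], [7,1,1,0,7,0], [4,4,3,6,7,0], [2,1,2,7,4], [7,5,7,5,0], [1,0,1,7], [2,1,2,7,0], [1,6,4,6,7], [1,7,0,7,5,0], [4,6,4,2,7], [1,7,0,7], [3,2,5,4,3], [2,3,4,6,7], [1,0,2,0,7], [2,3,0,1,1,3], [1,2,7,7,1,4], [1,0,1,7,0], [2,4,7,1,3,3], [4,2,7,7,2,3], [1,1,3,2,3], [2,5,7,0,7,0], [2,1,2,2,7], [6,3,5,7], [5,5,6,0,7,0],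 [6,4,3,4], [4,6,0,5,7], [6,1,7,0,3,0], [7,2,0,3], [6,1,4,3,3,0], [6,4,3,2,0], [1,3,3,1,2,0], [1,2,0,1,1,3], [2,5,7,0,7], [6,4,3,5,4], [6,7,1,0,7], [2,1,2,2,7,0], [6,1,4,6,0,3], [6,3,5,7,0], [1,3,0,1,7], [6,4,3], [2,2,0,7,1,3], [2,2,3,4,2,3], [7,6,1,7], [3,0,3,5,4], [4,2,2,3,0,7], [7,6,7,2,3], [3,2,3], [6,5,0,7,0], [3,0,3,6,4], [7,6,3,1,4], [1,0,1,2,3], [3,2,3,6,4], [1,6,6,7,0], [3,1,6,0,3], [6,5,3,4,3], [5,7,2,3,4], [1,3,3,0,0], [7,5,6,4,3], [3,2,3,4], [6,3,0,7,4], [5,5,7,2,0,3], [6,5,0,7], [1,6,7,2,3,0], [0,3,2,0,3,3], [4,7,6,5,3,3], [2,7], [1,1,0,1,3], [1,0,3,3,2,0], [2,5,2,0,7,0], [2,7,2,2,1,3], [2,7,1,1,6,3], [2,7,0,6,0], [2,7,4,5,4], [2,7,0], [2,7,4,2,0]]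

/-- Part of the paths. -/
def pathsD105 : List (List ℕ) := [
[2,7,4], [6,3,2,2,3,0], [2,2,7,2,3,0], [2,4,3,4,3,0], [2,3,1,3,0], [1,3,2,0,7], [7,6,4,3,3], [5,3,4,6,7], [1,6,3,3,2,0], [2,4,6,1,7], [7,1,7,0,3], [7,2,7,4,2,7], [0,5,3,3,2,7], [2,0,1,7,5,3], [7,4,5,3,3], [5,6,5,7], [1,7,2,1,3], [1,0,7,0,7], [1,3,3,2,3], [2,1,3,2,3], [1,1,0,7,0], [1,7,2,2,3,0], [5,6,5,7,4], [3,5,2,4,3], [5,7,4,3,0], [5,6,5,7,0], [3,6,7,0], [7,1,2,0,3,0], [6,7,4,3,0,0], [1,1,0,7], [5,2,4,6,7], [6,3,5,0,3], [7,2,3,2,0], [2,1,3,2,3,4], [6,7,7,0,3], [5,5,4,3,3,0], [5,3,0,2,3,3], [2,3,5,4,7,7], [7,7,4,2,7,0], [4,7,6,3,6,3], [3,4,1,6,3,1,3], [6,0,3,3,2,0], [6,1,0,1,3], [1,3,2,2,5,3], [6,5,2,7], [1,6,7,1,7], [7,7,7,0,1,3], [7,4,3,0,0],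 [2,3,6,7,0], [6,6,3,1,3,4], [7,7,0,3,0], [5,3,3,3,6,0], [3,5,0,3], [1,0,1,0,3], [3,2,7,4,3], [0,0,3,0,7], [6,1,3,3,4], [7,2,5,7,0], [1,7,1,4,3], [6,5,2,7,0], [3,2,1,0,3,0], [7,7,0,3], [7,1,0,1,3], [2,5,2,2,7], [2,2,7,1,7], [6,6,3,0,1,3], [7,7,7,2,5,3], [5,6,3,3,2,3], [7,0,6,3,0], [5,6,1,0,7], [3,2,7,6,3,0], [7,2,7,7,4], [4,5,2,2,7], [7,1,6,0,3,0], [1,3,1,0,3], [7,0,3,6,0], [3,1,4,6,7], [7,0,2,5,7,0], [1,6,1,4,3], [1,3,3,6,0], [3,1,3,0,0,0], [1,7,4,3,3], [4,2,7,1,7], [7,4,2,7], [1,1,7,4,2,7], [3,1,3,0,2,7,0], [0,3,3,2,7], [6,6,0,1,3], [7,2,2,7], [0,0,6,1,4,3], [4,2,2,0,0,3], [1,6,7], [5,5,5,0,7,0], [3,2,0,3,2,0], [7,4,1,7,0,0], [7,2,2,3,4], [7,5,7,0,0], [1,7,2,3,0], [1,3,0,3,0,3], [7,2,2,7,4]]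

/-- Part of the paths. -/
def pathsD106 : List (List ℕ) := [
[2,3,6,3,5,0], [7,2,2,7,0], [6,7,7,6,3,0], [7,7,2,3,0,0], [7,4,6,7,4], [1,6,7,4], [1,1,1,4,3], [1,6,7,0], [6,3,4,6,1,3], [6,6,7,5,6,3], [3,1,2,7,6,3], [7,5,6,3,3], [4,3,4,5,7], [5,3,5,6,5,3], [0,3,4,7,4,3], [1,0,3,2,3], [5,3,3,0], [2,5,2,0,3], [5,6,0,3,4], [7,2,1,2,7,4], [5,5,0,3], [3,0,1,0,3], [5,6,0,3], [7,7,1,6,7,0], [2,3,0,7], [6,0,3,2,3], [1,7,5,5,0,3], [7,6,1,2,0,3], [2,3,5,5,0,3], [7,7,1,3,0], [3,6,7,4,2,0,3], [7,0,3,1,3,3], [4,7,7,5,3], [1,6,7,4,2,7], [4,3,0,2,7,7], [2,7,6,6,1,3], [1,0,3,3,4], [2,2,7,5,6,3], [1,3,2,5,5,3], [1,3,5,6,1,3], [3,2,3,6,3], [5,6,1,0,3], [1,1,0,3], [3,0,3,2,3], [3,0,7], [1,3,4,3,3], [5,2,0,3,4], [6,5,6,0,3], [0,0,5,2,7,0],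 [1,3,4,3,3,0], [5,2,0,3,2,0], [5,2,0,3], [7,1,4,3,6,0], [1,2,2,0,3], [7,7,7,2,0], [3,5,5,0,3], [7,4,6,7,1,3], [3,0,2,7,0,1,3], [2,5,3,2,3], [5,7,2,2,7], [3,3,6,6,3], [1,1,4,3,4], [6,7], [6,5,2,0,7,0], [7,6,6,7,0,0], [6,4,3,4,3,0], [6,3,1,3,0], [6,7,0,6,0], [7,2,3,0], [3,0,3,0,3], [2,7,7,5,2,0], [2,0,1,2,3], [6,5,2,0,7], [7,6,4,3,3,0], [3,2,7,0,0], [0,3,0,6,3,0], [6,7,4], [1,1,4,3], [6,7,0], [0,3,4,2,3], [1,3,4,3,2,3], [3,0,7,1,4,3], [5,5,7], [6,7,7,6,7], [2,2,3,2,3], [2,5,0,7,0], [3,2,1,2,2,3], [3,0,1,3,4], [0,5,6,5,3], [5,3,2,7,0], [5,5,7,0], [5,5,7,4], [5,5,7,4,2,0], [3,3,1,3,0,0], [2,5,0,7], [6,7,5,3,0], [6,7,7,2,0], [1,7,0,3,4], [5,5,3,1,3,0], [3,2,4,3,0,0]]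

/-- Part of the paths. -/
def pathsD107 : List (List ℕ) := [
[1,2,1,4,3], [2,3,0,7,4], [2,3,3,2,0,7], [6,0,7,1,3], [6,0,3,2,2,3], [2,2,5,7], [2,5,0,1,3], [0,1,7,4], [7,0,7,0], [3,2,1,1,3], [4,1,6,1,7], [6,6,7,4,3,0], [0,1,7], [6,4,6,7,0], [2,5,3,3,4], [0,2,0,7,0], [0,1,7,4,2,0], [7,0,7,5,0], [7,0,3,4,2,0], [2,7,7,1,4], [3,0,7,0,0], [3,1,0,3,0,0], [0,1,7,0], [6,4,6,7], [7,0,7], [0,2,0,7], [5,3,0,1,3], [2,4,3,4], [2,3,5,7], [6,1,2,1,7], [0,7,1,0,3], [0,6,7,0,7], [0,2,5,7], [2,2,7,2,0,3], [5,0,1,0,3], [3,3,3,2,0], [0,1,7,1,7], [7,5,6,0,3], [6,3,6,7,6,0], [2,4,3], [0,2,5,7,0], [2,7,1,0,7], [3,3,0,6,0], [6,5,7,7,2,0], [5,3,3,5,3,0], [3,6,4,3,0], [7,6,1,0,3], [6,1,0,7,1,3], [7,5,5,2,7], [5,6,6,3], [2,5,5,3], [3],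 [2,2,1,3], [1,1,6,3], [4,2,3,3,0], [0,3,5,7], [3,4], [2,2,1,3,4], [1,1,6,3,4], [5,6,6,3,2,0], [3,2,0], [7,7,0,7,0,0], [3,3,1,3,0], [3,5,2,0], [0,7,1,0,7], [7,1,0,3,4], [3,0,2,4], [3,5,4], [5,4,3,3,4], [6,7,4,1,6,3], [5,0,6,7,1,3], [3,2,4,2,7,0], [6,6,7], [5,3,2,3], [5,6,5,0,7,0], [7,1,6,0,7,0], [2,3,5,3,2,3], [5,7,6,7,2,3], [3,2,7,0,3], [6,6,7,0], [6,6,7,4], [6,3,2,7,0,0], [0,1,2,3], [6,7,2,3,0], [1,3,6,7,4], [3,2,1,4,3], [3,5,3,0,7], [3,3,0,0], [5,6,3,0,7,4], [5,6,5,0,7], [7,2,7,0,7], [7,7,5,2,0], [3,5,5,0,7], [1,3,4,6,1,3], [5,7,4,2,7], [7,0,1,2,2,3], [7,7,0,7,7], [6,3,4,2,3], [5,7,2,1,3], [0,7,0]]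

/-- Part of the paths. -/
def pathsD108 : List (List ℕ) := [
[5,3,3,2,3], [6,1,7], [1,2,3,2,3], [3,4,3,4], [0,7], [0,7,2,5,5,3], [5,7,2,2,3,0], [0,7,2,2,1,3], [3,4,3], [0,7,4,5,4], [0,7,4], [0,7,4,2,0], [0,7,0,6,0], [2,7,4,3,2,0], [2,7,7,1,2,0], [2,5,4,6,7], [6,1,7,0,6,0], [6,1,7,4], [3,4,3,0], [6,4,6,7,1,3], [6,1,3,5,7], [0,3,3,3,6,0], [2,1,2,0,1,3], [1,2,7,0,7,0], [6,5,6,7], [6,1,4,3,4], [7,5,3,0,0], [7,4,3,3,0,0], [0,2,1,4,3,4], [3,0,3,1,3], [3,2,7,7,0], [3,1,1,3,2,0], [3,3,6,0], [6,5,6,7,0], [6,1,4,3], [7,4,3,3], [3,1,0,3], [0,7,0,3,4], [1,4,6,7,0], [1,4,6,7], [6,5,6,7,4], [0,2,0,7,1,3], [7,4,3,2,5,3], [0,2,2,3], [3,5,6,6,3], [4,5,2,7,0], [2,5,2,7], [1,7,1,2,3], [4,5,2,7], [1,7,7,0,0], [0,1,6,6,3], [3,1,3,4],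 [0,6,1,3], [0,1,1,3], [4,3,2,0,7], [7,2,4,3], [6,5,6,4,3], [3,3,2,0], [4,6,3,3,2,0], [6,7,2,3,4], [7,1,3,3,4], [2,1,3,3,4], [6,3,3,1,2,0], [0,7,0,3,2,0], [6,0,3,4,2,3], [3,0,2,4,1,1,3], [4,6,7,5,3], [1,3,2,3], [1,7,6,1,7], [5,6,4,3,4], [2,4,5,2,7], [2,0,2,2,3], [6,1,1,0,7,0], [6,5,7,4,3,0], [7,2,3,4], [1,3,2,3,4], [5,7,2,0,3], [7,5,0,1,7], [7,2,1,0,3,0], [3,3,1,2,0], [2,3,1,3,4], [2,7,2,4,3], [7,7,6,4,3,0], [3,0,1,7], [5,6,4,3], [2,0,1,1,3], [2,3,3,2,0], [6,1,1,0,7], [6,0,3,6,3,2,3], [2,1,3,4,7,7], [4,7,1,3,3], [2,0,3,6,3,3], [3,2,0,2,1,3], [3,6,3,2,1,3], [3,5,5,2,7], [5,0,3,5,4], [3,5,6,5,3], [3,2,7,6,7], [2,3,3,6,1,3], [3,3,3,4]]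

/-- Part of the paths. -/
def pathsD109 : List (List ℕ) := [
[5,0,3,4], [6,1,6,0,3], [1,2,3,0,7], [0,5,3,5,7], [5,0,3,2,0], [6,0,3,4], [3,3,0], [7,6,1,0,3,0], [6,0,3], [5,0,3], [5,0,3,5,2,0], [6,0,3,2,0], [0,7,7,0,0,0], [3,1,2,3,4], [1,7,4,2,7], [2,5,4,6,7,1,3], [7,4,3,3,0,7,0], [3,6,3,6,3], [3,1,7], [4,6,0,5,3], [6,1,7,0,7,0], [3,0,2,2,3], [3,2,7,0,7,0], [3,1,7,4], [2,2,1,0,7], [3,1,7,4,3], [3,0,1,1,3], [3,4,6,7], [1,2,7,0], [1,2,7,4,2,0], [6,7,5,7,5,0], [1,2,7,4], [6,1,7,0,7], [7,6,5,7,4], [2,5,2,4,3], [3,3,1,3,4], [3,4,6,7,0], [1,2,3,1,3,0], [0,1,3], [0,1,3,4], [5,5,2,7], [0,1,3,2,0], [3,6,6,3], [0,1,3,5,4], [4,6,7,1,3,0], [0,5,2,2,3], [0,6,6,3], [3,1,3,2,0], [0,5,6,1,3], [3,1,2,3,0], [4,2,2,0,3], [1,7,1,0,3],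 [5,6,0,6,1,3], [5,5,2,7,0], [3,6,1,3,0], [3,3,4], [1,6,7,0,7], [3,5,4,3], [2,7,7,6,3,0], [6,4,2,7,5,3], [3,6,6,3,0,0,3], [3,5,4,6,5,3], [7,5,6,3], [3,1,7,1,2,3], [0,2,2,7,4], [0,7,7,2,3,0], [7,7,2,5,3], [0,6,3,3,0,0], [5,7,1,3,0], [0,2,2,7], [1,7,1,3,0,0], [7,5,6,3,0], [5,6,6,0,3], [2,7,5,5,0,3], [5,2,1,0,3], [1,3,5,0,7], [3,1,3,0,3], [4,3,4,4,3], [7,6,3,4,2,0], [0,2,2,7,0], [5,6,3,3,0], [2,0,3,2,3], [6,6,3,0,7], [2,3,4,6,1,3], [3,2,4,3,6,3], [0,6,5,0,7,0], [0,1,6,6,7,0], [6,7,5,6,3], [3,2,1,1,7], [0,6,5,0,7], [1,2,7,5,6,3], [5,5,3,3,0], [2,5,3,3,0], [2,2,3,0,7], [6,0,2,2,7,0], [0,3,2,3], [5,2,3,0,7], [1,6,3,0,7], [7,5,5,0,3], [5,5,5,0,3]]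

/-- Part of the paths. -/
def pathsD110 : List (List ℕ) := [
[6,7,5,6,3,0], [6,0,2,2,7], [3,1,0,3,0], [5,7,7,1,3,0], [5,5,6,0,3], [2,7,7,1,3,0], [4,2,7,5,7,1,3], [3,3,4,6,5,3], [6,7,4,3,6,3], [1,4,6,7,1,3], [1,3,5,2,3], [5,2,2,7], [6,7,1,0,1,3], [0,1,3,3,6,0], [1,4,4,2,7], [2,7,1,7], [2,2,0,1,0,3], [5,3,2,2,3,0], [3,3,3,3,6,0], [7,7,7,0,0,0], [7,7,4,3,5,0], [7,7,6,0,3], [5,2,2,7,4], [3,1,1,6,7,0], [5,2,2,7,0], [3,3,4,6,0], [0,1,3,1,0,3], [1,6,6,0,7], [3,4,7,1,0,0], [4,3,6,4,7], [7,7,4,2,0], [6,7,4,2,7], [0,0,3,3,2,7], [5,4,7,7,2,7], [3,3,6,4,7,0], [4,6,4,5,7,1,3], [3,2,0,7,7], [1,6,1,7], [7,2,1,3], [6,7,6,5,3], [1,0,7,0], [0,7,0,7], [3,3,2,3], [7,2,2,3,0], [5,5,7,4,3,0], [1,0,7,4], [0,7,0,7,0], [2,3,5,6,0,3],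 [3,4,2,3,0,0], [1,0,7], [1,3,4,3], [7,6,0,7,0,0], [7,1,3,3,2,0], [1,3,4,3,0], [3,0,0,2,3,0], [6,5,2,4,3], [5,6,7,7,0,3], [7,2,2,4,3], [0,1,1,6,3], [7,6,1,2,3], [7,2,0,7,0], [3,3,2,5,5,3], [0,3,5,4], [5,0,3,3,4], [2,5,0,3,2,0], [1,3,3,0], [0,2,5,5,3], [0,3], [0,2,2,1,3], [2,3,3,0], [3,0,7,1,4], [0,3,4], [6,6,1,0,3], [7,5,2,5,4,3], [0,3,2,0], [1,6,0,3,4], [0,3,5,2,0], [3,0,1,7,0,0], [1,6,0,3], [0,3,2,4,2,7,0], [1,4,6,7,5,3], [4,2,7,7,5,3], [5,2,7], [1,0,1,3], [0,3,3,2,0], [4,4,3,0,7], [1,3,6,6,3], [3,4,5,2,7,0], [0,0,2,2,3], [6,3,1,3,4], [5,2,7,0], [0,2,5,2,7], [1,3,3,4], [7,1,3,0,7], [1,0,6,6,3], [0,3,1,3,4], [2,3,5,0,3], [3,2,0,7], [6,0,1,1,3], [6,0,6,1,3]]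

/-- Part of the paths. -/
def pathsD111 : List (List ℕ) := [
[6,3,3,2,0], [1,3,5,4,3], [3,2,1,3,0,3], [3,2,0,6,5,3], [6,0,3,6,3,3], [3,5,4,2,3,3], [3,4,3,3,3], [0,0,5,6,1,3], [3,2,5,5,3], [0,3,3,4], [3,5,6,1,3], [6,3,3,6,1,3], [1,0,3], [1,0,3,4], [6,6,3,3,0], [5,3,0,7], [3,4,3,3], [6,7,1,3,0], [3,3,5,7,4], [1,1,3,3,0], [0,3,1,3,2,0], [6,6,5,0,3], [2,2,0,3], [3,3,5,2,0], [7,6,1,4,3], [3,4,3,3,0], [3,4,3,3,4], [6,4,3,3,0,7,0], [4,1,6,7,1,3], [3,5,4,7,7], [6,3,4,7,7], [3,6,0,3,6,3], [4,2,3,4,7,7], [1,2,3,5,7], [3,0,1,3], [3,5,5,6,3], [6,7,1,7], [3,2,2,5,3], [6,3,3,6,5,3], [4,7,2,4,7], [2,7,1,6,0,3], [7,1,1,7,0], [0,0,3,3,4], [7,2,1,7,0], [0,1,0,3], [0,1,0,3,4], [5,3,5,0,3], [3,0,6,6,3], [3,3,5,3,0], [7,1,7,0,7],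 [3,1,2,3,2,0], [1,2,4,3], [0,2,2,0,3], [7,1,4,3], [2,3,4,7,7], [], [0], [0,0], [0,0,0], [1,0,0], [4,6,0], [6,0], [0,6,0], [2,5,0], [5,2,0], [4,5,4], [5,4], [5,0], [1,2,0], [2,4], [0,2,4], [6,1,2,0], [4,2,0], [2,0], [6,4], [2,1,4], [1,4], [4]]

attribute [local irreducible] chosen

/-- The paths. -/
def pathsD : List (List ℕ) := ([pathsD0, pathsD1, pathsD2, pathsD3, pathsD4, pathsD5, pathsD6, pathsD7, pathsD8, pathsD9, pathsD10, pathsD11, pathsD12, pathsD13, pathsD14, pathsD15, pathsD16, pathsD17, pathsD18, pathsD19, pathsD20, pathsD21, pathsD22, pathsD23, pathsD24, pathsD25, pathsD26, pathsD27, pathsD28, pathsD29, pathsD30, pathsD31, pathsD32, pathsD33, pathsD34, pathsD35, pathsD36, pathsD37, pathsD38, pathsD39,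 pathsD40, pathsD41, pathsD42, pathsD43, pathsD44, pathsD45, pathsD46, pathsD47, pathsD48, pathsD49, pathsD50, pathsD51, pathsD52, pathsD53, pathsD54, pathsD55, pathsD56, pathsD57, pathsD58, pathsD59, pathsD60, pathsD61, pathsD62, pathsD63, pathsD64, pathsD65, pathsD66, pathsD67, pathsD68, pathsD69, pathsD70, pathsD71, pathsD72, pathsD73, pathsD74, pathsD75, pathsD76, pathsD77, pathsD78, pathsD79, pathsD80, pathsD81, pathsD82, pathsD83, pathsD84, pathsD85, pathsD86, pathsD87, pathsD88, pathsD89, pathsD90, pathsD91, pathsD92, pathsD93, pathsD94, pathsD95, pathsD96, pathsD97, pathsD98, pathsD99, pathsD100, pathsD101, pathsD102, pathsD103, pathsD104, pathsD105, pathsD106, pathsD107, pathsD108, pathsD109, pathsD110,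 pathsD111] : List (List (List ℕ))).flatten

theorem testsOKD : testsOK (plain testsD) codeD = true := by decide +kernel

theorem certD : certAll threeMats (enc (y0L : GolayPt → ℤ)) (chosen codeD) pathsD = true ∧
    Nat.beq (chosen codeD).length 11178 = true := by decide +kernel

theorem ncardD : (pickL testsD).ncard = 11178 := (ncard_pickL testsOKD).trans (Nat.eq_of_beq_eq_true certD.2)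

theorem reachD {S : Subgroup Co0} (hS : ∀ g ∈ threeElts, g ∈ S) :
    ∀ y ∈ pickL testsD, ∃ g ∈ S, g • y0L = y :=
  transitive_of_cert isMat_three hS testsOKD (by decide +kernel) certD.1

theorem memD : y0L ∈ pickL testsD := by
  refine ⟨by decide +kernel, ?_⟩
  simp only [testsD, List.forall_mem_cons]
  exact ⟨by decide +kernel, fun _ h => absurd h List.not_mem_nil⟩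

end CfsgLib.Spor.Leech.Census32
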