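/-
Orbit certificate DEight.
-/
import Cfsg.Agent.Lib.Spor.Leech.Census.Data.Gens

set_option autoImplicit false
set_option maxRecDepth 20000
set_option maxHeartbeats 0

namespace CfsgLib.Spor.Leech.Census32

open Cfsg

/-- The tests. -/
def testsDEight : List (leechLattice × ℤ) := [(u3L, -16), (y0L, 8)]

/-- Their numbers. -/
def codeDEight : List (ℕ × ℕ) := [(84422585336595084411719813305156662600740575543670887098873042517394523179145638498894440270584955825472164, 4304), (112562520735956409447851611267016991984580410813578825706846029514451041733003352209561054719109825197491224, 4104)]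

/-- The representative. -/
def repDEight : leechLattice :=
  ⟨fun p => [1, -3, 1, 1, 1, -1, -1, 1, -1, -1, 1, -1, 1, -1, -1, -1, -1, -1, -1, -1, -1, -1, -1, -1].getD (ptIdx p) 0, leechTest_spec (by decide +kernel)⟩

/-- Part of the paths. -/
def pathsDEight0 : List (List ℕ) := [
[], [2,3,3,3,2,3,0,1,0], [3,2,3,0,0,1], [1,0,1], [0,0,0,3,0,1,2,1,0], [0,3,2,2,2,3,2], [2,3,3,2,3,2], [2,3,0,3], [0,1,2,2,3,3], [2,2,2,1,2,2,1], [3,2,2,3,3,0,1], [2,3,0,1,0], [2,1,1,0,0], [0,1,2], [2,3,2,3,0,0,1], [2,3,0,3,0,0,0,0], [2,2,3,0,0,1,1,0,0], [0,3,2,2,2,3,0,3], [3,3,2,2,3,0,1], [2,3,2,3,0,1,0,3], [0,3,2,1,2], [2,2,3,3,0,1,0,1], [0,1,2,1,0,3,0,1], [1,0,0,3,2,3,2,1], [2,3,2,1,2], [1,1,2,1,0,0,3], [0,1,1,0,1,1,0],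 [3,2,3,2,1,1,1,0], [2,1,2,2,1,2,1], [2,3,2,1,1,2,3], [0,1,1,0,1,2,1], [1,0,0,3,3,0,3], [0,1,2,3,2,1,1], [0,3,3,3,2,3,3,2], [1,2,3,0,0,1,1], [1,2,2,1,0,1,1], [3,0,3,0,3,3,0,1], [0,0,0,1,0,0,0,0,1], [2,1,0,0,3,0,1,1], [1,1,1,1,0,3,2,1,0], [1,1,2,3,2,2,3,0], [2,2,1,2,3,2,1,1,1], [1,0,3,3,2,2,1,0], [0,3,2,1,0,0], [0,3,3,2,1,2,2,3], [2,1,2,1,1,1,0], [0,1,0,3,2,3,3], [3,2,2,3,3,3], [0,0,1,2,3,3,2,1], [0,0,0,1,0,1,2], [2,3,2,2,1,1], [1,0,0,1,2,1,2,1], [3,2,3,2,2,3,3,3], [3,0,1,2,3,3,2,1], [0,3,2,3,3], [3,3,2,1,0,0], [1,0], [3,0,1,0,0,1], [3,3,3,2,1,0,3], [3,0,1,1,1,1,0], [1,0,1,2,3,3], [2,3,2,1,0,1], [1,0,0,1,0], [1,0,1,1,2], [2,1,2,1,2,2,1,1], [3,2,1,1,0,3,0,3], [1,1,2,1,0,0,1,2], [2,3,2,1,2,2,3],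 [0,1,1,1,0,0,0,1], [1,1,0,1,1,1,0], [0,3,0,1,0,1], [3,2,1,1,2,1,2,1], [0,1,0,0,3,0,1], [2,3,0,3,3,2], [3,2,1,2,1], [3,3,2,1,0,0,1,0], [2,3,2,1,2,2], [0,3,0,1,0,0,3], [0,0,0,1,0,0,3], [1,2,2,3,0,1,1], [2,1,2,2,1,2,2], [0,3,0,3,0,1,1], [0,0,0,3,0,1,1], [2,3,2,1,1,2], [3,0,1,1,2], [0,0,1,2,3,0,1,0], [1,2,2,1,2,2,1], [1,1,1,1,0,3,0,1], [2,1,1,0,0,1,1,0], [0,0,1,0,1,2,3], [1,0,0,3], [3,0,1,2,1,1,0], [3,3,3,0,1,0,3,0], [1,0,1,2,3,0,0,1,1], [3,0,1,1], [3,3,3,2,1,2,3,0,0], [2,1,2,2,3,0,3,0], [2,3,3,3,3,0,0], [0,3,3,0,3,0,1], [0,1,1,1,2]]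

/-- Part of the paths. -/
def pathsDEight1 : List (List ℕ) := [
[1,0,0,3,0,1,0], [3,3,2,2,2,1,1,1], [1,1,1,0,0,0,1,2], [0,0,3,0,0,3,0], [2,1,0,0,1,1,2,2,2], [0,3,0,3,2,1,2,1], [3,2,2,1,2,1,1], [3,0,1,2,2], [1,0,1,1,2,2], [0,0,1,1,0,1,0,0], [2,2,1,2,1,1,0,0], [2,2,1,0,3,2,2], [3,2,3,3,2,1], [1,0,3,3,2,1,0], [1,2,2,2,3,3,0], [1,2,3,0,0,0,1], [2,2,1,0,3], [1,0,0,1,1,2,1,0], [3,2,2,2,2,1,2,1], [0,3,2,3,2,1,0,0], [0,1,1,0,3,3,2,1,0], [3,3,2,1], [2,2,2,1,2,1], [3,3,2,2,1,1,0], [2,3,2,2,3,3,0,0], [0,1,1,2,2,2,3,3,0], [3,2,2], [1,0,0,0,3,0,0,0], [0,3,0,1,0,0], [3,0,0,0,1,0,3,0], [3,2,2,2,3,3], [1,1,0,0,3,0], [3,0,1,2,3,3,2], [3,3,0,1,0,0], [1,0,1,2,2,1,2,1], [3,2,3,2,2], [2,2,3,3,0,1,0], [1,0,3,2,3,0,3,0],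 [0,1,2,3,3,0,1], [1,0,0,1,1,2], [0,3,2,1,1,1,2], [2,1,0,0,3,3,0,0,0], [0,0,1,0,0,1,0,0], [3,0,0,0,0,1,1,0,0], [3,0,1,0,1,2,3,0], [2,2,3,3,3,2,3,2], [0,3,3,0,0,3,0], [3,2,1,0,1], [0,1,0,1,0,0,0,1], [3,2], [3,3,2,2,2,3,2], [2,2,1,1,0,0,3,0], [0,1,2,3,0,1,0,0], [1,2,1,0,0,1,0,0], [1,0,1,1,0,0,1,0], [3,3,0,0,1,2], [2,2,1,0,1,1,0], [0,3,2,3,3,0,1,0], [3,0,3,0,3,3,3,0], [1,2,3,0,3,0,1,0], [0,3,2,1,0,3], [1,0,1,1,1,2,2], [2,3,0,0,3,3,0,0], [2,1,1,1,2,3,0], [1,1,0,0,3,3,0], [0,3,2,1,0,1,0], [1,0,1,0,3,0], [3,3,2,1,0,3,3], [0,0,0,3,2,2,2,1], [1,2,2,3,3,0,0], [2,1,1,0,1,0,0], [0,3,2,2,1,0], [1,2,3,0,0,1,0,1], [1,0,1,0,0,1,1,1,0], [2,3,3,0,1,1,2,1], [3,0,1,1,0,3,2], [1,0,3,0,1,1,1], [1,1,1,0,1,1,0],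 [1,1,0,1,2,3,0,0], [3,3,2,3,2,2,2], [0,3,3,3,0,0,1,1,1], [3,3,2,2,3,3,2], [1,0,3,3,0,0,0,0,0], [3,0,0,0,1,0,0], [1,1,2,2,2,2,3], [3,0,0,1,1,2], [2,1,1,2,1,1,1], [3,0,1,2,3,0,1,2], [3,0,3,3,0,3,3,2], [0,1,0,0,1], [2,1,1,1,1,1,2,1,0], [3,0,1,0,3,0,0,3], [2,2,2,3,2,3,3,2], [2,2,3,2,1,0,3,3], [0,0,1,1,1,2,3,0], [3,0,1,2,3,0,3], [1,2,1,0,0,1,0,1,0], [2,1,2,3,3,3], [1,0,3,3,0,3,3,0], [2,2,3,0,0,1,2]]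

/-- Part of the paths. -/
def pathsDEight2 : List (List ℕ) := [
[1,2,3,0,1,1], [2,3,2,2,1,0,3], [0,1,0,3,2,3,0,1], [2,1,1,2,2,3,0,0,3], [1,1,1,0,0,0,0], [0,3,2,2,1,2,3,3], [2,3,3,0,1,0,1,0,0], [3,2,1,1,2,2,2,1], [3,2,2,1,2,2,1,1], [3,3,0,1,2,2,1], [0,3,3,2,1,0,3], [0,1,1,0], [0,1,1,0,0,1,0], [1,2,1,1,1,0,3,0], [0,0,1,0,0,1], [0,0,1,1,1,1,0], [3,3,3,2,1,1], [3,2,3,3,2,2,3,0], [3,3,0,3,2,2,3,0], [1,2,1,1,2,2], [0,1,2,2,3,0,0,1,2], [2,3,3,3,2,1,0], [3,3,2,1,0,3,2,2], [3,3,3,2,1,2,2], [2,2,3,2,2,1,1,1], [2,3,3,0,0,3,3,2], [3,2,2,3,2,1,1,1], [0,3,0,1,2,2,1], [2,1,2,2,1,1], [1,1,2,2,2,1], [1,2,3,2,3,3,3], [3,2,3,0], [3,0,1,0,3,0,3,3], [2,3,3,0,3,3,0,0], [0,3,2,2,1,1,1,0], [2,1,0,0,0,1,2], [0,0,0,0,3,0,0],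 [3,2,2,3,3,2,3,0,0], [1,1,0,3,0,3], [3,3,3,2,2,1,0], [1,2,3,0,3,0,0,0], [3,2,3,0,3], [3,0,1,1,1,2,1], [3,0,3,0,0,3], [3,0,3,0,0,1,0], [0,3,0,3,2,2,2,1,0], [2,1,1,1,2,2], [1,0,3,3,2,2,1], [3,0,1,2,3,0], [1,1,1,2,1,2,3,0], [0,3,3,0,1,1,2,2], [2,1,2,1,2,2,1], [3,3,0,1,1,1,0], [2,3,2,2,2,3], [2,1,1,2,3,3,2], [0,3,2,2,2,1,0,1], [0,0,1,1,1,2,3,3], [1,2,3,3,0,3,0], [0,1,2,2,3,0,3,2], [3,3,0,1,1,2,2,2], [0,0,1,0,1,1,1,0], [2,3,2,2,3], [3,2,1,2,3,0,1,1], [1,2,2,1,1,0,0], [0,0,1,2,1,0,1,0], [0,3,2,3,0,1], [2,3,0,0,1,1,0], [0,1,0,1,0,0], [3,0,0,0,3,0,0], [2,1,1,0,0,1,0,0,1], [1,1,1,0,1,2,1,1,0], [0,0,1,2,1,0,3], [2,3,0,3,3,0,1], [3,2,2,1,1,1,2,2], [1,0,0,3,3,2,3,0], [3,3,3,0,0,3,0,1,0], [1,1,2,3,3,3,0,3,0],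 [2,3,3,0,1,1,2,2], [0,3,2,2,1,1,2], [2,3,0,3,3,3,0], [3,2,2,3,2,2,2,3], [0,3,2,3,2,1,2], [2,2,1,0,1,0,0], [3,3,2,2,2,1,0,1], [2,2,3,0,3,2], [3,2,1,2,3,3,0,3,0], [1,2,1,0,1,1], [1,0,1,2,1], [1,2,2,1,2,1,2], [2,3,2,2,1,1,2,1,2], [0,1,2,3,2,1,1,1], [0,3,2,3,0,0,1,2], [1,0,3,0,0,1], [2,3,2,1,1], [2,3,2,2,3,3,2,1], [0,0,1,0,1,1], [2,2,2,2,3,0,3,2], [0,1,0,0,1,1,0,0], [0,1,1,0,3,0,3,0], [0,3,3,3,0,1,1,0]]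

/-- Part of the paths. -/
def pathsDEight3 : List (List ℕ) := [
[0,0,1,0,1,2,1,1,0], [3,0,0,3,2,2,3,0], [3,3,2,2,1,0,3], [3,0,3,2,1,2,2], [0,3,2,2], [2,3,3,0,0,0,1], [1,1,0,1,0,0,0,3,0], [0,3,2,2,1,0,1], [0,0,1,1,0], [2,2,1,2,3,3,2], [0,3,0,1,0,1,2], [0,1,1,2,3,2,2], [1,2,1,2,2,2,1], [1,1,1,1,0,0], [1,1,1,2,2,2,3], [3,0,1,1,0,0,1,0], [1,0,1,0,3,0,0], [1,2,1,2,3,0,0], [3,3,0,0,1,2,1,0], [2,2,1,1,1,1,2,3], [0,0,1,2,3,2,1,0], [0,1,2,3,3,3,0,3,0], [3,0,1,1,0,1,1,0], [3,2,1,1,2,3,2,1], [3,0,3,2,1,1], [0,0,3,0,1,0,0,1,0], [0,0,0,3,0,1,1,1], [0,1,1,2,3,2,1,0], [1,1,1,1,0,0,0], [0,1,1,0,1,2,3,3,0], [2,1,2,3,3,2,1], [1,2,1,1,2,2,2], [3,2,3,2,2,2,1,2], [0,1,2,1,0,3,2], [2,1,1,2,1,2,1,1], [0,3,2,1,0,0,1,1,0],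 [3,0,1,0], [0,1,2,1,1,1,1,0], [0,1,2,1,0,1,2,3,0], [0,0,1,2,3], [0,1,0,1,0,3,3], [2,3,2,2,1,1,0], [0,0,3,3,0,3,3], [1,2,2,3,0,3,2], [1,1,1,2,1,1], [1,0,0,0,3,2,2,3,0], [1,2,1,1,0,3,0,0], [1,0,3,3,0,1,0,1,0], [0,1,1,0,0,3,3], [0,0,1,0,1], [1,0,0,1,0,1,2], [0,1,0,1,0,0,1,2], [2,1,2,2,1,2,3,0], [2,3,3,0,0,3,0], [3,0,1,0,3], [3,3,3,2,3,0,3,0], [0], [2,3,0,0,1,2,1], [2,2,3,2,1,0,0], [0,0,0,0,3,0,1,0,0], [1,2,1,1,2,1,1,1,0], [2,3,2,1,2,1,0,3], [1,2,1,1,2,1], [3,2,1,2,3,3], [1,2,1,1,2,3,3,2], [2,1,0,1,1,1,2,2], [3,3,0,3,3,2,2,1,0], [3,3,2,3,2,2,3], [0,0,1,1,1,1,1,0], [1,2,1,1,1], [3,3,3,0,1,0,0], [0,0,3], [2,1,2,1,2,1,0,0,0], [0,0,0,3,2,3,0,1], [3,0,0,1,1,1,0], [0,3,2,1,0], [3,2,1,1,0,0,0,1],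 [2,2,1,2,3,3,0,3], [3,3,0,0,0,1,0,3,0], [1,1,1,0,0,0,3,3], [3,3,2,3,3,0,0,3], [3,2,2,3,3,3,2], [0,1,2,2,1,2], [1,2,2,3,3,0,3,3], [3,3,2,1,1,2,1], [3,3,2], [2,1,0,1,0,0,0], [3,0,3,2,3,0,3,0,1], [1,1,1,0,3,2,1,1], [2,3,0,3,2,3,0], [0,3,0,0,1,0,3,0], [0,3,2,2,2], [3,2,2,1,1,0,0], [2,3,3,0,1,1], [2], [3,2,2,3,0,3], [2,2,3,3], [3,3,0,3,3,3,0,0], [3,2,2,3,0,1,0], [2,2,1,1,1,1,1]]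

/-- Part of the paths. -/
def pathsDEight4 : List (List ℕ) := [
[0,3,0,0,1,2], [2,1,1,2,3,2,1], [1,0,3,2,2,3,0], [1,1,2,1,1,1,2], [0,3,3,0,1,0,3], [2,3,0,3,2,1,0,1], [2,3,3,3,3,2], [3,3,2,2,2,3,2,1], [2,1,0,0,1,0,0], [2,2,1,1,0,0,3,3], [0,1,0,3,2,1,2], [1,1,1,0,3,0,3], [1,2,1,0,1,2,3,0], [1,2,3,0,1,1,0,0], [1,0,0,3,0,1,0,1], [0,0,1], [1,0,0,3,2,3,2], [0,3,2,1,2,1,2,2], [3,0,1,1,1,2,3,0], [0,1,2,3,3,2,2,3], [2,1,1,2,2,3,3,2], [0,1,0,0,0,1], [0,1,0,1,1,1,0], [3,2,3,2], [1,1,1,1,1,0,0,0], [2,3,0,1,0,0], [1,0,1,2,1,0,1], [1,1,0,3,2,2], [1,2,1,2,2,3,3], [0,3,3,0,3,3], [0,3,3,3,0,1,2], [2,1,1,0,0,1,0,1,2], [0,3,2,3,2,2,3,0], [3,3,2,2,1,0], [1,2,2,1,2,2], [1,0,1,0,0,3,3], [2,1,0,1], [0,1,2,2,3,3,3,2],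 [1,1,1,0,0,1,0,1,2], [2,2,3,2,1,0], [1,2,2,1,2,1,0], [0,0,1,2,1,0], [0,3,3,3,2,3,0,1], [3,0,1,2,3,0,1], [0,3,3,3,3,2,1,0,0], [1,0,0,3,0,0,3,0], [3,2,3,3,2,1,0,3], [2,2,3,3,0,0,3,0], [3,2,2,2,3,3,0], [1,1,1,1,1,0,0,3,0], [2,1,2,2,3,0,1,0], [1,1,1,0], [2,3,3,3,0,3,0,1], [2,2,3,2,1], [0,3,2,1,2,3,0,3], [0,0,1,1,0,0,1], [3,0,3,3,0,1,0,3], [1,2,1,0,0,3], [1,1,2,3,0,3,0,0,0], [3,0,3,3,0,0,1], [0,1,2,1,0,1], [3,2,2,1,0,0,3], [0,1,2,1,0,3,3,0,1], [1,1,2,2,2,1,2], [2,2,1,2,1,2,2], [1,1,0,1,0,1,1,1], [2,3,0,1,0,3,0,3], [2,3,0,1,0,1,1,0,0], [3,2,3,0,1], [0,0,0,1,0,1], [0,3,3,2,1,0,1], [1,0,0,1,2], [3,3,0,1,1,1,0,0], [3,2,1,1,0,3,2,2], [0,3,3,2,3,2], [1,0,1,2,3,0,1,0,0], [0,3,0,1,0,3,3,0], [1,1,2,3,0,1,1,2],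 [2,3,3,0,3,2,2,3,0], [1,2,3,2,1,0,0,1], [2,2,3,2,3,0,1], [1,0,3,2,3,2], [1,0,1,0,1,1,2,1], [2,2,2,2,3,3,0,3], [3,3,2,2,2], [3,2,3,3,2], [0,3,0,1,1,2,2,3], [0,1,1,1,1,1,0,0], [3,3,2,2,2,2,3,3], [3,0,1,0,3,3,0,3,0], [3,2,2,1,2,2], [2,1,2,1,2,3,2,1], [3,2,3,0,1,0,1], [3,2,1,0,0,3,3], [0,3,3,0,1,0,0], [0,3,2,3,2,2,3], [3,3,3,0,3,3,2], [3,0,0,0,1,2], [0,3,0,1,1,1,0], [3,0,3,0,1,0,3]]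

/-- Part of the paths. -/
def pathsDEight5 : List (List ℕ) := [
[0,1,1,2,3,3,0,3,0], [1,2,2,2,3,0,3], [1,2,2,3,0,0,0,3,0], [0,3,2,1,0,0,3], [1,2,1,1,2,3,0,1], [2,3,2,3,0,1,2], [1,0,1,0,0,3,3,2], [2,3,3,0,1,2,1,0,1], [0,1,0,3,2,1,0,0], [2,3,3,3], [1,0,1,0,0,0,1], [0,0,1,0,3], [0,1,1,0,0,1,0,1,2], [0,1,0], [1,0,0,0,0,1,0,0], [3,2,3,0,1,2], [3,3,3,3,0,3,3,2], [2,1,1,1,1,0,0,0], [2,3,3,2,1,1,1,1], [3,3,2,2,3,0], [0,3,3,2,1,2,2], [2,3,0,0,1,0,0,3,0], [3,0,3,3,0,1,2], [3,0,3,0,3,3], [2,3,3,3,2,2,2], [0,0,0,1,0,0,1,2], [0,0,1,1,2], [0,1,1,0,0,3], [1,2,3,2,2,3,2,2], [2,3,0,3,2,1,2], [2,2,2,1,2,3], [3,2,2,1,0,0,1,2], [2,3,0,0,3,3,0], [1,2,3,2,3,0,1], [2,1,1,1,0,0,1], [2,3,2,3,0,1,0,0], [1,2,3,3],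 [3,2,2,2,1,2,1,0], [3,2,3,0,3,2,1,2], [2,1,0,0,3,2,1,1], [2,3,2,1,2,1,0], [3,0,1,2,1,0,3], [0,1,0,0], [1,1,0,1,1,2,1], [1,2,3,2,1,0,3,2], [2,2,2,2,1,2,1,1], [1,0,1,2,1,2,1,2], [1,2,2,2,2,3,0], [2,2,1,2], [0,0,3,3,0,1,1,0], [2,1,1,0,3,3,0,1], [0,3,2,3,2,1], [2,3,2,3,0,3,0], [0,0,3,2,2,2,3,2], [3,3,3,0,3,0,1], [2,2,3,2,1,0,3,2], [3,2,1,0,0,3,0,1,0], [1,1,2], [3,0,1,0,1,0,0,1,0,0], [3,0,3,0,0,3,0], [2,3,0,0,0,3,2,1], [3,2,1,0], [1,0,0,1,0,1,0], [2,1,2,3,2,1,0], [2,1,2,1,0,1,0], [3,2,1,0,0,1,0], [2,2,2,2,1,1,0,0], [3,0,3,0,1,0,0,1,0], [0,3,0,1,2,1,0,1], [3,2,3,0,3,2,1,1], [2,1,0,1,1,1,0], [1,2,3,2,1,0], [3,0,0,3,0,1,1,1], [1,0,3,2,1,2,1], [1,2,2,2,1,1,2,3], [2,3,0,3,0,1,0], [2,1,2,2], [1,0,0,3,3],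 [3,0,1,0,1], [0,3,3,0,3,3,2], [1,0,1,2,2,1,2,1,0], [3,0,3,2,1,0,1], [3,0,3,2,3,2], [0,1,2,3,2,1], [2,3,2,3,3,2,2,3,0], [2,2,2,3,3,3,3,0,0], [2,3,3,0,1,0,1], [0,3,2,3,2], [0,1,1,0,0,3,0], [3,3,2,3,0,0,3,0,0], [0,3,3,0,1,0], [0,3,3,3,2,3,2], [1,1,1,0,1,1,0,0], [0,1,0,3], [0,3,3,0,3,2,3,2], [3,2,2,1,1,1,1,0], [1,0,1,1,2,1,0], [0,3,3], [0,3,2,3,2,1,0], [2,1,2,1,2,1,2]]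

/-- Part of the paths. -/
def pathsDEight6 : List (List ℕ) := [
[0,3,0,3,2,3,0,1], [1,1,2,1,0,1,1,2,2], [3,3,3,2,2,3], [2,3,2,1,2,1], [0,1,0,0,1,1,1,0], [2,1,2,1,2,1,0,1], [1,1,2,2,1,2,1], [1,1,2,3,3], [0,0,0,1,0,0], [0,3,3,3,2,1,1], [2,1,0,3,2,1,2,1], [3,3,3,0,1,0], [1,0,0,3,0], [0,0,3,3,3,0,0,0], [0,3], [1,2,2,3,0,3,3,0], [0,0,3,2,1,0,3], [0,1,0,3,3,0,1], [2,3,2,2,1,0,1], [1,0,1,0], [3,0,1,2,3,2,2], [0,0,0,3,2,2,1,0], [0,0,1,1,1,0], [0,0,1,2], [2,3,0,3,2,3,3], [1,1,0,0,1,0,1,2], [2,3,0,0,1,1,2,1], [1,0,0,1,0,0], [2,3,2], [0,0,1,2,1,0,1], [3,3,3,0,1], [0,3,3,0,1,0,1,0], [2,1,0,1,0,0,3,3], [2,2,1,1,0,1,2,3], [0,3,0,1], [1,2,1,2,3,3,3], [0,3,2,1,0,1], [0,0,3,0,3,0,1], [0,3,2,2,3,2,2],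 [0,0,1,1,1,1,2], [1,0,0,3,0,0,0,1], [3,0,1,2,2,1,0,1], [2,3,0,3,3,0,3], [2,2,1,1,0,0,0,0], [3,2,3,2,2,1,1,1], [1,0,0,3,2,3,3], [2,3,0,3,0], [0,3,3,0,0,1,1,2], [1,1,1,1,2,1,1,1], [0,1,2,3,3,3,3,0], [1,2,3,2,2,1,0,0], [1,0,1,2,1,2,3], [3,2,3,2,1,0], [1,2,1,0,0,3,0,0], [2,1,0,3,3,3,0], [2,2,3,0,0,0,1,1], [0,1,0,3,3,2,1,1], [1,1,2,3,2,1,0], [3,2,1,0,0,1,0,0], [2,1,1,2,1,2,1], [0,3,0,1,1,2], [3,0,1,2,1,0,1], [3,0,1,2], [0,1,0,1,0], [1,0,1,1,1,0,3,0,3], [0,3,3,2,3,0,0,0], [1,2,2,1,2,3], [0,3,3,2,3,0,3,3], [3,3,3,3,2,1,1], [3,0,3,3,3,0,0,0], [3,3], [0,3,0,1,0,0,1,0], [1,0,3,3,0,1,1], [0,1,2,3,0,3], [0,1,2,3,0,1,0], [0,1,2,1,1,0,0], [0,1,0,1,2], [3,0,0,0,3,3,0], [2,3,3,0,1], [2,1,1,2,3,0,0,0],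 [0,0,1,1,0,3,2], [1,2,1,1,1,0,0], [0,3,2,2,3,3,2], [2,2,3,0,1,1,2,1], [2,2,3,3,2,3,3], [2,2,3,2,2], [0,3,3,0,1,0,0,1,0], [1,2,3,0,3,2,3,0], [2,2,3,0,3,3,3,0], [3,2,1,1,1,0], [2,1,1,1,2,2,2], [3,2,2,2,3,2,1], [3,3,2,1,0,1,2], [0,0,0,0,1,0,0], [1,0,0,1,1,2,2,2], [0,0,1,2,3,0,1,2], [0,0,3,3,0,3,3,2], [3,3,2,2,1,2,1], [0,0,0,1,0,0,3,3], [0,0,0,1,1,2]]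

/-- Part of the paths. -/
def pathsDEight7 : List (List ℕ) := [
[3,0,3,3,2,1,0,3], [2,3,3,3,0,3,3,2], [2,2,3,2,2,1,2,1,0], [2,2,2,3,3,3,3,0], [1,2,2,1,1,1], [0,0,0,1,0,0,0], [2,3,3,0,0,1,2], [3,2,1,1,2,2,2,1,2], [0,0,3,2,2,1,0], [0,0,1,0,3,0,0,3], [2,1,0,3,3,0,1], [0,0,1,0,1,1,1,2,1], [0,0,1,2,3,0,3], [2,2,1,1,1,0,1,0,0], [2,1,2,2,2,2,1,0], [3,0,1,2,1,2,3,3], [2,2,1,2,1,2,1,0], [0,0,1,2,2,2,1,2], [2,2,3,3,3,0,3], [0,3,2,2,1,1,0], [0,3,2,1], [3,0,0,1], [0,1], [1,2,2,3,2,1,0,0,0], [1,2,3,0,1,0,1], [3,3,2,1,1,0,0,1,0], [0,1,2,3,3,2,3,2], [1,1,0], [3,0,0,0,3,3,2,3,0], [2,1,1,1,2,3,3], [0,1,1,0,1,0,3,0], [0,3,2,1,0,3,3], [3,2,1,2,3,0], [2,3,3,0,3,2,2,2], [0,0,0,3,3,2,1], [3,3,2,2,2,1,2,2],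 [2,3,0,0,0,1,1], [0,0,3,3,3,0,1,1], [0,3,2,2,1,2,1], [1,1,1,0,1,2,1], [0,3,0,3,3,3,0,0,0], [3,2,1,1,1,0,1,1,0], [1,1,1,0,1,2,1,1], [3,0,1,2,3,3,0,1], [2,3,0,1,1,1,2,3,0], [3,3,2,3,3,0,1,0], [0,0,1,2,3,0,1], [3,3,2,1,0,3], [1,2,1,1,1,2,1,2], [2,1,1,1,0,1,0,0], [2,1,2,1,1,0,3,0,0], [0,1,2,2,3,3,0], [0,1,0,1,1,1,1,0], [1,0,1,1,0], [2,1,0,3,0,1], [2,1,0,1,1,0], [1,1,0,1,2,3,0], [3,3,2,1,2,2,3,3], [1,1,0,1,2,3,3,3], [2,3,2,1,0,1,0,0], [1,1,2,2,3,2,1], [1,0,3], [1,0,1,2,2,1,2], [0,3,3,2,2,1,1,0,0], [2,1,2,3,0,0,0], [0,1,0,3,2,1], [3,3,3,0,0,3,0], [2,2,3,2,3,3], [1,2,3,2,3,0,0,0,0], [0,0,1,2,1,2,3,3], [2,1,0,3,3,2,1], [2,2,2,1,2,2,3,0], [3,2,1,0,1,0,3,0], [1,0,1,1,2,3,2,1], [2,2,3,2,1,0,0,3],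 [3,3,2,1,0,1,0], [0,1,0,1,1,2,3,0], [0,3,2,1,0,0,1,2], [3,2,1,0,3], [1,1,0,1,0,1,1], [2,3,3,0,1,0,0,1,0], [1,0,1,1,0,0,3], [0,0,3,0,1,0,0], [2,3,2,2,1,2,2], [3,0,1,0,3,2,1,2], [2,1,0,0,3], [0,0,3,3,0,0,1], [3,3,2,1,1,1,2,3,3], [2,1,2,1,2,2], [2,3,3,2,1,0,1], [1,2,3,3,3,0,1,0], [3,0,1,1,0,3,3], [2,2,3,2,2,2,3,2], [0,3,2,1,0,0,1], [0,0,3,2,3,0,0,0], [0,1,1,2,3,0], [1,2,2,3,3,0,3,0], [0,0,1,2,3,3], [2,2,3,0,0,1,2,2], [3,0,1,2,3,3]]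

/-- Part of the paths. -/
def pathsDEight8 : List (List ℕ) := [
[3,0,3,2,3,0,3,3], [1,2,3,0], [1,0,0,0,1,1,0,0,0], [3,3,2,1,0,0,1], [3,0,3,2,3,0,0,0], [3,3,3,2,1,0,1], [3,3,3,2,3,2], [2,1,1,0,3,3,0,1,2], [3,0,0,1,0,1], [2,3,0,0,3,2,2,3,0], [2,1,0,1,2,3,3,0], [3,2,1,0,0,1,2], [0,0,0,1], [3,2,2,3,0,1,0,0], [3,2,1,0,1,2,1,0,1], [0,1,1,1,0], [3,3,2,1,1,1,1,0], [1,2,1,0,0,3,0], [0,1,0,1], [3,0,3,3,0,1,0,0], [0,0,1,0,3,0,1,0], [3,2,2,2,3,3,3,2], [0,3,2,2,3,3,0,1], [3,2,3,2,2,1,0,1], [0,1,2,1,0,0,3], [2,1,2,3,0,3,0,1,0], [0,3,2,2,2,3,2,1], [3,0,3,0,1,0,0], [0,1,2,3,3,3,3,2], [2,3,0,1,1,2], [3,0,1,1,1,2,1,1,1], [3,3,2,2,3], [1,0,1,2,3,3,3], [1,0,3,3,2,3,0,0], [0,1,2,2,3,2,1], [2,1,0,0,3,0,1,0,1],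 [2,2,3,3,0], [0,0,1,1,0,1,0,1], [0,1,1,1,1,0], [3,2,1,0,1,1,0], [2,2,3,0,3,3,0], [2,2,1,1,1,1,0,0], [1,1,1,1,2,2,3,0,1], [3,0,1,0,1,0], [2,2,2,3,2,1,2,3], [3,2,3,0,1,0,1,0], [0,0,1,0,1,0], [2,1,2,1,2,1,2,1,1], [3,0,1], [3,3,2,1,2,1,2,2], [1,0,1,0,3,0,3,3], [2,3,3,2,2,3], [2,1,0,0,3,3,2,3,0], [1,0,3,0,0,1,0,3,0], [0,0,3,3,0,1,0,0], [2,2,3,3,3,2], [3,3,0,3,2,3,2], [2,2,2,3,2,1,1], [3,2,1,2,2,1,2,2], [1,2,3,0,1,1,2], [3,2,2,1,0,1], [3,3,3,3,2,3,0,1], [2,1,2,1,2,3,0], [1,0,3,2,2,2], [3,0,1,2,1,0], [1,1,0,0,0,1,2,2], [1,2,3,3,3,3,2], [0,3,0,3,3,2,2,1], [1,0,3,2,3,0,3,3], [1,0,1,2,3,3,0], [2,1,0,3,2], [0,3,2,3,3,0,0,3], [2,3,3,0,1,0,1,0], [2,1,0,0,1,2,3], [2,3,3,3,2], [3,2,2,3,2,1,1], [3,2,1,0,1,2,1],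 [3,2,1,0,3,0,0,1], [0,1,1,1,2,2,2,1], [3,2,1,2,2,1,2,1,2], [2,3,2,1,1,1], [1,0,0,3,0,0,0,1,0], [1,0,3,2,1,1,2], [0,0,1,2,3,3,3], [1,2,2,1,2,1,0,0], [2,2,1,0,0,1,1,1], [0,3,0,0,1,2,1,0], [2,3,0,3,2,2,2], [3,2,3,0,1,2,2], [0,1,1,1,0,3,0,3], [3,0,3], [3,3,2,1,0], [0,0,1,1,1,2,1], [1,1,2,3,3,0,1,1], [0,0,3,0,0,1,0], [0,3,3,2,2,1,0], [0,0,1,2,1,1,0], [2,3,3,2,1,1,1,0,0], [0,1,2,3,3,3,3,0,0], [0,3,3,0,1,0,3,0]]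

/-- Part of the paths. -/
def pathsDEight9 : List (List ℕ) := [
[3,0,1,2,3,2,3,3], [2,3,2,3,3,3,3,0], [0,0,1,1], [0,1,0,0,3], [1,2,1,2,3,2,1], [1,0,0,1,2,3,0,1,0,0], [0,3,3,3,2,3,0,1,0], [1,1,0,0,0,1], [0,1,0,3,2,1,0], [0,0,0,1,1,1,0], [3,2,1,0,0,3], [3,2,3,0,1,1,2], [1,0,3,2,3,0,3], [0,0,1,1,0,3,2,1], [3,0,1,2,3,0,1,0], [3,0,1,0,1,2,3], [0,1,2,3,2,1,1,2], [0,0,1,1,0,1,1,0], [2,3,2,1,1,1,2], [2,2,3,3,0,3,0,0], [0,1,1,1,1,1,0,0,0], [0,0,3,2,1,1], [1,1,2,3,2,1], [3,0,1,0,1,1,0,0], [3,2,2,1,0,0,1], [3,3,0,0,3,0,0], [0,3,0,3,2,2,2,2], [2,1,2,1,1], [1,1,2,1,1,0,0,3,3], [0,3,2,1,0,3,2], [0,0,1,2,2], [0,0,1,0], [1,1,0,1,1,0,0], [2,1,1,1,2,3], [3,2,3,3,3], [3,0,1,2,1,2,1], [1,2,2,3,0,1,2], [2,1,1,1,2,1,0,0],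 [2,1,0,3,0,0,0], [2,2,2,1,1,1,2], [3,2,3,0,1,1,0,0], [2,2,1,0,3,2,3,3,2], [3,3,2,1,0,1,1,0], [3,0,1,2,1,1,2], [2,2,3,2,1,0,0,0], [0,3,2], [1,1,2,2,2,2,1], [2,1,0,0,3,2,1,0,0], [3,2,3,0,1,1,0], [3,3,3,3,0,3,0], [3,0,3,0,1,0,0,1], [1,0,3,2,1,2,1,1], [3,3,2,3,2], [1,0,1,0,1,1,1], [0,1,1,0,0,3,0,1,0], [2,3,2,1], [3,2,2,3,3,0,1,0,1], [2,2,3,0,1,2,1,1,0], [2,2,3,2,2,2,3], [2,2,1,1,1,2,2,2], [2,3,2,1,2,1,0,0], [0,3,3,2,1,1], [3,0,3,3,2,3,3,2], [1,2,2,3,3,2], [1,1,1,2,1,0,3,0,0], [0,1,0,1,1,0], [2,1,1,1,0,3,0,0], [1,2,1,0,3,3,3], [2,3,2,3,3,0,0,0], [0,0,3,0,3,3,2], [3,3,2,3,2,1], [2,3,2,1,2,3], [3,2,2,2,1,2], [3,3,2,3,0,1,0,0], [2,1,1,1,0,1,0,3], [0,3,0,0,0,1,1,0,0], [3,0,3,0,3,0,1], [1,0,3,0,3,2,1],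 [0,0,1,2,3,0], [1,0,0,0,1,1], [0,0,0,3,2,2,3,0], [3,3,3,0,1,0,0,3], [0,0,3,2,1,2,2], [0,1,0,3,2,2], [0,3,2,2,1,0,3], [2,2,3,2,2,1,2,3], [2,1,1,2,1,0,0,0,0], [0,3,2,2,3,3,3], [3,3,3,0,0,1,0], [1,1,2,1,2,1], [2,3,0,0,3,0,1], [1,1,0,3,2,3,0], [1,2,1], [1,2,3,3,0,0,3], [3,0], [3,3,0,3,0,0,3,0,0], [2,3,3,2,3,0,0], [1,0,0,1,1,0,3,0], [0,3,3,2,1,2,3,0], [3,2,1,1,0,3,3,0,0]]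

/-- Part of the paths. -/
def pathsDEight10 : List (List ℕ) := [
[3,0,3,3,2,1,1], [3,3,0,1,0,0,3], [2,1,0,0,1,2], [3,0,0,3,0,1,1], [3,2,1,2,2,3,0,1,1], [3,0,0,1,0,0,3], [3,3,0,1,0,3,3], [1,0,3,2,1,0,1], [3,3,0,1,0,1], [3,0,3,3,0,3,0,1], [3,2,3,2,1,2,1], [1,1,2,2,2,2,2,1], [0,0,1,1,0,3,0,1], [1,2,3,3,2,2,3,0], [0,0,3,0,1], [0,0,0,3,2,3,2], [1,1,1,1,2,1,0,0], [1,0,0,0,0,1,1,2], [1,2,3,3,0,3,0,0], [0,0,1,2,2,1,0,1], [3,3,2,2,1,1,2], [1,0,1,1,0,3,0,1,0], [1,1,1,0,3,0,1], [2,2,3,0,3,0,1], [1,0,0,0,3,0,1], [0,1,0,0,3,0,1,0], [0,1,0,0,3,2,1,2], [1,1,0,3,3,2,1,1], [0,0,1,1,0,0,3], [2,3,0,3,0,0,0,3], [0,3,0,0,3,3,0], [2,2,2,1,1,1,2,2], [3,3,2,3,2,1,2], [3,2,1,2,1,0,1,1], [3,2,2,2,3,0,3,2], [2,1,2,2,1,2,2,2],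 [2,1,1,1,2,2,2,3], [0,1,1,0,0,1,0,0], [0,3,2,2,3,0,1,0], [1,0,0,1,2,3,2,1,0], [0,1,0,0,1,2], [3], [3,2,3,0,1,0,3], [1,2,1,0,0,0,3,2], [0,1,2,1,2,1,1], [0,1,0,0,1,2,2], [2,3,3,3,0,3,0], [0,3,0,0,3,0,0], [1,1,0,3,0,3,3,3], [2,1,0,0,1], [3,0,0,1,0,1,2], [3,3,2,3,3], [0,0,1,0,1,2], [3,3,0,1,1,2,1], [1,0,1,2,2], [2,3,2,1,1,1,0], [2,3,2,2,3,0,3,0], [0,3,3,0,1,0,0,3], [3,3,2,1,0,0,0,1], [3,2,2,3,3,3,3,0,0], [3,3,2,1,0,1,0,1], [3,2,3,0,1,1], [1,2,3,0,1,2,1], [3,3,3,0,1,2,3,2,1], [1,2,1,1,2,1,0], [2,1,0,0,0,1], [3,0,1,2,1,0,1,0], [2,2,1,0,1,0,3,0,0], [3,3,2,3,0,1], [0,0,3,3,0,1,2], [0,3,2,2,3,0], [0,3,0,0,1,2,1,1,0], [3,0,1,0,1,1], [3,0,1,0,1,2,1,1,0], [0,0,1,1,0,0], [3,3,3,3,0,1,1,0], [1,0,3,0,3,0],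 [3,0,3,2,1,2,3,0,0], [3,2,3,0,1,0], [3,0,1,2,3], [2,1,1,1,1,0], [3,0,3,3,0,3,3], [0,1,0,3,3], [3,3,2,2,1,0,0,3], [2,1,0,1,2,3,0], [3,0,1,1,0], [1,2,1,0,3,0,3,0], [3,0,3,2,3,0,3,0], [3,2,1,1,1,1,0,0], [0,0,3,0,1,0,0,1], [0,3,3,3,0,3,0], [1,2,3,2,2], [3,2,3,3], [0,0,3,2,3,3,2,1], [2,2,3,3,3,3,0], [0,3,2,3,2,2], [3,3,0,1,0,0,1,0], [2,1,0,3,3,2], [3,3,3,2,3,0,3,3], [0,0,1,2,1,1,2]]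

/-- Part of the paths. -/
def pathsDEight11 : List (List ℕ) := [
[3,0,1,1,0,0], [2,3,0,1,0,0,3,0], [2,2,2,1,2,2,2,2], [1,0,1,1,1,1,2,3,0], [0,3,2,1,0,1,1,0], [1,1,0,3,2,3,3,0], [0,1,2,1,1,1,1], [2,1,1,1], [1,0,3,2,3,3,2,1], [2,2,3,2,3,3,2], [2,1,2,3,0,3,0], [1,2,1,0,0,1,1,1], [3,0,1,2,3,2,1,1,2], [2,2,1,2,1,0], [3,0,3,2,1,2], [3,0,0,0,3,2,1,2], [3,0,3,0,1,0], [0,1,1,2,3,3], [2,3,3,3,2,3,3], [0,0,0,3,0,0,3,0], [3,2,2,3,3,3,3,0], [1,0,3,2,2,2,2], [1,1,2,1,0,3,0,0], [0,1,2,1,1,1], [1,0,1,1,0,3,0,0], [1,1,0,0,0,3,0,0], [3,0,0,0,1,2,1,0], [2,3,3,2,1,0,3,3], [0,1,0,3,2,3,2], [2,3,0,0,0,1,2], [0,0,3,2,1,0,1], [3,2,1,1,2], [2,2,3,0,1,2,1], [0,0,3,2,3,2], [1,1,0,3,3,0,0], [2,1,2,2,3,0,0], [3,0,3,2,1,2,2,3],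 [1,1,2,2,2,1,0,3,0], [3,0,0,0,3,2,3,3], [2,2,2,2,2,1,0,0], [0,0], [0,0,0,0,1,2,1,0], [3,0,0,1,1,2,2,2], [0,3,3,3,3,0,1,1], [1,2,2,1,2,3,0], [2,3,3,3,3,0], [3,2,2,3,0,3,0], [2,2,3,2,2,2,2,3], [1,0,0,0,1,2,2], [3,3,0,1], [0,3,3,2,2,3], [3,3,2,1,1,1,0], [2,1,2,3,0,1,2,1], [3,3,2,1,0,1], [0,1,1,1,2,3,3], [0,0,3,0,1,0], [1,1,2,2,3,3,3,2], [0,0,0,0,3,2,1,2], [3,0,1,1,0,0,3], [0,0,3,2,1,2], [0,1,2,2,1,2,1,0], [1,2,2,3,0,0,1], [3,2,3,3,0,1,1,2,1], [2,3,3,3,0,1,0], [3,2,3,3,2,3,3], [3,2,1,0,1,2,2], [0,1,2,3,3,3], [3,3,3,2,2,2,3,0,0], [3,0,1,0,1,2], [0,3,3,0,0,3], [0,3,3,0,0,1,0], [0,1,1,2,1], [1,2,1,1,2,3,3], [3,2,3,0,3,0,1], [0,3,2,2,3,0,3], [2,1,0,3,0,1,1,1,0], [3,3,2,3,2,2], [3,0,3,2,3,3,2,1],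 [2,1,0,0,1,1,0], [0,3,2,3,0,0,3,0,0], [0,0,1,1,2,3,0,1,0], [1,1,2,3,2,2], [1,1,0,1,0,3,0,0], [3,0,3,0,3,0,1,1], [3,2,3,3,0,1,0,1], [2,1,2,2,2,3,0,0], [3,0,1,1,0,3,0,1], [3,0,3,0,1], [3,0,3,0,1,2,3,3], [0,1,0,1,1,2,1], [1,0,0,3,3,3,0,3], [3,3,3,0,0,3,2,3,0], [0,0,0,0,1,2], [2,1,2,1,1,2,1,0,0], [0,0,3,0,1,0,3], [1,2,3,3,3,0,1,2,1], [3,0,0,1,0,3,3,0], [0,0,1,0,1,1,0,0], [2,1,0,1,1,2,1,1], [1,2,1,1,2,1,0,1,0]]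

/-- Part of the paths. -/
def pathsDEight12 : List (List ℕ) := [
[1,2,2,3,0,1,0,1,0], [3,0,0,1,2,1,0,1], [0,1,1,1,2,3,2,1], [0,3,2,2,3,3,2,1], [1,0,1,1,1,0,3,0,0], [3,2,2,1,1,1], [0,3,3,0,3,3,3,2], [2,1,0,0,3,0,0,1], [3,2,2,1,2,3,0,3,0], [2,1,1,1,2,1,2], [2,1,1,1,1], [3,3,0,1,2,1,0,1], [3,0,3,3,0,0,0,0,0], [2,3,2,1,1,0,3,0,1], [1,2,3,2,1,0,0,0,0], [1,1,1,0,3,3,2], [1,0,1,2,3,3,0,0,0], [3,2,1,2,3,2,1,0], [0,1,2,1,1,1,2,3], [0,0,1,2,1,2,1], [2,2,3,0,3,0,0,3], [3,3,0,3,2,3,0,1], [3,0,0,1,1,2,1], [3,3,3], [0,1,0,0,1,0], [0,3,3,0,1], [3,0,1,1,1,0], [1,1,2,1,1,1,1,1], [3,0,0,3,2,2,1,0], [3,0,3,2,1,0,3], [3,2,1,0,1,0], [1,0,0,3,0,3,0,1], [1,1,2,2,3,2,2], [2,2,2,1,0,1,1,2], [2,2,2,3,3,2], [3,3,0,3,3,0],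 [2,2,2,3,3,0,1,0,0], [1,2,2,3,3,0,0,3,0], [3,3,0,1,1,1,1,1], [3,2,3,3,0,3,3,0], [2,2,2,1,0], [0,0,3,3,3,0,3,0,0], [2,2,1], [3,0,0,0,0,3], [1,2,3,0,0,3], [3,3,0,3,3,3,2], [2,1,1,0,3,2,1,0], [0,0,0,3,3,2], [2,2,2,2,2,1,2], [0,1,2,1,0,1,2], [1,2,1,1,0,3,3,0,1], [2,3,0,0,0,3,0,0], [2,2,2,3,2,1,2], [0,3,0,0,0,3,0], [3,2,1,0,0,3,2,1,1], [0,1,2,2,2,1,0], [1,0,1,1,2,2,2], [3,3,2,1,2,2,1], [1,1,1,0,3,2,3,2,1], [2,3,0,1,2,1,0], [3,2,2,1,1,1,0,0,0], [1,0,0,1,1,0,0], [3,2,1,0,0,1,1,0,0], [2,1,1,0,3,2], [2,2,2,3,0,1,0], [3,0,0,3,0,3], [2,2,2,3,0], [0,3,0,3,0,0,1,2], [0,3,3,3,2,3,0,0], [2,1,2,1,1,0], [2,3,0,1,2,1,0,3], [2,3,2,2,1,0], [1,1,0,1,0,3,0], [2,2,2,3,2,1,0,1], [0,0,1,1,2,2,2,2], [1,2,2,1,0,0,3],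 [2,2,2,2], [3,3,3,2,1,0,0,0,0], [1,0,1,1,0,1,2,2,3], [3,2,2,2,1], [3,0,0,3,3,2], [1,0,0,3,0,1,0,0], [1,1,2,2,2,3,0,3], [3,3,0,1,2,1,1], [0,1,2,2,2,3,3], [1,1,1,1,0], [2,3,0,1,2,3,3], [1,2,3,0,3,3], [2,2,1,2,1,1,1,1], [0,3,0,3,3,2], [2,2,3,0,3,0,3,0], [3,2,2,1,0,0], [0,3,0,1,0,1,0,0], [2,1,1,2,1,2,1,0], [1,0,3,3,3,0,3], [1,2,2,3,2,3,3], [0,3,0,1,1,0,3,0,1], [2,2,2,3,2,3,3], [1,1,2,2,1,2,3,0], [3,2,1,2,3,3,0]]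

/-- Part of the paths. -/
def pathsDEight13 : List (List ℕ) := [
[2,2,2,2,2,1,1,0,0], [1,1,1,2,3,3,0], [2,2,2,2,1,0,1], [3,3,3,2,2,2,1,1], [2,2,1,1,1,0,0], [0,3,2,2,1,1,1], [2,3,3,2,3,2,2], [3,0,0,3,0,0,1], [2,1,0,1,2,2,2,3,3], [2,2,1,1,2,1], [3,0,3,0,3,0,3,0,0], [1,1,0,1,0,0,0], [2,2,2,2,1,2,3,3], [0,1,1,0,3,0], [1,2,3,0,1,0,3,0], [1,0,3,0,1,1,0], [2,2,2,3], [1,0,3,0], [2,1,2,3,2,2,1,0], [0,1,1,1,2,3,0,0], [1,1,2,2,2,2], [1,0,1,0,3,3,0,0,0], [1,2,3,3,0,1,2], [2,2,2,2,1], [1,2,1,0,3,3,3,3], [0,0,3,0,0,3,3,0], [3,3,2,3,0,3,3,0,0], [2,1,2,1,2,1,1,0], [3,2,3,2,1,1,1], [2,2,3,3,0,3,3,0], [0,0,0,3,0,0,1], [1,2,2,3,2,2,3,3,2], [2,1,2,1,2,2,3,0], [2,2,2,2,1,1,1,0,0], [3,2,2,1,2,2,2,1], [1,2,1,2,1,1],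 [0,3,2,1,1,2,1,1], [1,1,1,2,3,0,3], [1,1,1,1,2,3,0,1,0], [2,2,2,2,2,1,0,1], [0,3,0,0,3,3,0,0], [1,1,2,2,1], [1,1,1,0,3,0], [0,0,0,3,0,1,1,0], [2,1,0,1,1,2,3,0,0], [3,2,1,1,1,1,2,1,0], [3,3,0,0,3,3,0,0], [1,1,0,1,0,3,3], [3,2,3,2,2,2,2,2,1], [1,1,0,1,1,0,1,1], [1,1,2,2,1,0,1,0], [3,0,3,0,1,2,2,3,0], [3,3,3,2,3,0,0,0,0], [0,0,1,2,1,0,3,0], [1,1,2,3,0,0,0], [3,0,0,3,0,1,1,0], [1,1,2,3,0,0], [1,2,1,1,0,0], [0,1,0,1,1,1,1], [1,0,0,3,3,0,1], [1,1,2,2,1,2,3,2,1], [1,1,2,3,0,3,3], [1,0,0,3,0,3], [0,0,0,3,3,0,0], [0,3,0,3,0,1,2,1], [3,2,1,0,3,0], [2,2,2,1,0,1,0], [2,2,2,3,0,1,1,1,0], [0,1,2,2,1,1,2], [1,0,0,0,0,0,1,2,2], [2,2,1,0,1,1,1], [0,1,1,0,0,3,2], [3,2,3,2,1,2,1,1], [2,2,1,1,2,2,3], [3,0,0,3,3,0],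 [2,3,0,3,3,0], [2,3,0,0,0,3,0], [2,3,0,3,0,1,1,0], [0,3,0,1,1,2,1,2], [1,1,2,2,1,1,1,0], [2,2,1,0,1,2,3], [2,1,2,2,1], [1,0,3,3,3,3,2], [1,1,2,3], [2,2,1,1,0,1,0,0], [0,3,0,0,3,0,0,0], [1,2,1,2,1,2,3,0], [1,2,1,2,3,0,1], [1,2,2,1,0,3,3], [0,1,1,0,3,3,2,1], [1,1,0,1,2,1,1,0], [3,3,3,0,0,1,2,1,0], [0,1,2,1,0,3,2,1], [1,0,3,3,0], [2,1,2,3,2,1,1], [3,2,2,2,2,1,0], [1,0,3,3,3,3], [0,1,1,0,0,0,0,0,3], [3,0,0,0,0,1,2], [1,1,2,3,3,0,1,1,0]]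

/-- Part of the paths. -/
def pathsDEight14 : List (List ℕ) := [
[2,1,0,3,2,1], [0,1,2,2,1,1,1,0], [2,2,1,0,1,0,1], [2,3,0,1,2,3], [0,0,0,1,1,0,0], [2,1,0,1,2,1,0], [1,2,3,0,3,0,0,1], [2,3,0,0,0,3,2], [0,1,1,2,2,2,2], [1,2,1,2,3,0,0,1], [0,0,0,0,0,1,2], [2,3,0,1,2,1,0,1,0], [0,0,0,3,0,1,0], [0,3,0,3,3,0], [2,2,2,3,0,3,3], [1,2,2,1,1,2,1,0], [2,2,2,2,2,2,3,2], [0,0,0,3,3,3,0,1], [2,2,3,3,3,0], [0,0,0,0,0,3], [0,3,2,2,1,2,3,3,0], [0,1,2,2,2,3,0], [1,0,3,3,3,3,0,1], [1,2,2,1,1,2,3], [0,0,0,3,0,3], [2,2,3,0,1,1,2,2], [0,1,2,2,1], [1,1,2,1,2,3,2,3,0], [2,2,2,1,0,1,0,1], [1,2,3,0,1,1,2,2], [1,1,0,3,3,3,3,0], [1,2,2,3,3,3,0,0], [0,1,2,2,2,3,3,2], [2,3,0,0,0,3,0,3], [0,1,2,1,1,2,1], [3,2,2,1,0,1,2,1,0],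 [3,2,2,2,3,3,3,0], [1,2,2,2,2], [3,2,1,0,3,3,0], [0,3,2,2,2,2,1], [2,1,1,1,1,2], [3,0,3,0,3,0,0,0,3], [1,1,0,0,0,1,2,1], [0,3,0,3,0,3,2], [3,0,3,3,3,0,3,0,0], [3,0,1,2,2,1,2,2,1], [2,1,0,1,2], [2,2,1,1,1,0], [2,3,0,1,2,2,1], [3,0,0,3,0,1,0], [1,1,0,0,1,1,1,1], [3,0,0,1,1,0,0], [1,0,0,0,0,0,3], [0,0,1,2,1,2,3,3,0], [3,0,0,3,0,1,2,1], [2,2,2,3,0,1], [2,1,1,2,1,0,3,0], [3,3,0,0,0,0], [3,3,0,0,0,3,3], [0,1,2,1,0,0], [2,1,0,3,3,2,3,0], [1,0,3,3,0,0,1,0], [3,3,2,1,1,1,1], [0,3,2,3,0,3,3,2], [3,2,1,2,3,0,1], [2,3,0,0,0,3,0,1,0], [2,3,3,2,1,2,3], [0,3,0,3,0,3,2,1,0], [3,0,0,0,1,2,3,0], [1,1,2,1,2,1,2,1], [0,1,2,1,0,3,3], [0,1,1,2,3,3,0], [1,0,0,1,0,3,3,0], [0,3,3,3,3,0,0], [1,1,1,0,1,2,3,0,0],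 [0,3,0,3,3,0,3], [1,2,3,0,3,0,1,1], [2,3,2,2,3,3,3,0], [1,0,0,0,0,0,0], [3,3,2,2,1,2,1,1], [0,3,2,2,1,1,2,3], [0,0,0,0,0,1,1,0], [2,3,2,2,2,2,2,1], [2,3,0,1,1,1,2], [2,2,2,3,3,0,3], [2,1,1,0,3,3,0], [2,2,3,3,2,2,2,3,0], [1,0,3,0,3,0,3], [1,2,1,1,0,3,2,1,0], [0,0,1,0,0,0,0,0], [2,2,2,2,1,0,1,0], [2,2,2,2,3,3], [0,0,0,0,0,3,2,2], [1,0,3,0,0,1,0], [2,1,2,2,2,1,1], [3,2,1,1,1,0,3,0], [1,0,0,3,2,1,1,2], [1,2,1,1,0,3,2], [2,1,0,0,0,3,0,3], [3,0,1,1,2,2,2,3]]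

/-- Part of the paths. -/
def pathsDEight15 : List (List ℕ) := [
[3,2,2,2,2,2,1], [2,2,1,1,1,1,2], [3,0,0,0,0,1,1,0], [2,3,3,0,3,0,3,2], [1,2,1,2,2,2,3], [2,3,0,1,2,2,2], [3,2,2,3,3,0,3,3,0], [2,3,3,2,1,0,1,1], [0,0,0,0,0,1,0,3], [3,3,2,3,0,0,0,0], [1,1,1,2,2,2,2], [0,3,0,3,3,0,0], [2,1,2,2,1,0,0], [2,3,3,0,3,0,3,0,0], [1,2,2,2,2,1,0], [3,0,0,3,0,3,0,1], [3,0,0,0,3,0,0,0], [2,2,2,1,0,0], [1,2,1,2,1,0,3], [1,1,1,2,2,3,0], [1,1,1,1,0,1,1], [3,0,0,3,2,2,1,1], [2,1,0,0,0,0,1], [2,1,0,0,0,0,0,3], [3,3,0,1,1,0,0], [0,3,0,0,0,0,0,1,0], [2,3,0,3,3,0,0,0], [0,1,1,2,1,2,1], [2,2,2,3,3,0,0,1], [1,0,1,2,1,0,0], [2,1,2,3,3,2,3,0], [3,3,0,3,3,0,0], [3,2,2,2,2,1,0,0], [1,1,2,3,0,0,1,0], [0,0,3,3,3,3,0],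 [0,0,1,1,1,1,1], [3,0,0,3,3,0,1,0,1], [3,3,0,0,1,2,2], [3,2,2,2,2,3], [0,0,3,2,2,2,1,1], [2,3,0,1,2,1,0,0], [0,1,1,1,2,1,2,3,0], [1,2,3,3,2,2,1,0,0], [1,2,3,3,0,0,0,0,0], [2,1,2,2,2,1,2,3], [1,2,1,2,1,1,0], [0,1,2,2,2,2,1,0], [3,3,2,2,1,1,1], [2,1,1,2,1,0,1,0], [1,2,1,0,3,3,2,3,0], [0,1,1,1,0,3,3,0], [2,3,3,0,3,0,0], [0,3,0,3,0,0,3], [1,2,1,1], [0,3,2,3,0,3,0,3], [1,2,2,3,2,2,3,0], [2,2,2,2,1,0,1,0,1], [0,0,3,2,1,0,0,0], [0,1,1,2,2,2,1,0,0], [3,3,0,3,2,1,2,2], [3,3,2,1,2,1,0,0], [0,0,3,0,1,2,1], [0,3,0,1,2,1,2,1], [1,1,0,0,3,3,3,3,0], [0,0,0,3,2,1,2,2], [2,2,2,2,2], [2,3,0,0,0,0,0,3], [0,1,2,1,2,1,2], [3,3,3,2,2,2,2,1], [0,0,1,2,1,2,1,1], [2,1,2,1,0,3,0,3,0], [3,2,2,2,2,3,0,1], [1,2,3,3,0],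 [3,3,0,3,0,1,1,0], [0,1,2,2,3,3,3,0], [3,0,3,2,2,1,0,0], [3,3,0,3,3,2], [0,3,2,2,1,2,1,2,1], [3,0,3,0,3,3,0,0], [2,1,0,0,0,3,0,0], [2,3,2,1,0,1,2,1,1], [2,2,2,1,0,1,1,1,0], [2,2,2,3,0,1,0,1], [1,1,1,1,2,2], [1,0,3,2,3,2,2], [2,1,2,2,3,3,0,1], [0,3,2,3,3,3,3,0,0], [3,2,1,2,2,1,0,0], [3,2,2,2,2,3,3], [2,1,0,1,0,3,0,0], [1,2,1,0,0,0,1,2], [1,0,0,1,2,1,1], [0,1,1,1,1,1,0], [1,2,3,0,0,1,0], [2,1,1,1,0,0,0], [3,0,0,0,0,0], [3,3,2,2,3,2,1,1,1], [1,0,1,1,1,2,3,0,1], [1,0,1,1,2,3], [3,0,3,2,3,3,3,0]]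

/-- Part of the paths. -/
def pathsDEight16 : List (List ℕ) := [
[1,2,3,0,1], [2,3,0,1,2,2], [1,2,3,3,3,2], [2,1,2,1,0,1,1], [2,2,2,1,2], [0,0,0,1,1,2,1,0,3], [1,2,3,2,1,1,1], [1,0,0,0,1,2,3], [3,0,0,1,1,1], [2,3,2,3,0,3,0,0], [1,0,1,1,0,0,1], [0,0,3,3,3,0,0], [0,3,0,3,0,3], [3,3,3,3,0,3,0,3,0], [2,2,3,2,1,2,1], [2,2,3,0,0,3,0,0], [0,3,0,0,0,3], [3,2,2,2,1,1,1,0], [3,3,0,3,0,3,2], [2,3,0,0,3,2,1,2], [3,2,3,0,0,1,1,0,0], [2,2,1,2,1,0,0,3], [1,1,1,1,1,0,0], [3,3,0,3,0,0,1,2], [2,2,2,1,0,3], [1,2,1,0,1,1,0], [1,0,3,2,1,0,3], [1,0,3,2,3,3], [2,2,2,3,3], [1,1,0,1,2,1,2,1], [0,3,0,1,1,1], [2,2,1,2,1,0,1], [0,0,0,1,2,1,2,1], [1,2,1,2,2,1,1], [0,1,2,2,2,1,2], [0,0,0,1,2,2,2,2,1], [2,3,0,1,2,3,0],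 [3,0,0,1,2,1,1], [0,1,1,2,3,0,0,1,0], [2,3,0,0,3,0,3,0], [0,3,0,0,0,1,0,0], [2,3,0,3,0,3,0,1], [2,1,1,2,2,3,2,2,3], [0,3,3,2,3,3,2], [3,0,3,3,3,0,0], [3,3,3,0,3,3,0,0], [3,2,2,3,0,1,1], [3,3,3,2,3,3,2], [2,3,0,1,1], [1,2,1,2,1,2,1,0,0], [0,0,1,0,0,3,0,3], [3,2,2,1,0,3,3], [3,0,3,2,3,3,2], [1,0,0,1,1,0,0,0,0], [2,3,0,1,2,3,3,2], [2,3,3,2,2,3,0,1], [1,2,2,1,2,2,3,0], [0,0,0,0,3,0,0,0], [2,2,1,0,0,0,3,2], [2,2,1,0,0,3,0], [2,2,1,1,2,1,0], [1,1,1,2,2,3,2,2], [0,0,0,1,1,1,1,1], [1,1,1,2,3,0,0], [1,0,1,2,1,2,3,3,0], [2,3,0,1,0,1,0,0], [1,0,3,3,2,1], [1,1,0,0,1,2,1,2,3], [3,3,0,3,0,1,2,1], [1,2,1,2,1,0,1,0], [2,3,2,3,0,3,0,3,0], [3,0,0,1,0,3,0,0,0], [3,0,3,2,2,2,1,1], [0,0,1,1,2,2,1], [1,2,1,2,3,0,3,3,2],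 [1,0,3,2,2,1,1,1], [3,2,1,2,1,1], [0,1,1,1,1,0,3,0], [1,1,1,1,2,3,0], [0,1,2,2,2,1,0,0], [1,0,0,1,0,0,0,0], [2,1,1,0,0,3,3,0,0], [1,0,1,0,3,2,1,0,0], [0,0,0,3,0,3,0,1], [2,2,2,1,2,1,2,1], [3,0,0,1,0,1,0,0], [2,3,0,0,1,2,2], [3,0,0,3,0,3,2], [3,2,2,2,1,1,2], [2,1,2,2,2,1], [0,1,1,2,1,1], [1,1,1,1,2,1,0], [3,0,0,0,0,1,0,0], [1,1,2,2,2,3,0], [2,1,1,2,1,0,0,0], [0,1,1,2,1,2,1,1], [0,0,0,3,3,0], [1,1,1,1,0,1,1,2], [0,0,1,1,1,0,3,3,0], [3,0,1,2,2,2,1]]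

/-- Part of the paths. -/
def pathsDEight17 : List (List ℕ) := [
[0,1,2,2,2,2,1], [3,2,1,2,2,2,1,0], [1,2,2,3,0,3,0,0], [2,3,0,0,1,1,2,2], [2,1,2,1,2], [3,3,3,0,1,1,0,0], [0,0,3,3,0,1,0,3,0], [2,2,2,3,3,0,3,0], [1,1,2,1,1,1,0,0,0], [2,1,2,1,1,0,1,2,1], [1,2,3,2,2,2,3,2], [1,1,2,1,2,3,0], [3,0,3,3,3,3,0], [3,3,0,3,0,0,3], [1,2,1,1,0,0,1,0], [2,2,2,2,2,3,2], [3,3,2,2,2,2,2,3,0], [1,1,1,1,2,3,3], [3,2,1,2,1,1,0,0], [3,0,1,0,0,3,3,2], [3,2,3,0,0,3,3,0], [3,2,1,1,2,3,0,0,0], [0,0,0,1,0,1,0,0], [3,0,1,2,2,2,2,3,0], [1,0,0,3,2], [2,3,3,2,2,2,3,0], [0,3,0,3,0,1,0], [0,0,0,3,3,0,1,0], [1,0,1,0,0,0], [3,0,0,3,3,0,1,0], [1,1,1], [3,3,3,0,1,2,1], [0,3,3,2,1,0], [0,1,1,2,2,2,3], [0,0,0,3,0,0,1,2],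 [2,3,0,3,3,0,1,0,1], [1,2,1,0,3,0,1,0,0], [1,2,2,1,0,1,2], [2,1,2,2,3,0,1,1], [0,3,0,0,0,0,1], [3,2,1,2,1,2,1], [0,1,1,0,1,0,0,0], [0,0,1,2,2,2,1], [0,0,0,0,1,2,2], [0,3,2,2,1,2,1,1], [1,2,1,2,3,0,1,1], [0,1,0,3,0,3,3,0], [0,3,2,2,2,1,0,0], [1,0,1,2,3,3,2], [3,2,1,0,0,0,0,0,3], [2,2,2,1,1,2,2,1,1], [1,0,0,3,3,0,0,0], [3,3,3,3,2,3,0,0], [0,3,0,0,0,0], [0,3,3,2,2,2,2,3], [2,3,2,2,3,3,2], [2,2,2,3,0,0,1,2], [1,0,1,1,0,3,2,1], [0,3,0,3,2,1,1,1], [3,3,0,3,3,0,3], [2,1,0,0], [3,3,2,2,2,2,1], [0,0,0,3,3,3,3,0], [3,0,3,0,0,1,1], [1,0,3,0,0,0,1,1], [0,0,0,0,1,2,3,0], [2,2,3,0,0,3,0], [1,2,2,1,0,0,1,2], [0,1,0,1,2,2,1], [1,2,3,3,0,1,1,0], [0,3,0,0,0,3,3], [2,2,3,0,1,1,1], [3,0,0,1,1,2,1,2], [0,0,1,2,3,2,1,1,1],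 [1,0,0,3,2,1,1], [3,3,0,3,0,3], [1,0,3,3,2,1,2,3], [2,1,2,2,3,3,3,0], [1,2,2,1,0,1,0,1], [3,3,0,0,0,1,0,3], [1,1,2,1,2,1,1,2], [1,2,1,0,0,0,0], [0,3,0,3,3,3,2], [2,1,0,0,3,0,1,0], [1,1,0,3,2,2,1,2], [1,2,1,1,0,3,0,1], [3,3,0,0,0,3], [2,3,3,2,3,0,0,3,0], [1,0,0,1,2,1,0,0], [2,1,1,2,2,2], [1,0,0,0,3,2,2], [1,2,1,0,3,2,2,2], [2,3,3,2,1,2,2], [3,0,0,0,3,3,0,0], [1,0,3,2,2,2,3,2], [3,3,0,1,0,1,0,0], [3,3,0,3,3,0,1,0], [3,2,3,2,2,2,1], [0,0,3,2,3,3,2], [0,1,1,1,0,1,2]]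

/-- Part of the paths. -/
def pathsDEight18 : List (List ℕ) := [
[0,0,0,0,0,0], [2,2,3,0,1,2,2], [3,2,2,1,0,1,2], [3,3,3,3,0,1,0,3,0], [1,0,1,1,0,1,2], [2,1,0,3,3], [2,2,2,1,0,0,0,1], [3,2,2,2,2,3,0], [3,2,1,1,1,1,0], [0,0,0,1,1,1], [0,3,3,2,1,0,0,0], [0,0,0,1,2,1,1], [3,2,3,2,1,2,3,3,0], [2,1,1,2,1], [2,3,0,1,1,1,2,1], [2,2,2,2,2,1,1,0], [2,3,3,2,2,3,3,0,0], [3,3,3,2,1,0,0,0], [3,2,1,1,0,1,2], [1,2,2,2,2,1,1,0], [3,0,3,2,1,0], [1,2,1,2,2,2,1,1], [1,1,2,1,2,3,3,0,3], [2,3,0,3,0,3,3,0], [0,0,3,2,1,0], [0,1,2,3,0,1,2,2], [2,2,1,2,3,0,1,1], [2,2,3,2,1,2,2,3], [1,1,0,1,2], [1,2,2,1,0,0], [3,0,3,3,3,0,3,2], [3,3,0,0,0,1,0,0], [0,3,2,1,2,1,0,0], [2,3,0,0,1,2,1,0], [3,0,3,0,1,1,0,0], [2,2,1,1,2,3,0,1],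 [1,2,2,2,1,0,0], [1,2,2,2,2,1], [1,0,0,0,0,0,1,1,0], [3,0,3,0,1,2,1], [0,0,0,3,2,2,1,1], [1,2,1,2,2,3,2], [2,1,2,1,2,3,0,0,1], [2,1,2,3,0,3,0,0], [2,3,2,3,3,3,0], [2,2,3,3,3,0,0,0], [2,3,3,3,0,0], [2,1,0,0,1,1,0,0], [2,1,0,1,0,3,0,0,1], [2,3,3,0,3,3,0], [1,1,0,3,3,0], [0,3,2,3,0,0,0,0], [0,1,2,1,2,2,1], [3,3,0,0,3,0,0,0], [3,2,1,2,1,0,1,2], [1,0,1,0,0,0,0,0], [0,3,0,1,1,0,0], [1,2,1,1,0,0,0], [1,2,1,1,0,0,3], [0,1,1,1,2,2,1], [0,3,2,3,0,1,1,0,0], [1,2,2,2,1,1,2], [1,2,2,2,3], [0,1,1,1,2,3], [2,1,1,2,2,1,1,1,0], [3,0,0,0,0,0,1,0], [1,1,0,0,0,3,0], [2,1,0,3,0,0,1,1], [1,0,0,0,3,2,1,0,0], [1,2,1,2,1,2,3], [3,2,1,1,1], [1,1,2,3,0,3,3,0], [2,1,1,2,2,2,2], [3,3,0,3,0,1,0], [3,0,1,1,1,1,1], [2,2,3,0,0,0,3],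 [0,3,3,0,1,2,1], [1,0,1,2,2,1,1], [1,1,1,1,2,3,0,1], [3,2,2,3,0,3,3,0], [3,2,1,1,2,3], [3,0,0,3,3,0,0], [3,3,0,1,1,2,1,2], [1,2,1,0,1,2], [1,2,1,2,1], [2,2,2,2,1,0], [3,3,0,1,2,1,2,1], [1,0,0,0,0,3,2], [2,2,1,1,2], [0,1,1,1,1], [2,3,2,1,0,0,0,0], [0,3,3,3,0,3,0,0], [1,1,2,3,0,3,2], [2,1,2,1,2,1,2,1], [3,3,3,2,1,0], [1,0,0,0,0,0], [2,3,3,0,3,3,3], [1,2,2,2,1,0], [0,0,0,0,0,1,0,0], [3,2,1,0,1,0,0,0]]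

/-- Part of the paths. -/
def pathsDEight19 : List (List ℕ) := [
[2,1,1,2,1,0,3,3], [3,2,2,1,2,1,2], [0,1,1,1,2,2,2,3,0], [1,2,1,2,3,2,1,1], [0,1,2,2,1,0,1], [1,2,3,0,3,3,0,3], [1,0,1,0,3,0,0,0], [0,0,1,0,1,0,0,0], [2,1,2,3,3,3,3,0], [1,0,1,1,1], [3,0,1,0,0,0,0,1,0], [0,3,3,0,1,1], [3,2,1,1,0,0,0], [0,1,1,0,3,2,1,1], [1,2,1,0,1,1,1], [3,2,1,1,1,0,0], [0,3,3,2,2,1,0,3], [1,1,1,1,2,3,2,1], [2,1,0,1,2,2,3,0], [2,1,0,3,0,0,1,0], [2,2,2,1,1,0,1,0,0], [2,2,1,1,2,1,0,0,0], [3,2,2,2,2,1,1,1,0,0], [2,2,3,2,2,3,3,2], [3,2,3,0,3,3,0], [0,0,1,0,3,3,0,1], [1,2,1,1,2,2,3], [2,2,1,1,1,2,1,2], [3,2,2,2,1,2,3], [2,3,2,2,3,2,2], [1,0,3,0,0,3,0], [0,3,3,0], [3,3,2,2,2,2,3,0], [3,2,2,2,1,1], [3,0,3,3,0,1,2,3],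 [0,0,0,0,3,2,1], [0,0,3,2,2,2,2], [0,1,0,0,1,2,1,0,0], [1,1,0,1,1,2,2,1], [1,0,1,2,3,2,2,1], [1,2,3,0,0,3,3,0,0], [1,1,0,0,3,3,0,3], [1,0,3,2,1,0,0,3], [2,2,1,1,2,2,1,1], [3,0,1,1,1,1,0,0], [1,1,1,1,2], [2,3,2,1,2,2,3,0,0], [3,3,0,3,0,0,0,0], [2,1,0,0,1,0,3,3,0], [0,0,3,2], [0,3,0,1,2,2,3,0], [3,0,3,3,3,2], [3,0,0,3,0,1,0,0], [3,3,2,2,2,2], [2,3,2,2,3,3,3,3,0], [3,0,0,0,3,0,1,2], [1,0,1,0,1,1], [3,2,3,3,0], [1,2,2,3,2,3,3,2], [2,2,3,2,2,3,3,0], [0,0,1,0,0,0,1,0], [0,0,0,1,2,1,1,2], [1,0,1,1,1,1], [1,0,3,0,3,3,3,2], [1,0,0,3,2,2,2], [2,3,2,3,3,0,3,3], [3,3,0,0,1,2,3], [2,2,2,1,2,3,0,0,0], [0,3,2,2,1,2], [3,3,2,3,3,0,3,2,1], [0,3,0,0,1,1,0,0], [1,0,3,0,1,0,0,3,0], [2,1,1,0,0,1,2,1], [2,3,2,1,0,3,2],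 [0,1,1,2], [2,2,2,3,0,3], [3,3,0,3,3,0,1,2], [1,2,1,0,1,1,2,2], [1,0,3,2,1,0,1,1,0], [1,2,3,3,0,0,1,0], [0,1,1,0,0,0], [2,2,1,0,3,0,0], [3,0,1,1,2,2,3,0], [1,0,3,3,2,1,0,1], [3,0,3,2,1,2,1], [1,0,3,2,1,1,1,0,0], [1,0,0,0,3,3,3], [2,3,0,0,3,0,0,0,1], [1,0,3,2,3,2,1], [2,1,1,1,2,1], [3,0,0,0,1,2,3], [0,1,1,1,0,1,0,3], [2,3,2,2,3,0,1], [2,2,3,0,3,0,0], [1,2,1,0,3,0,1], [0,0,3,2,2,3,0], [3,2,2,2], [1,2,2,3,2,1], [3,3,0,3,3,3,0,3], [3,3,3,0,3,2,1,0]]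

/-- Part of the paths. -/
def pathsDEight20 : List (List ℕ) := [
[1,1,1,2,3,0,1,0], [3,0,0,3,0,0,0,0], [2,1,1,0,3,2,1], [3,0,0,0,3,3,0,0,0], [1,0,1,2,3,0], [2,3,2,2,1,1,2,2], [2,3,2,2,2], [3,2,2,1,0,1,2,3], [0,0,3,0,0], [1,0,0,3,3,0,3,3,0], [3,3,2,2,1,0,1,2], [0,1,2,1,0,3,2,2,2], [0,3,0,0,0,1,2,3,0], [3,2,3,2,2,2,1,1], [0,0,1,2,1,0,0], [1,2,1,0,1,0], [3,3,0,1,2,3,2,2], [2,1,1,0,3,2,2,2], [2,2,2,1,1,0,0], [2,1,1,0,1,2,1], [0,3,0,3,3,3,0], [1,1,2,3,3,3,0], [3,0,0,0,3,2,1], [2,1,0,0,1,2,1], [1,0,0,0,3,3,2,1], [1,1,0,1,2,3,3,0], [3,0,3,2,2,2,2], [0,0,0,0,0,3,3,2], [2,3,0,1,1,2,2], [3,3,3,0], [0,3,3,2,1,1,0,1,1], [0,1,1], [1,2,1,0,1,2,3], [1,1,1,2,2,2,1,2,2], [1,2,1,2,1,1,2,3], [1,1], [3,2,2,3,0,1],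 [2,3,0,1,0,3,0], [0,0,3,3,3], [1,1,1,2,1,2], [1,2,3], [0,0,0,3,0,3,0,3], [0,1,0,3,0,3,3], [3,3,3,2,1,2,1,2,2], [3,3,0,1,0,0,0,1,1], [2,2,3,2,2,2], [2,2,1,1,1,2], [1,1,2,3,3,0,1], [1,1,2,2,3,0,0,3], [1,2,1,0,3], [0,3,0,1,2,3], [0,3,0,3,3,0,0,1], [0,1,2,1,0,0,3,3], [0,1,2,3,3,2], [2,1,0,1,2,1], [0,1,1,0,3,2,1], [2,1,0,3,2,2,2], [0,3,3,0,3,0,0,0], [1,2,2,2,1,0,1], [3,2,1,2,1,0,1,0], [2,1,0,1,0,3,0,0,0], [0,0,3,3,2,1,1,2], [3,2,3,3,3,0], [2,3,2,2,1,2,3,3,0], [3,0,0,0,0,3,3,2], [2,1,1,2,1,1,0], [0,0,1,1,1,2,2], [1,2,2,2,1,1,1,0], [3,0,1,2,1,0,0], [0,0,1,1,1,2,1,0], [0,0,0,0,0,3,2,3,0], [3,3,0,0,0,1,2,3,0], [3,3,2,1,2,1,1], [0,1,1,2,3,0,1,0,0], [1,2,1,2,3,0], [0,3,3,3,0,0,0], [3,2,1,2,2,2,1],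 [0,3,0,1,2,1,0], [1,0,3,0,3,0,1,2], [0,0,3,0,3], [2,2,3,3,3,3], [1,2,2,1], [2,3,2,1,2,1,2,1], [2,2,1,0,3,3,3], [2,1,0,0,3,0], [2,2,2,1,2,3,3], [1,2,2,1,2,2,2,2], [3,3,2,3,3,2,3,0], [1,2,2,1,1,1,0], [1,1,1,2,3,0,3,2], [3,2,1,0,0,3,3,0,0], [3,0,0,0,1], [3,3,0,0,1,2,1,2], [3,2,1,0,0], [2,3,3,3,0,1,0,0], [0,3,2,1,2,3,0,0], [0,1,1,0,3,2,2], [3,0,0,3,3,2,3,0], [2,2,3,2,3,3,0,0,0], [3,3,2,2,3,3,3,0]]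

/-- Part of the paths. -/
def pathsDEight21 : List (List ℕ) := [
[3,2,2,1,0,1,0,1], [1,1,2,2,1,0,1,1,1], [1,1,1,2,2,3], [1,2,1,2,1,2,1], [2,1,0,3,3,0,3,0], [2,1,0,0,3,0,0], [1,2,2,1,0,1], [0,1,0,3,3,2,2,2], [2,1,1,1,1,1,0], [1,1,0,1,2,2,2], [2,3,3,0,0,1,2,3], [0,1,2,1,2,3], [2,1,1,0,3,0,0,1,0], [2,2,1,0,3,0,3], [1,0,3,3,0,0,1], [2,3,0,1,1,1,0], [3,2,2,3,0,0,0], [2,3,3,0,3,3], [1,0,3,0,1], [3,0,0,0,3,0,1], [1,2,3,3,0,1,2,2], [3,2,2,1,1,2,3], [2,1,1,0,1,0,3,3], [3,3,0,3,0,1,2], [3,0,3,3,0,1,0,1], [1,0,1,2,3,0,0], [1,1,0,1,2,2,3,0], [3,3,0,1,2,3,3], [3,0,0,1,0,0,1,0,0], [1,1,0,1,1,0,1,2], [1,1,1,0,1,0,0], [3,0,0,0,3,3], [2,1,0,0,1,0,0,0], [0,0,1,2,2,2,2,1], [0,0,1,0,3,3,0,0], [0,0,3,3,0,0,0],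 [2,3,2,1,0,0,0,1], [3,2,3,2,2,1,2,1], [0,0,0,1,2,1,0], [1,1,1,0,1,2,1,0], [3,3,0,3,3,0,0,1,0], [2,2,2,1,0,1,2,3], [0,3,2,1,0,1,0,0,0], [3,0,0,0,1,1,1], [3,0,0,0,0,0,3], [1,0,0,0,3,0,0,1], [0,0,1,0,3,0,3], [0,0,3,3,3,2,3,0,1], [1,2,1,0,3,3], [2,2,3,0,1,1], [3,3,3,3,0,1,1], [2,3,0,0,0,1,1,0], [1,2,3,0,3,0,0], [0,1,1,0,0,1,1,1], [0,1,0,3,2,1,1,1], [1,0,0,0,3,0,3], [3,2,3,3,0,1,1,0], [0,0,1,0,0,1,2], [0,0,1,1,0,0,1,0,0], [0,3,3,2,3,3,2,3,0], [3,0,0,0,0,3,2,1], [3,0,3,2,2,1,2], [3,2,3,3,0,3,0,1], [2,2,1,0,1,0,1,2], [2,2,1,1,0,1,1,0], [0,3,2,2,2,1], [3,3,2,3,3,0,1,1,0], [0,3,2,3,0,1,0,3], [0,1,2,1,2,3,0], [0,1,1,1,2,3,0], [0,0,3,3,2,1], [2,1,0,3,3,3], [2,2,1,2,3,0], [3,0,0], [1,2,1,1,0], [0,1,2,3,0,0,1,0],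 [2,3,0,0,3,0,0], [0,0,1,2,2,1,2,1], [1,0,1,2,3,3,3,3,0], [2,2,2,1,1,2,1,1], [2,3,0,0,3], [3,0,0,3,2], [3,3,3,0,3,0,0,0,0], [0,1,0,3,2,3,0,0,0], [1,2,2,2,2,1,1,1], [0,3,2,1,2,3,3,0], [0,3,2,2,3,3,0,1,0], [2,1,2,1,1,1,1], [1,1,0,3,2,1,1,2], [0,1,0,1,2,3,2,2], [1,0,0,1,1,0], [3,0,1,1,1,0,0], [3,2,3,3,3,3], [3,3,2,1,1,2], [1,2,3,2,1,2,3,0], [0,3,0,3,3,0,0,0], [2,2,1,0], [2,2,1,2,3,3], [1,1,1,2,2], [0,1,2,3,2,2]]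

/-- Part of the paths. -/
def pathsDEight22 : List (List ℕ) := [
[3,2,2,2,1,0], [0,1,0,3,0,3,0], [0,1,2,1,0,1,1], [1,2,2,2,3,0,0], [2,2,3,0,3,3,0,1], [0,3,0,1,0,3,0,0], [2,1,1,0,1,1], [1,2,3,2,3,0,1,0], [0,1,0,0,0,1,2,1], [2,1,2,2,2,3,3,0], [3,2,1,0,0,1,1,0], [1,1,0,0,3,0,0,3,0], [0,3,2,3,0,0,0], [3,2,2,2,1,2,3,3], [2,3,2,1,2,3,0,3], [1,1,1,0,0,0,3], [3,3,3,2,3,2,2], [2,2,2,1,1,0,0,1,0], [3,0,1,2,2,1,2,1], [0,3,0,3,2,2], [1,1,1,1,0,0,0,1], [2,3,3,2], [1,2,3,0,3,3,3], [3,0,1,1,1,2,2], [1,1,2,2,3,0], [1,2,3,0,1,2], [2,1,0,0,3,3], [0,1,2,2,1,1], [0,3,2,1,1,0,1,2], [0,0,1,1,2,3,3,0], [2,2,1,0,0,1,0,0], [1,2,2,3,3,3], [0,1,1,1,0,0,0,0,1], [1,2,1,0,0,1,0], [1,0,1,1,2,3,0], [3,0,0,1,1,0,0,1],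 [1,0,3,2,1], [0,0,1,1,2,2,2,1], [1,0,1,1,0,1,2,3], [3,0,1,1,1,2,1,0], [3,0,0,3,2,3,0,3], [0,0,1,0,1,1,2,1], [2,3,0,1,1,0,0,1,0], [3,2,1,1,2,1,1,0], [2,1,1,2,3,2,2,1], [3,3,3,3,2,2,2,1], [2,1,0,1,2,2,2], [0,3,2,1,2,2,3], [0,0,1,0,0,0,1,2,1], [2,2,1,1,1,2,1,1,1], [1,2,3,0,1,1,0], [3,2,1,0,0,1], [1,0,1,2,2,2], [3,0,0,1,1,0,3,0], [2,1,1,1,0,3,2,2], [1,0,0,1,2,1,0], [0,0,1,0,0,0,3,0], [0,1,2,2,3,2,1,1], [2,2,2,1,1,0], [3,2,1,1,2,1,2], [3,0,1,1,2,2], [1,1,1,2,2,2,1,2], [0,0,0,3,3,0,1,0,0], [1,2,3,2,2,2,1], [1,1,1,1,0,0,3,2], [2,1,1,2,1,0,3], [2,2,1,1,1,0,3,0], [2,2,3,2,1,1], [1,1,0,3,0,3,0], [2,1,0,0,1,0,1,0], [3,3,2,1,2,2,3], [2,1,2,2,1,2,3], [1,0,0,0,0,3,0], [1,1,2,2,1,0,3,0], [0,3,2,1,1,2,1,0],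 [0,3,3,0,0,0,1], [0,0,1,1,0,3,0], [2,2,2,2,3,3,3], [0,1,1,1,1,2,1,0], [2,2,3,0,1,0,1,0], [1,1,0,0,3,3,0,0], [0,3,3,3,0,1,2,1], [3,0,1,2,1,2,2,1], [3,0,3,3,3,2,1,0], [1,2,2,2,2,2,2], [1,0,0,1,1,1], [2,2,1,0,0,1,1,0,0], [0,3,2,3,3,3,0,3], [3,0,1,0,3,0,3], [0,1,0,1,2,1,2,1], [2,3,2,3,0,1,2,2], [0,3,2,1,0,1,1], [1,0,1,2,3,2,2], [3,3,0,1,2,3,0,1], [1,2,1,0,0,3,0,1], [2,2,3,2,2,1,0], [0,0,3,3,3,3], [3,0,0,1,2,1,0], [0,3,0,0,0,3,0,0,0], [3,0,3,3,0,0,0]]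

/-- Part of the paths. -/
def pathsDEight23 : List (List ℕ) := [
[0,3,2,1,1,1], [2,2,3,0,0,3], [3,0,0,3,2,1,0,0,0], [0,1,1,2,2,3,2,1], [0,1,0,0,3,0,0], [0,1,1,0,1,2,3,0], [0,0,1,2,3,3,0], [2,3,0,0,1,0,0,1], [2,1,2,1,2,2,2], [2,1,2,3,3,3,3,2], [3,2,1,0,1,0,0], [2,2], [1,2,2,3,3,3,3,0], [1,1,1,2,3,2,1,0], [2,1,2,3,3,3,0], [2,1,0,1,2,3], [2,3,2,1,1,0,3,3], [2,3,3,2,2,2,2], [3,3,0,1,1,0,3,0], [0,0,0,0,1,2,3], [1,2,2,3,3,2,1], [1,0,1,1,2,2,2,1], [2,1,0,1,0,0,1,0,0], [2,1,1,2,1,0], [2,2,2,3,2,1,0,0,0], [2,3,3,3,2,3,2,2], [0,0,1,2,2,1,1], [1,0,1,1,1,0,3,0,1], [1,0,3,3,2,1,2,1], [1,2,3,0,3,0,1], [1,0,1,2,1,2,1,1], [0,3,0,0,3,2,2,2], [3,3,3,0,1,1,2,1], [0,1,2,2], [1,0,1,0,0], [3,3,3,0,3,3,0],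 [0,1,2,1,1,2,1,0], [3,0,3,2,1,2,1,1], [3,3,0,0,3,0,3], [2,3,3,3,2,3,0,0], [2,3,0,3,0,0], [1,2,2,1,1,2,3,3], [3,3,3,2,3,3], [0,3,2,2,1,0,0,1], [3,2,1,1,0,3,0,0], [2,1,2,2,3,2,1], [1,2,3,3,3,3,0,0], [0,3,3,3,2,3,0,3], [2,3,2,2,2,3,0,0], [1,1,1,2,1,0,0,3,0], [1,0,0,0,3,0], [1,2,2,1,2], [2,2,2,2,2,1,1], [0,3,0,1,2], [1,1,0,1,0,1], [3,0,0,3,0,0,0,1,0], [3,3,0,0,0,3,2], [3,3,2,2,1,1,0,0], [3,0,3,0,1,2,1,0,0], [0,0,1,0,1,2,2,1], [2,1,2,2,2,3,0], [2,2,1,2,1,2,1,0,0], [0,3,3,0,0,3,0,1], [3,0,0,0,3,2,1,1], [0,0,0,1,0,0,3,0,0], [3,2,3,3,0,3,0,0], [3,2,2,2,3,0,1,0,1], [2,3,3,2,1,0,3], [3,3,2,3,3,3,0,1,1], [3,0,3,3,3,3,2], [3,3,0,0,1,1,1], [3,3,0,0,1,2,1,1], [1,2,2,3,3], [1,2,3,3,0,0,1], [0,3,3,3,2,2,1,0],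 [2,2,1,0,0,0], [3,2,2,2,3,0], [1,0,1,0,0,1,2,2], [2,3,2,2,3,2,1,1], [0,1,2,1,0,3], [2,3,3,2,1,0,0,1], [2,2,3,2,2,2,2], [1,1,2,3,2,1,0,0], [0,1,2,3,0,3,2,1], [1,0,0,0,1,1,1,2], [1,2,1,1,2,1,0,0], [1,2,2,2,2,3,3,3], [3,3,2,2,2,3], [3,2,1,1,1,2,1], [1,0,0,1], [2,1,2,1,0,3,2], [2,3,3,2,3,0,3,0,1], [0,1,1,0,1,2,2,2], [0,0,1,1,2,2], [0,0,0,1,1,0,1,1,0], [3,3,3,2,2,1,1,2], [2,3,0,3,3,3], [1,1,2,1,2], [0,3,0,1,1,0,0,3], [3,2,3,0,3,3,0,1]]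

/-- Part of the paths. -/
def pathsDEight24 : List (List ℕ) := [
[3,2,1,1,0,3,3], [0,1,2,2,2,1,1,0], [3,0,0,1,2,1,1,0], [1,2,1,0,3,3,0,1], [1,2,3,0,3,0], [3,3,0,3,2,1,1], [1,2,2,3,0,3,2,1], [1,1,2,1,1,0], [1,0,0,3,0,1,2], [0,1,1,2,2,1,0,3,0], [1,0,3,2], [2,1,0,0,1,1,1,0], [2,2,1,1,2,3,3], [2,3,3,0,0,1], [3,3,3,3,0,0,0,3], [0,1,2,1,1,2,3,3], [3,0,1,1,1,2,2,2,1], [2,2,2,3,0,0], [0,3,2,3,2,2,1], [3,2,1,0,1,0,1], [3,2,2,3,0,0,1,2], [0,3,3,0,0,0,3,0,0], [2,3,0,0,3,0,0,0], [2,1,0,3,0,3,0], [2,2,1,1,1,2,2], [2,3,2,2,1,1,1], [1,0,3,0,1,1,1,1], [2,3,2,2,1,0,1,1], [0,1,2,3,3,2,3,0], [3,0,1,2,3,2,2,1], [1,2,1,1,2,1,0,3,0], [0,3,2,1,2,1,1], [3,2,1,1,2,2,3], [0,1,1,2,2,1], [0,1,0,0,3,0,3], [3,0,3,3,2,3,0],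 [3,2,1,0,0,1,2,3], [2,1,1,0,3,3,0,0], [1,2,2,1,2,1,2,1], [1,1,2,1,0,0,1], [2,1,1,1,2,2,1], [0,0,0,0,1], [1,1,2,1,2,1,1,0], [1,0,3,2,2,2,1,0,0], [3,0,3,0,0,3,0,0], [1,2,2,2,1], [1,0,1,0,0,0,3,0], [1,0,0,3,3,0,0], [0,3,2,3,3,2,3,0], [1,1,1,1,1,2,3,0], [2,1,1,0,0,3], [3,2,2,2,1,0,0], [0,3,3,3,0,0], [2,2,1,2,3,2,1], [1,0,3,3,3,2,2,1,0], [3,0,0,0,0,1,0], [0,1,1,0,0,0,0], [1,2,2,3,0,1,0], [1,2,2,3,2,2,1,2,3], [2,3,2,3,0,1,1], [1,1,2,2,3,0,1], [0,0,0,1,0,0,3,0], [2,3,0,0,0,0,1], [2,3,3,2,2,1,0,0], [3,3,0,3,2,1,2,3], [0,1,2,1,2], [2,1,0,0,1,1,2,1,1], [1,2,2,1,1,2], [1,0,0,3,2,1,2,2], [3,0,1,2,2,3,3], [3,3,0,0,1,0,1,0], [2,3,0,1], [0,1,1,2,3], [0,3,3,3,0,3], [1,0,1,2,1,1,2,2], [0,1,0,0,3,3,3],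 [1,2,2,3,2,2,3], [2,3,3,2,3,2,2,3], [3,2,2,2,3,0,1,0], [0,1,0,1,1], [2,3,3,2,3,0,1,0,0], [1,1,0,3,2,2,3,0], [3,2,1,1,0,3,2], [0,1,1,1], [0,1,1,2,1,0,3], [2,1,0,1,1,1], [1,2,3,3,0,3,3,2], [1,2,1,2,1,2,1,1], [1,2,2,2], [3,3,3,2,3,2,2,3], [1,2,2,2,1,1,0], [0,1,2,2,3,2,2,2], [1,0,0,1,1,2,2], [1,0,0,1,2,3,3], [0,1,1,0,3,3,0,3], [0,1,1,0,1,1,0,0,0], [2,3,0,3,2,2,2,1], [0,1,0,0,0], [0,3,0,3,0,1], [0,0,0,3]]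

/-- Part of the paths. -/
def pathsDEight25 : List (List ℕ) := [
[0,3,0,1,1,0], [2,1,1,0,3,0,0,1,1], [2,3,3,2,3,2,1,1], [3,0,0,1,2,3,0,1], [1,0,3,0,0,3,3,0], [3,3,3,2,3,3,0,1,0], [2,3,3,2,1], [1,2,1,2,3,3,0], [1,1,0,1,2,1,1], [1,2,3,0,0,1,2], [1,2,3,3,2,2,2,2], [3,2,2,1,1,2,2,3], [1,0,1,0,1,2,1,0], [0,3,0,1,0,1,1], [3,2,3,3,2,2,1], [0,3,3,0,0,1,1,1], [2,2,1,1,0], [3,2,2,2,1,0,3,0], [1,0,3,0,1,0,3], [0,0,0,1,0], [3,3,3,3,0,0,3,0], [2,1,0,0,3,3,3,0], [2,3,2,2,1,2,2,2], [1,1,0,0,3,0,3,0,0], [2,3,3,2,1,1,2,1], [1,1,0,1,2,2,3], [2,3,0,3,0,3,0,3], [0,3,3,3,2,2,1], [1,1,0,1,2,1], [0,1,2,3,0,3,0,1], [0,0,1,1,2,2,2], [2,2,1,1,0,0,1,0], [1,0,1,2,3,3,0,0], [3,0,3,2,3,3,3], [2,1,1,0,3,0,1], [2,3,2,1,1,2,1,2],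 [0,3,2,2,3,3,3,0], [1,2,1,2,3,3,0,3], [1,0,0], [2,1,0,1,0,1], [2,3,0,3,0,0,1], [1,0,3,3,3,0], [0,1,0,1,2,1,2,3], [0,0,0,3,3,2,3,0], [3,3,0,3,2], [3,3,2,2,3,3,3,3], [2,2,2,1,0,1,2], [3,3,2,2,3,3,0,0], [1,1,2,1,0,3,0], [3,2,3,3,2,1,2,1], [0,0,1,0,0,0,0,1], [3,0,1,2,3,2,1], [1,2,1,0,0,3,2,1,1], [1,1,0,1,1,0,0,0], [3,3,0,3,2,1,0,1], [0,0,3,2,1,1,1], [0,1,1,1,2,3,3,0], [3,0,3,2,1,0,3,0], [1,2,2,3,3,0,1], [0,0,3,2,1,0,1,1], [2,1,2,1,0,1,1,0], [2,3,0,0,0,3,0,0,0], [2,3,3,3,3], [2,3,3,0,0], [2,3,2,3,3,0,3,0], [3,3,3,2,2,1,2,3], [0,1,2,3,0,3,3], [1,1,2,2,3,2,2,3], [0,1,2,3,0,0,0], [2,1,1,2,3,0,0], [2,1,1,0,0,3,3,0], [2,2,1,1,1,2,3,0], [3,0,3,2,3,3,0,1,0], [2,1,0,1,0,3,0], [1,1,1,0,3,3], [2,1,0,1,1,0,1,1],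 [0,3,3,2,3,0], [1,2,3,2,2,1,2,2], [3,0,1,1,1,2,1,1,0], [1,1,1,2,1,1,1], [3,0,1,2,3,0,0,3], [2,3,3,3,0,0,0], [1,1,2,2,3,3,2], [1,0,3,3,0,3,0,0], [0,0,1,0,0,0,1], [0,3,3,3,2,1,1,1,0], [2,2,2,2,2,2,1], [3,2,3,0,0,1,2], [3,0,1,0,0], [3,3,3,0,1,1,0], [2,2,1,2,1,2,3,0], [3,2,1,1,0,3,3,0,1], [0,1,2,1,1], [0,1,1,2,3,0,3,2], [3,3,0,1,2,2], [0,3,2,3,0,3,2,1], [2,1,0,1,1,1,1], [1,1,1,0,3,0,0], [3,0,3,3,2,1], [3,2,3,0,0]]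

/-- Part of the paths. -/
def pathsDEight26 : List (List ℕ) := [
[2,3,0,0,1,0], [2,3,0,0,3,3,0,0,1], [0,1,1,1,2,1,0,0,0], [1,1,2,3,0], [3,2,2,2,1,2,3,0], [2,1,2,3,3,2], [3,3,2,2,2,1], [2,1,0,0,1,2,1,0,3], [1,2,1,2,2,3,0,0], [2,1,2,3,0], [1,0,1,0,3,3,0,1], [2,2,3,0,3], [3,2,2,1,0,3,3,3], [0,0,1,2,2,2,1,1,0], [1,2,3,2,2,1,1,1], [2,1,2,3,0,1,1,0], [2,2,2,2,3,2,1], [2,1,0,0,3,0,1], [0,3,3,2,2,2], [1,0,3,2,3,2,2,3], [1,0,0,3,0,3,0], [2,1,2,2,3,0,1], [2,1,2,1,2,3], [0,1,1,0,3,0,3,2], [2,3,2,1,0,1,1,0], [2,1,2,3,0,1,0], [2,1,2,2,3,3], [2,1,0,3,2,3,2,1], [2,2,1,1,2,2,2,1], [1,0,3,2,2,1,1,0], [1,0,3,2,2], [3,3,2,1,2,3,0,0], [3,2,3,2,1,0,0], [2,1,2,3], [1,2,1,2,3,3,3,0], [2,1,0,1,2,1,1,0], [1,0,1,0,0,0,1,1],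 [1,2,3,2,2,1,2,3], [2,1,1,0,3,3,3], [1,1,0,0,3,3,2], [2,3,3,2,3,0], [1,0,3,3,3,2,3,0,1], [1,2,2,1,1,0,1,2], [3,3,2,3,2,2,1], [2,3,3,2,3,3,3], [0,3,2,1,2,3,3], [3,2,1,0,3,2], [1,0,3,3,0,0,0,1], [2,2,3,3,2,1], [1,2,2,1,0,3,0], [3,2,2,2,1,1,1,2,2], [0,1,2,1,1,2,2], [3,2,2,2,2,3,0,0], [0,1,0,3,0,3,2,1], [1,1,1,0,3,3,0,0], [2,1,1,2,3,3], [1,0,0,1,0,1,1], [0,3,2,3,0,3,0,0], [3,0,3,3,0,3,0,0,0], [2,1,1,1,0,0,0,1], [1,2,1,2,2,2,2,1], [3,3,2,3,0,3,2,1], [0,1,1,0,3,3], [3,0,1,1,1,2,2,1], [3,3,3,2,3,0,1,1,0], [1,2,3,0,3,2], [2,1,2,3,3,0,0,1], [0,3,2,1,2,2], [0,0,3,2,1,1,2], [3,3,3,2,3,0], [1,0,1,1,0,1,2,3,0], [3,2,3,0,1,0,0], [2,2,3,2,2,3,0,1], [3,0,1,0,0,0,1], [0,1,0,0,3,2,3,3], [3,3,0,1,0,3,0],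 [2,2,1,2,2,1,2,1], [2,2,3,0,3,0], [2,1,0,3,0,3,3], [2,1,1], [2,2,3,2,3,0,3], [3,0,0,3,0,3,0], [1,1,1,1,2,1,0,0,0], [0,1,0,1,2,3,0,1], [3,2,1,0,1,2,1,1], [2,3,3,2,3,0,3], [1,1,2,3,2,2,3], [1,0,0,1,1,2,1,1], [2,2,2,2,1,2,3], [1,1,1,2,1,0,0,0], [0,0,1,2,1,2], [2,2,2,2,1,2,1,0], [3,2,1], [2,1,0,3,0,0,3], [3,2,3,2,1,1], [1,0,0,1,0,0,0], [2,3,2,1,2,3,0], [2,3,0,1,2,1,1,0], [3,3,0,3,3], [2,3,3,0,3,0]]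

/-- Part of the paths. -/
def pathsDEight27 : List (List ℕ) := [
[1,2,1,0,0,1,1,2], [0,1,1,0,1,2,2,3,0], [3,3,0,0,0,0,0], [3,0,1,1,0,0,0,0], [2,3,0,0,3,0,1,0], [3,3,0,3,2,3,3,2], [2,2,1,0,0,0,0,1], [0,3,0,1,2,2,2], [3,3,2,2,3,0,0,0], [3,2,2,2,3,3,2], [3,0,3,0,1,1,1], [0,1,2,3,0,0], [1,1,0,1,0,0], [1,0,1,1,2,3,0,0], [1,2,3,2,1,2], [0,1,0,3,3,2,1], [2,1,1,0,3,0,0], [0,0,1,1,2,1,2,3], [0,1,1,1,0,3,0], [0,3,3,3,2,1,0,0,1], [2,1,2,2,3,0], [0,1,2,2,3,3,0,0], [1,1,2,1,1], [3,3,2,3,0,0,0], [1,0,1,2,2,2,1], [1,2,1,0,3,0,1,1,0], [1,2,1,0,3,0], [0,3,0,0,1,0,3,0,0], [0,0,0,1,2,1], [2,2,3,2,1,2,3], [0,0,0,1,2,3,0,1,2], [0,3,2,1,2,3,0], [2,3,2,2], [3,3,2,2,2,2,3,0,0], [2,3,0,3,3,3,2], [3,3,0,0,1,1,0,3,0],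 [0,3,0,3,0], [3,3,3,2,2,2,1], [0,1,2,1,0,3,0,0], [2,1,0,1,1], [0,1,1,2,2,3,0,0], [0,1,0,3,0,0], [2,2,2,2,3,0,0], [1,2,3,2,3,3], [2,3,2,1,0,0,3], [2,3,0,3,2,1], [1,2,2,2,1,0,1,1], [1,0,3,3,2,2,1,1,0], [2,2,2,3,0,0,1], [2,2,3,0,3,0,0,0], [2,3,2,1,0,0,1,0], [3,3,2,2,2,1,0,3,0], [2,1,1,2,3,2,1,0], [2,1,0,3], [3,2,1,2,2,3,3], [1,1,1,0,3,3,3,0], [0,1,1,1,0,0,1], [2,3,3,2,2,2,3], [2,2,2,2,1,0,1,1], [3,3,0,0,0,3,0,0], [2,3,2,1,2,3,3,2], [2,1,1,2,1,2,3], [1,1,0,3,2,1,1], [1,1,2,2,1,1], [3,3,3,0,3,2,1], [1,1,1,2,1,0], [1,2,3,2,3,0,3,0], [3,3,3,3,0,1,2,1], [2,2,2,1,0,0,1,0], [3,3,3,0,0,0,1], [0,0,3,0,3,0,3], [3,2,1,1,0,3,0,3,0], [0,0,3,3,0,1], [3,0,1,1,0,3,0], [3,3,2,1,1,2,2], [0,3,2,3,3,0], [1,1,2,2,2,3,3,0],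 [2,2,3,2,1,2], [1,2,3,3,3,3,0], [0,1,1,2,2,3,2,2], [1,0,1,1,0,1,1], [2,2,1,1,1,2,1], [2,2,3,0,1,0,0,1], [1,2,3,2,2,2,1,1], [2,2,2,1,0,0,3], [1,1,2,3,0,3,0], [0,0,0,1,0,1,2,1], [1,2,1,2,3,3], [3,0,0,0,1,1,1,1], [2,2,1,0,0,1,0,1], [2,1,2,3,2,1,0,0], [2,2,2,2,1,1,0], [3,0,1,0,0,3,2], [1,0,0,1,1,0,1,0,0], [2,1,2,3,0,0,1], [0,0,1,1,1,2], [3,3,0,0,1,1,0,0], [1,2], [2,1,2,3,0,3], [1,2,3,2,3,3,2]]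

/-- Part of the paths. -/
def pathsDEight28 : List (List ℕ) := [
[2,2,2,3,2,2,3], [0,0,0,0,1,1,0,0], [0,1,1,2,3,2,2,1,1], [2,1,1,2,1,1,1,2], [1,0,0,0], [2,2,1,0,3,0,1,0,0], [3,3,2,2,1,2], [2,3,3,0,3], [0,0,0,0,0,0,0], [0,0,0,3,2,3,3,2], [3,2,3,2,1,2,1,0], [2,3,0,0,3,0], [2,3,0,1,0,1,1], [3,0,0,0], [2,2,1,1,2,1,0,0], [2,1,2,3,3,0,1,1], [1,0,0,0,3,2], [3,0,3,2,2,2,1,0], [2,2,3,0,0,1,0], [3,0,3,3], [2,1,1,1,0,1,1,2], [1,0,3,0,1,0,1,2], [0,3,0,1,1,2,3], [1,0,3,2,1,2,1,2], [1,0,3,2,1,0,1,0], [2,2,2,3,2], [2,3,2,3,0,1], [3,3,3,0,1,2], [0,0,3,0,0,1,1,0], [3,2,3,0,3,2], [2,2,3,3,0,3,0], [2,2,1,0,3,0,0,3], [0,0,0,0,1,0,1,0,0], [0,1,2,2,1,0,1,2], [2,3,2,2,1,2,3,3], [3,0,3,3,0,0,3,0], [0,3,0,3,3,0,1,0,0],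 [1,0,1,2,2,1], [2,1,0,0,1,0,0,0,0], [0,1,1,0,0,3,0,1], [0,0,3,2,2,3,3,0,1], [0,0,0,0,1,2,2,3], [1,1,2,3,2,1,2], [3,0,0,1,1,0,3,2], [0,1,0,3,0], [1,2,1,2,2,3,0], [1,2,1,2,3,2,2,1,1], [3,2,3,0,1,1,2,3], [2,1,1,2,2,3,2,2], [2,3,3,0,1,1,0], [0,0,3,0,0,3,0,1], [2,3,2,2,1,2,1,1], [1,0,1,0,0,1,1,1], [3,0,3,0,3,3,0], [2,1,0,1,2,1,1], [1,0,1,2,1,0,0,1,0], [3,2,1,0,3,3], [0,3,2,1,2,1,2,3,0], [3,0,0,0,3,0,3], [1,0,1,2,1,0], [0,1,0,0,1,0,0], [3,0,3,2,3,3], [1,2,2,3], [3,3,3,2,1,0,0], [0,0,0,1,2], [3,3,0,0,3,0,1,0], [3,2,2,3,0,0,1], [0,3,3,3,2,1], [3,2,3,2,2,1,1], [3,0,0,1,2,3,2,2,1], [3,3,3,0,0,0,3], [0,3,3,2,3,2,1,1], [1,1,1,2,1,2,1,0], [3,0,1,2,3,3,3,0], [2,2,2,1,2,1,1,0], [2,1,0,0,0,3,2,1], [2,2,1,0,0,1,2,1,0],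 [1,0,0,3,0,1,1], [2,3,2,3,3,2,1], [0,3,0,3,0,0], [2,3,0,3,0,1,1], [2,2,1,0,1,2,2,2], [2,2,3,2,1,1,1], [0,3,2,1,2,1,0], [1,0,0,0,1,2,1], [0,1,2,3,3], [0,3,0,3,0,3,3], [0,3,0,1,1], [2,2,1,2,1,1], [3,3,3,0,3,2,2,2], [2,3,2,2,1,1,2,2,3], [3,3,3,0,0,3,2], [2,3,0,3,3,0,1,1], [1,2,1,0,3,0,3], [2,3,0], [0,1,0,1,2,1], [1,2,3,3,2,2,1], [3,0,3,3,3,0,1,0], [2,1,0,1,0,1,2], [3,3,2,3,0,1,0,1,0]]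

/-- Part of the paths. -/
def pathsDEight29 : List (List ℕ) := [
[2,1,2,3,2,1,0,1], [3,0,0,3,0], [2,3,2,2,2,3,0], [0,1,0,3,0,0,3,0], [3,3,2,1,1,0,1,1], [1,0,0,0,1,2,2,2], [2,2,1,2,3,0,0,0], [3,0,1,0,0,1,2,1], [1,1,2,2,3,3,2,1], [2,2,2,3,3,0], [3,3,0,0,1,1,2], [1,1,1,0,1,0,3], [1,1,2,2,3,0,3,0,0], [1,0,0,1,2,1,2,3], [0,1,0,0,3,3,3,0], [0,3,0,3,2,2,2], [0,0,1,0,3,0,0,0], [0,3,0,1,2,1], [1,1,1,2,3,0], [2,2,2,1,2,3,0], [2,3,0,0,0,0,3,2,1], [3,2,2,1,2,1,2,1], [2,1,2,3,0,1], [0,3,3,2,3,2,2,2], [2,1,1,1,1,0,0], [1,0,3,2,3,0,0,0], [1,2,3,0,0,0], [0,3,2,3,0,3,0], [3,2,2,3,3,0,1,0], [1,2,1,1,2,3], [0,1,2,2,1,2,1], [1,1,1,2,3,3,3,2], [2,1,0,1,1,2,3], [2,2,3,0,0,0,1], [3,3,0,3,3,0,1], [0,0,3,0,0,0,1],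 [0,0,0,0,1,0,0,1], [3,3,0,3,3,3], [2,3,0,0,0,3], [3,0,0,3,2,3,3], [0,1,1,2,1,0], [3,3,2,2,2,1,1,0], [1,0,0,0,0,1], [3,3,2,3,3,0,3,0], [2,3,2,1,0], [2,3,2,2,2,1,2], [0,1,1,2,3,2,1,1], [1,1,0,3,3,2,2,1], [3,0,1,1,0,1,2,1], [0,1,2,3,2,2,3,0], [0,1,1,2,2], [3,0,1,2,2,3,0], [3,0,0,0,0,3,3,3], [2,3,2,3,0,3,3,0], [1,0,3,0,1,0,0,0,1], [2,3,0,0,1,0,1,0], [1,2,2,3,0], [0,0,1,2,3,0,0], [0,3,2,2,2,1,1,1,0], [1,2,2,2,1,1,2,2], [2,1,0,3,3,0,1,0,0], [1,1,2,3,0,1,0], [3,2,3,2,2,3,0], [2,1], [1,1,1,0,0,3,3], [2,1,0,3,3,0,3], [0,3,0,1,0,3], [0,0,0,1,0,3,0,3], [3,3,0,0,1,2,1], [3,3,0,0,3,0], [1,0,1,0,0,3,0,3,0], [2,1,2,1,1,2,1,1], [3,2,1,0,0,0,1], [3,3,0,1,0,0,0,1], [1,1,1,0,0,0], [3,2,3,0,3,0,3,0], [1,2,3,0,0,3,3,2],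 [0,1,0,1,2,1,1,0], [1,0,1,1,2,2,1], [0,0,0,3,0,3,2,2], [2,3,0,0,3,3,3], [2,2,2,2,1,1,1], [1,0,3,0,1,0,0], [1,1,1,2,1,1,2,3], [0,1,2,3,3,0,0,0], [2,2,3], [2,3,3,2,3,2,1], [0,0,0,3,0,1,0,1], [0,3,0,0,1], [2,1,1,2,1,2], [2,3,2,2,2,3,3], [2,2,1,2,1,0,1,0], [3,2,1,2,3,3,0,1,1], [1,2,1,1,2,2,2,3,0], [3,3,0,0,3,3,3], [3,3,3,0,3,2,2,3,0], [2,2,3,0,1,1,2], [1,2,2,3,0,1,1,2], [1,1,1,1,0,3,0,3], [3,2,1,0,3,3,0,0]]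

/-- Part of the paths. -/
def pathsDEight30 : List (List ℕ) := [
[0,0,1,0,3,0], [1,1,2,3,0,1,0,0], [2,1,0,3,3,0,0], [2,3,0,3,0,1,0,0], [1,2,2,3,2,2,2], [3,2,1,1,1,2,2,2], [0,0,1,2,1,0,1,2], [3,2,1,2,1,2], [2,2,2,3,3,3,0], [3,0,3,3,3,0,1], [2,1,0,3,3,3,3], [2,1,2,2,2], [1,1,0,3,0,0,0], [0,1,1,2,2,3,0,1], [0,0,3,2,2,3,3,0], [3,2,3,0,0,1,2,3,0], [3,3,3,0,0,1,0,3], [2,2,3,3,3,0,1,2], [1,2,2,3,2,1,2], [3,2,3,3,0,0,1,0], [3,2,1,1,2,1], [1,0,0,0,0,1,0], [1,1,2,1,0,3,0,1], [3,3,2,1,0,0,0,0], [2,1,1,1,2,2,2,3,0], [0,3,0,0,0,1,1], [3,2,3,0,0,0,0], [1,2,2,2,3,3,2], [0,0,3,0,0,3,3], [0,0,1,0,3,2,1,0,0], [3,3,2,1,0,0,3,3], [1,1,2,1,0,1,1,0], [3,2,3,3,0,0,3], [1,0,0,0,0,3], [0,0,3,0,0,0,0], [3,3,2,2,1,2,1,0],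 [3,3,0,3,2,1,0], [0,3,3,2,1,0,1,1], [1,2,1,1,2,1,1], [1,2,1,1,1,1], [0,1,1,0,3,3,0,0], [2,2,1,2,3,0,3,0], [3,3,2,1,0,3,3,2], [1,2,2,2,3,0,3,2], [0,1,1,2,1,2], [2,1,2,1,1,0,3,2], [3,3,0,3,0,3,2,1], [1,1,1,1,0,3,0], [1,1,0,3,3,2,1], [0,3,3,2,3,2,1], [2,2,1,1,1], [0,3,0,0,3,0,3,0], [3,3,2,1,1,2,1,2,3], [3,0,0,1,2,2,2], [0,0,0,1,2,3,0], [3,2,3,0,3,0,1,1,0], [0,0,1,0,1,2,2,3], [2,2,1,1,2,1,2], [1,2,1,2,1,0,1,1], [0,1,2,1,1,1,0], [2,3,0,1,0,1,2], [0,1,0,0,1,2,2,1], [3,0,1,0,3,3,0], [1,0,1,0,3], [2,3,2,3,0], [0,0,3,2,3,2,1,0], [2,3,0,1,2,1,1], [0,0,1,2,2,1,2,3,0], [3,0,3,0,3,2,1,1], [3,2,2,1,2,1,0,0], [3,0,1,1,1,1,1,0,0], [3,2,1,1,1,0,0,1], [3,2,3,0,3,0], [0,1,2,2,1,0,1,1], [1,2,1,0,3,3,0], [2,2,2,2,2,3,0,0],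 [1,0,0,0,0,1,1,0], [2,2,3,0,0,0], [3,2,2,2,1,1,2,3], [2,3,3,0,3,0,3,0], [0,1,1,0,1,0,3], [3,2,1,0,1,2], [0,3,0,1,2,1,0,3], [1,0,1,1,0,0,3,0], [0,0,1,0,3,3,0], [2,3,3,0,1,0,0], [2,2,1,2,1,0,0,0,0], [3,0,3,0], [0,0,3,0,3,2,1,1], [0,1,2,2,3,0,0,0], [2,1,0,1,2,2,3], [2,1,1,0,0,0,0], [2,1,2,1,0,0], [2,2,1,1,2,3], [2,1,1,2,1,2,1,0,0], [1,2,2,1,2,1], [1,1,1,0,0,1], [1,0,1,0,1,2,3], [3,3,3,0,3,0,1,0,0], [3,3,3,3,2,2,3]]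

/-- Part of the paths. -/
def pathsDEight31 : List (List ℕ) := [
[3,0,0,3,3,2,3,3], [1,1,1,2,3,3], [2,3,3,2,1,1,1,0], [1,2,3,0,0], [0,1,1,2,3,3,2], [2,3,0,3,3,2,3,3], [3,2,3,2,2,2,2], [2,1,0,0,0,1,2,2], [2,2,1,2,2,3,0], [0,1,0,1,1,1,2,2], [1,0,1,1,0,3,2,1,1], [2,3,2,2,2,1,0,1], [2,1,1,2,1,1], [0,0,1,2,1,2,3,0,0], [3,3,3,3,2,2,1,1,1], [3,2,2,3,3,0], [3,0,1,1,2,1,2], [3,2,2,2,2,1], [2,3,2,2,2,1,1,1,0], [3,0,3,3,0,0], [0,3,3,2,3,0,0], [1,2,2,2,3,2,1,2], [2,2,1,0,0,1,2], [1,1,0,0,3,0,1], [0,3,2,3,0,3,0,0,0], [1,2,2,2,1,2,3], [1,0,3,3,2,3,2,1], [3,0,3,0,3,3,0,3], [3,0,3,0,0,3,3], [3,0,3,0,0,0,0], [2,3,0,0,3,0,1,1], [0,0,1,2,2,2], [0,3,3,2,1,2,3], [2,3,0,0,1,1,0,0], [3,0,1,0,3,2,1,0,0], [0,1,0,0,3,3,2],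 [0,0,3,0,3,2,1,0], [0,3,3,3,2], [1,1,0,1,2,1,0,0], [2,3,0,3,0,0,1,1], [2,1,1,2,3,0,1], [3,3,0,0,0,1,1], [1,1,2,2,2,2,1,0], [3,3,2,2,2,3,0,0], [1,1,0,1,1,1], [2,1,0,1,2,2], [1,0,0,1,2,2,3], [0,1,2,3,2,1,0,0], [3,0,0,3,0,1,2], [0,0,0,1,0,1,0], [2,3,3,2,3,3], [2,1,2,1,2,1,0], [2,1,2,3,2,1,2], [3,2,3,0,0,1,2,3], [0,0,0,3,2,3,2,1,0], [3,2,3,0,1,1,1], [2,2,3,3,2,1,2,3], [3,2,3,0,1,2,1,1], [0,0,1,1,1,0,1,1], [0,0,0,1,1,0,0,0], [0,0,3,0,0,0], [1,1,1,1,1,2,3,3], [3,3,0,0,1,1], [2,2,3,0,0,3,0,3,0], [1,1,2,1,1,1,1,0], [2,1,1,0,3,0,3,0], [3,0,0,3,2,1,2], [2,2,2,1,0,1], [0,3,2,2,2,3,3,2], [2,2,2], [1,2,2,1,0,1,1,1], [0,3,2,1,2,2,1,1], [0,1,2,2,2,1], [1,0,3,3,2], [2,3,3,0,3,0,1,0], [1,0,3,2,3,3,0],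 [2,3,2,2,2,1], [3,2,1,1,2,2], [2,2,1,0,1,2,1,0], [2,2,3,3,2,1,2,1], [3,3,0,1,0], [0,1,2,3,3,0], [3,0,3,0,0,0,1,0], [2,3,0,0,3,3,2], [0,0,0,3,3,0,0,0], [1,2,1,0,3,3,0,0], [1,1,0,3,2,1,2], [3,0,0,0,0,3,2,1,0], [3,2,2,1,1,2], [2,2,3,0,1], [2,3,2,1,2,2,2,1], [3,2,2,2,2,2,3,0], [1,2,2,2,3,3,3,0], [0,3,3,3,0,1], [3,0,3,2,2,1,1], [2,1,2,2,2,3], [1,2,1,1,1,2], [2,1,1,0,1,2,3], [3,0,3,0,0,1,2], [1,0,1,1,1,0,1,2]]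

/-- Part of the paths. -/
def pathsDEight32 : List (List ℕ) := [
[0,0,1,0,1,0,3,0], [1,0,0,3,3,3], [0,3,3,0,3,0,3], [3,3,3,0,3], [3,3,3,3,2,1,0], [1,2,2,3,3,3,0], [3,2,3,0,0,3,0,0], [2,2,3,2,1,0,1], [3,2,2,1,0], [2,1,0,0,1,1,2], [1,1,2,2,3,0,3,2], [3,3,3,3,2,1,0,0], [2,3,2,2,3,3,0], [2,3,3,3,2,1], [0,1,0,3,2,3,0,3], [0,3,0,1,2,3,0,1,0], [2,2,1,0,0,3,3,2], [3,2,1,0,3,0,3], [3,3,0,3,2,2,1], [2,1,0,3,3,2,2,3,0], [3,2,3,0,0,1,1], [0,3,2,1,1,1,0,0], [1,1,2,2,3,0,0], [1,1,0,0,1,2,2,3], [0,0,0,1,1,0,3,2,1], [2,1,0,0,1,2,2,3], [1,0,0,3,2,2], [3,2,2,2,2], [2,2,2,1,0,1,1,0], [1,0,0,1,2,3,0,1], [0,0,0,1,2,2,3], [1,2,2,2,1,2,3,0], [0,1,1,2,3,0,0], [2,3,3,0], [3,0,0,3,3,0,0,0], [1,0,3,0,1,1,0,0],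 [2,3,3,0,1,1,0,0], [1,0,3,0,0,0,3,0], [3,2,3,3,0,1,0], [3,2,1,0,3,2,3,3,0], [2,2,1,1,2,3,0,1,0], [2,2,2,1,0,3,0,1], [2,1,0,1,2,2,1], [2,2,1,2,1,2,1], [3,2,1,0,3,3,2], [0,0,3,3,0,0], [0,0,1,1,2,1,2], [2,2,2,1], [2,2,3,3,0,0,3], [1,0,1,1,1,1,0], [3,2,3,0,1,0,3,0], [2,2,1,0,3,0,1], [2,2,3,3,0,3,3], [2,2,1,0,1,0], [2,3,2,2,1,2,1,0], [2,1,2,2,2,2,1], [1,2,1,1,2,3,0,0], [1,0,0,3,0,1,2,1], [1,1,2,3,0,1], [1,2,2,3,3,3,3], [1,2,2,3,3,0], [1,0,0,1,0,1,2,1], [1,1,2,3,2,1,0,1], [3,3,2,2,1,0,1,1], [3,0,0,1,2,2], [3,0,3,0,1,1,0], [0,3,0,3,0,3,2,1], [0,0,0,1,2,2,2], [3,0,1,0,1,0,0], [0,1,1,2,3,0,1,0], [0,0,1,0,0,3], [0,0,3,0,1,1,2,3], [0,1,0,0,1,0,0,0], [3,3,2,1,1,1,1,0,0], [0,0,3,3,2,3,0,1,1], [3,2,1,2,1,0,1,0,0],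 [1,0,3,3,3], [0,0,1,1,0,0,0], [2,2,3,0,0,1,0,1], [1,2,1,0,0,3,3,3,0], [3,2,1,1,0,3,0,1], [3,3,3,3,0], [0,0,0,3,0,1], [0,0,0,1,1,0], [1,2,2,2,2,3,3,2], [1,2,2,2,3,2,2,2], [2,2,1,0,1,1,2,3], [2,2,1,1,2,1,1], [3,3,3,3,2,3,3], [0,1,1,0,3,0,0], [3,0,1,1,1,1], [0,3,3,2,2,3,0], [0,1,2,1,1,2], [0,0,1,2,3,0,0,1,1], [2,3,0,3,3,2,1,0], [3,3,3,2,2,1,1,1], [0,1,2,3,2,2,1,0,0], [1,0,0,0,3], [3,0,0,3,2,1,0,1,0], [3,0,1,1,1,2,3]]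

/-- Part of the paths. -/
def pathsDEight33 : List (List ℕ) := [
[1,2,3,0,3,3,0], [0,0,3,0,3,2,3,0,1], [0,0,3,0,1,0,1], [3,0,3,3,0,3], [0,1,2,2,2,2,3,0], [2,3,0,1,1,0,0], [2,3,0,3,0,3], [0,3,3,0,0], [3,2,1,1,1,1,1], [2,2,3,3,0,1,1,0,0], [1,2,2,1,1,1,1,2], [2,1,0], [0,3,3,3,2,1,0,0], [3,2,1,0,1,0,1,2], [3,3,3,2,3,0,1], [3,0,0,3,0,0], [2,2,3,2,3,0,1,2], [2,1,2,3,3,3,0,3], [3,2,3,3,0,0,0], [1,0,3,0,3], [0,0,0,0,0,0,0,0], [3,0,0,3,0,1,1,1,0], [0,3,3,0,1,0,1], [3,0,0,1,1], [1,0,1,2,2,1,0,1,2], [2,1,2,1,1,2,3], [2,3,2,3,0,1,1,1], [1,0,3,2,2,1,0,0], [3,3,3,2,1,1,2,2], [1,2,2,1,2,1,1,0], [0,3,0,3,2,2,1], [1,0,0,3,0,3,0,0], [2,2,3,0,1,1,1,0], [1,0,3,3,0,3,3,2], [1,1,0,0,3,3], [0,3,2,1,0,3,0],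 [0,0,3,0,3,0,0,0], [1,2,2,2,1,2,3,3], [0,1,0,0,1,2,2,3], [1,2,1,2,1,0], [1,2,3,2,2,1,0], [3,3,2,2,2,1,2], [0,3,0,0,3,0,3,2], [1,2,1,2,2], [3,2,3,3,0,3], [0,0,0,3,3,0,0,1], [2,1,0,0,3,3,0,0], [1,2,1,2,1,0,1,1,0], [1,2,3,0,1,2,2,2,1], [3,0,0,1,2,1,2], [1,2,1,0,0,1,1,0,0], [1,0,1,1,2,2,2,2], [1,1,2,2,2,3], [0,1,1,1,0,1,1,1], [2,3,2,3,3], [3,2,1,1,2,1,2,3], [0,0,0,3,0,1,2], [2,2,1,0,3,3,2], [3,0,0,1,1,2,1,1], [2,3,0,1,1,2,1], [2,3,2,1,2,1,1], [3,0,1,2,1,1], [2,3,2,1,2,2,1,1], [3,0,1,1,1], [1,2,2,1,1,2,1,2], [3,0,1,2,1,2,3], [0,3,2,3,3,2,1], [1,2,2,1,1,0,3,3], [1,1,1,0,1,0,0,0], [2,2,1,2,2,2,2,1], [2,1,1,2,3,0,3,3], [3,0,0,1,2,3], [0,3,0,0,1,1], [3,2,3,3,0,0,0,1], [1,0,1,2], [3,2,3,0,1,2,2,1],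 [2,2,3,3,0,1,1,2,1], [1,0,1,2,1,1,0,0], [2,2,1,0,0,0,1,2], [3,2,3,2,2,1,1,1,0], [1,2,1,2,1,1,2], [1,2,2,3,2], [1,1,1,0,1,1,1], [2,2,2,2,3,0,0,1], [1,0,0,0,1,0], [1,2,1,2,1,0,1], [0,0,0,3,3,2,3,3], [1,1,1,1,0,1,2], [0,3,3,3,2,2,3], [0,3,3,2,2,3,3,0], [0,0,3,0], [3,3,3,3,0,1,0], [2,2,2,1,0,3,3], [2,2,1,2,3,0,1], [1,1,1,1,2,3], [2,3,0,1,0,0,1], [0,1,2,2,3,3,3], [1,0,0,3,0,1,0,3], [2,2,3,3,0,1], [1,0,3,2,3,2,2,3,0]]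

/-- Part of the paths. -/
def pathsDEight34 : List (List ℕ) := [
[3,2,3,2,2,1,0], [0,1,2,2,3,0,0], [1,0,0,3,0,0,1], [2,2,3,0,3,2,1,0,0], [3,3,2,1,2,2,1,0,0], [0,3,2,3,2,1,0,0,0], [0,1,1,0,3,2,3,0], [1,1,0,3,3,0,0,0], [2,1,0,1,0,0,0,0,1], [0,1,0,3,0,0,0], [0,3,2,3,0,3], [0,0,3,2,2,2], [3,3,2,1,1,1,0,0], [0,1,1,1,2,3,3,2], [3,0,3,3,0,1,1], [3,3,3,0,1,2,1,1], [0,1,1,2,3,0,3], [1,2,3,0,1,0], [0,1,2,1,0,0,1,0], [0,0,1,0,0,0], [3,0,1,0,0,3], [2,1,0,1,0,0,0,1], [2,1,2,2,2,2,3], [1,0,3,0,0], [1,2,3,3,0,3,3], [3,0,0,1,1,0], [0,1,1,1,0,1,1], [0,0,3,0,1,2], [3,0,1,1,0,0,0], [0,0,0,0,3,0,0,3,0], [1,0,0,3,3,3,0], [0,3,3,3,0,0,0,1], [3,0,0,3,0,1], [0,1,2,3,3,2,2,1], [3,2,3,3,3,3,0], [2,2,3,0,3,2,1],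 [1,1,0,3,0,1,2,3], [3,3,0,1,2,1,0,0], [3,0,3,3,3,0,3], [0,1,1,1,2,1,1,1], [3,2,2,3], [0,1,1,2,1,0,0,0], [1,0,1,2,3], [3,0,3,3,3,3,0,1], [3,0,0,3,2,1,1], [1,2,2,1,2,2,2], [3,2,3,0,0,0,3], [0,3,3,0,3,0,0], [1,0,0,3,0,0], [2,2,1,2,3,3,3,0], [2,1,0,3,0], [0,0,1,1,2,1,0,3], [0,0,3,3,2,2,1,0], [2,2,1,1,2,1,0,3], [1,1,1,0,3,2,1], [3,2,1,1,2,1,0], [0,3,3,3,3,0,3,0], [0,3,3,0,3,3,3], [3,3,2,2,2,3,0], [2,1,0,1,0], [2,1,1,2,1,0,0,1], [2,1,0,3,3,0,0,1], [2,3,0,1,2,3,2,2], [2,3,0,3,3,2,2,2], [3,0,3,2,2,3,2,1,1], [1,1,1,1,2,3,0,0], [0,1,1,1,1,1], [1,2,3,2,1,0,3,0], [3,3,2,1,0,1,2,1], [3,2,3,3,2,3,0], [3,0,1,0,3,0,3,0], [1,0,3,3,0,1], [2,2,3,0,1,2], [1,0,3,2,2,2,2,1], [0,0,0,0,3,3,0,0,1], [2,2,1,1,1,0,0,0],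 [2,3,2,2,1,1,2,3], [0,1,2,3,2,1,0,3,0], [3,3,0,0,1,2,1,0,1], [0,1,0,0,0,0,3,2], [0,1,0,1,1,1,2,1], [2,3,3,0,0,0,0,0], [0,0,0,1,0,1,1,1], [0,1,0,3,0,0,1,0], [1,0,1,1,1,1,0,0], [2,1,1,0,0,0], [0,1,0,0,0,0,0], [3,0,3,0,3,2,1,0], [2,2,2,1,2,1,2], [2,1,2,1,0,1,2], [3,2,2,1,1,2,3,0,1], [2,1,1,0,0,3,3], [0,1,0,3,0,0,3], [3,3,3,3,2], [0,0,3,3,2], [3,0,1,2,2,2], [1,2,1,2,2,1,0,0], [0,3,0,3,0,0,0], [2,3,0,0,1,2,1,1], [1,2,2,2,2,1,0,0]]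

/-- Part of the paths. -/
def pathsDEight35 : List (List ℕ) := [
[1,0,0,1,2,2], [3,2,3,0,1,0,3,3,0], [3,3,0,0,3,0,1,1,1], [3,2,1,0,1,0,3], [0,0,1,2,2,1], [2,1,1,1,0], [1,1,2,3,3,0,3,3,0], [2,2,1,0,1,1], [1,1,1,1,2,2,1], [2,3,0,1,1,1], [2,3,3,3,0,3,2,1], [1,1,0,1,2,3,3,0,0], [0,0,0,1,0,3], [1,2,1,2,2,2,2], [1,0,1,0,1,2,1], [2,1,1,0,1,1,1], [2,3,0,1,1,2,3], [3,0,3,2,3,2,1,0], [3,3,2,2,2,1,1,1,2], [0,1,2,3,0,3,3,0,0], [2,2,3,0,3,3], [2,1,0,3,0,1,0,0], [1,2,3,3,2,1], [2,2,2,2,1,0,1,1,0], [2,1,0,0,3,2,3,2], [1,2,3,3,2,2,3], [3,0,3,0,3,0,0,0], [1,0,1,1,2,1,1], [2,2,2,2,3,0,1], [1,2,3,3,0,0,0], [0,1,0,0,3,2,1], [0,1,0,3,3,3,3,0], [0,0,3,2,3,2,1,2], [0,3,0,1,2,3,0], [1,1,0,1,0,1,2,1,0], [2,1,1,1,1,0,1,1,2],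 [0,0,1,2,2,3], [2,3,2,2,2,2], [0,0,1,2,1,1,2,1,0], [3,2,1,2,1,2,2], [3,0,0,3,3,0,0,1], [1,2,3,2,2,1,1,1,0], [2,1,0,3,2,1,1,1], [1,0,1,1,0,1,0,1], [2,3,3,3,3,0,3,0], [2,3,3,2,1,2,1,1], [0,3,2,3,0,3,0,1], [3,0,1,0,0,0,1,1], [1,0,1,2,2,1,1,2], [2,3,0,0,1,2,3,0], [1,2,3,3,0,3,3,0], [3,3,0,0,1,0,3], [0,3,2,1,0,0,0], [3,0,3,2,1], [3,0,1,2,2,3,0,0], [1,2,3,2,2,1], [1,1,1,1,1,0], [0,0,0,3,0,0,0,1], [0,1,1,2,3,2,1], [1,1,2,1,0,3], [0,3,0,3], [2,1,2,3,0,3,3], [1,0,3,0,1,2,3], [1,2,3,0,0,1,1,0], [3,2,1,2,3,0,3], [3,3,0,0,3,2,3,0], [0,0,3,0,1,1], [1,1,1,0,3,2,2], [1,1,0,3,2,2,2], [2,1,1,0,3,2,1,1], [0,3,0,1,1,0,0,1,0], [1,2,2,1,2,2,2,1], [3,3,3,0,3,2], [1,2,1,0,3,0,0], [3,2,1,1,0,1,1], [3,0,1,0,1,1,2,2],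 [1,2,3,2,1,0,0], [2,2,3,0,1,0,3], [0,1,1,1,0,3,0,1], [3,2,2,3,3,2,2,1], [0,3,2,3,3,3], [2,1,2,1,1,1,0,0,0], [0,1,0,3,3,3,0], [2,1,2,3,0,0], [3,2,2,2,1,0,1,1,2], [0,0,3,0,1,1,1], [1,1,0,3,2,1,2,1], [1,0,3,3,3,0,1,0], [3,3,0,1,1,0,0,0,0], [3,0,0,0,3,3,2], [1,1,0,1,2,1,0], [3,2,2,1,2,1,0,1], [0,1,1,1,2,1,1], [2,2,3,0,1,2,3], [3,3,2,2,1,0,0], [2,3,0,3,2,1,1], [0,1,0,1,2,3,0,0], [2,2,3,3,2], [2,3,3,0,3,2], [1,2,3,0,3,3,0,0]]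

/-- Part of the paths. -/
def pathsDEight36 : List (List ℕ) := [
[1,2,2,1,1,1,1,0], [0,0,1,1,0,0,0,0], [2,3,2,1,2,1,1,0,0], [3,0,0,0,0,1], [2,2,2,2,1,2], [1,1,2,1,0,1], [1,2,3,2,1,2,2], [1,1,2,2,2,1,0,1], [2,1,2,1], [3,2,3,3,2,1,0,1,1], [2,1,2,2,1,1,0], [2,3,3,2,2,1,1,0,0], [1,2,2,2,3,3], [1,2,1,0,1,1,2], [3,2,1,1,0,0,3,2], [0,0,3,3,0,1,0], [2,3,3,3,0], [1,2,3,0,3,3,2], [2,2,3,0,0,3,3], [3,0,0,0,1,0,1], [2,2,1,0,0,1,2,1], [2,2,1,2,3,2,1,1], [0,1,2,2,2,2,3], [0,0,0,0,0,1,0,1], [0,0,1,1,0,0,3,0], [3,0,3,2,2,1,2,2], [0,3,0,3,3], [1,1,2,1,0,0,3,0], [1,0,3,2,2,3,0,3], [1,1,0,1,1,2,1,0], [1], [1,1,2,1,1,1,0,0], [3,2,1,2,1,0,3], [1,1,0,0,0,0,1,1,0], [2,1,0,0,0,3], [1,0,1,0,1,1,0,0], [3,0,3,3,3],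 [3,3,0,1,2,3], [2,2,2,2,3,0,0,0], [3,2,1,1], [3,2,1,2,3], [3,2,2,2,1,1,1,2], [1,0,3,2,2,1,1,0,0], [0,0,0,3,0,3,0], [2,2,2,3,0,3,0], [1,0,1,2,1,1], [2,1,0,3,2,1,0,0], [1,1,0,1,0,0,3,3], [2,3,2,3,0,1,0], [3,2,2,3,3,2,1], [0,0,3,3,0,3,3,0], [3,3,2,1,1,0,3,0,0], [3,3,0,3,0,1], [1,0,3,3,0,3], [0,1,2,2,1,2,3,0], [0,1,1,2,1,1,0], [0,0,0,0,0,3,2,1], [3,0,0,3], [0,0,0], [1,0,0,0,0,3,2,1,1], [1,0,1,1,0,0,0], [2,2,2,1,0,1,0,0,0], [1,1,1,0,3,0,3,2], [1,1,0,3,0,3,3,3,0], [0,3,2,3,0,1,2,2], [2,2,2,3,2,3,0,3], [0,3,2,1,0,1,2,1,1], [3,3,0,1,1,0], [2,1,2,2,3,2], [2,1,1,0,0,1,0,1], [2,1,2], [0,1,1,0,3,2,1,0], [1,0,0,3,2,1,2], [2,2,3,2,2,3,0], [0,3,0,3,0,3,0,0], [2,1,2,1,1,0,0], [1,2,1,2,1,0,0], [2,1,2,1,2,1,1,2],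 [0,0,1,2,3,3,0,3], [3,3,3,3,0,0], [2,2,2,1,1], [0,3,3,0,1,2,3], [3,0,1,2,1,2,1,2], [1,1,2,3,2,2,1,1], [1,1,1,1,0,0,3,0], [3,0,0,1,0,0,3,0], [3,3,2,2,2,3,3,0], [1,0,0,0,0], [2,1,1,1,0,1,1], [1,2,3,3,0,1,0,1], [2,2,2,3,0,1,2,1], [3,0,1,1,2,3], [1,2,3,2,1,0,0,0,1], [2,1,2,1,1,1,2], [1,1,0,3,3,3,0], [2,2,3,0,0,0,1,2], [3,0,1,0,0,0,1,0], [2,3,2,2,1,2,1], [0,1,0,1,0,3,0], [0,1,2,2,3,3,0,3,0]]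

/-- Part of the paths. -/
def pathsDEight37 : List (List ℕ) := [
[1,0,3,0,3,3,3], [3,0,3,3,0,0,1,0], [3,0,0,1,2,1,1,2], [3,0,3,2], [2,2,3,0,1,2,2,1], [2,1,0,0,3,3,0,1], [3,2,3,0,3,3,3,2], [0,0,0,0,3,2,2], [2,1,2,1,0,0,0,0], [2,1,1,2,2,2,3,0], [1,2,1,1,1,2,1,0,0], [1,0,3,0,1,2,2], [0,1,2,1,2,1], [1,1,2,3,0,1,2,2], [3,3,0,0,0,3,0,0,0], [2,3,2,1,2,1,1,2], [1,0,3,3,0,1,1,0], [1,2,1,1,1,2,3], [0,0,0,0,1,0,1], [3,3,2,1,1,1], [0,1,2,3,3,3,0], [0,1,1,1,2,1,0,1], [3,0,3,3,3,3], [1,1,0,0,3,2], [1,2,2,2,1,2], [0,3,0,1,0,0,0,0], [3,3,2,1,0,1,1], [2,3,3,3,0,0,3,3], [1,0,0,3,3,3,3,0], [1,0,3,0,3,3,0], [2,2,2,1,1,2,1,0], [0,3,0,1,2,3,3], [2,3,0,3,3,0,1,0], [0,1,1,0,3,0,1], [0,3,0,3,0,1,2], [3,2,2,3,3,3,3],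 [2,3,0,3,3], [0,0,0,1,0,0,1,0,0], [0,0,3,2,1,0,3,3], [2,3,3,3,0,3], [3,2,2,3,3,0,0], [0,1,1,0,1,2,3,0,0], [0,0,0,0,3,0,1], [0,0,3,3,0,1,0,1], [3,0,3,2,1,1,1], [1,1,2,3,3,0], [2,3,0,3,2,2,1,1], [1,1,1,2,1,0,3,0], [2,3,0,0,0], [2,3,0,3,2,2,2,1,1], [2,1,1,2,3], [1,1,2,3,3,3,2], [2,3,3,0,3,2,3,2], [2,2,3,2,2,3,2,2], [2,1,1,2,3,2,1,1], [0,0,1,0,0,0,0,1,0], [1,1,1,0,0], [1,2,1,2,3,0,3], [3,0,3,3,2,3,3], [2,3,3,0,0,1,0], [2,2,2,3,3,3,2], [0,0,1,2,1,1,0,0], [3,3,3,0,3,2,1,1], [3,0,3,3,0], [3,3,2,1,2,3,2,3,0], [1,0,1,1,1,2,2,1], [2,2,2,1,1,1,0,0], [1,1,0,0,0,0,1,0], [1,2,2,3,0,1,1,1], [2,2,2,2,3,0,3,3], [2,1,1,1,1,2,1], [1,1,0,0,0], [2,2,1,2,1,2], [3,3,2,2,2,2,1,0], [1,1,2,1,2,3,2,1,0], [0,0,0,0,1,2,1,1],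 [0,3,3,3,0,1,1], [0,0,0,0,1,1,1], [3,2,2,3,3,3,0], [1,2,3,0,1,2,2], [3,0,0,0,0,1,0,1], [0,0,0,0,1,0,0,3], [0,0,0,0,0,3,0,1], [2,2,3,3,3,0,0], [3,0,3,3,3,2,3,2], [3,2,1,1,2,1,0,1], [3,0,3,3,0,1,0], [1,1,0,3,2,3,3], [3,2,2,1,2,1], [2,1,1,2,2,3,0], [1,1,1,1,2,2,3], [3,2,2,1,2,2,1,1,0], [3,3,3,0,0,0,1,0,0], [2,2,2,2,3], [3,2,1,2,2,2,2,3], [2,2,1,1,0,3,2,2,2], [2,2,1,0,1,1,1,0], [1,1,2,1,1,2], [1,1,1,1,0,3,3,2], [2,1,2,1,0,1]]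

/-- Part of the paths. -/
def pathsDEight38 : List (List ℕ) := [
[1,1,1,2,2,1], [2,3,0,0,1,0,3], [3,2,1,2,1,0,0], [0,1,2,2,3,3,2], [3,0,0,0,1,1,0], [0,0,0,0,3,3,2], [2,1,0,3,3,0], [3,3,3,2,3,3,3], [0,3,2,2,1,0,0], [3,0,3,2,1,0,0,1], [0,3,3,0,0,0,0,0], [2,2,1,0,1,1,2], [3,3,3,2,3,0,3], [0,0,1,1,0,0,1,1,1], [1,0,3,0,1,0,0,1], [1,1,2,1,1,2,1], [2,1,2,3,0,1,1], [1,0,0,1,1,0,3,2], [2,2,1,1,1,1,0], [3,2,2,3,3,2], [2,1,1,1,0,1,1,0], [0,1,1,1,1,1,2], [3,0,0,0,0,1,1,1], [1,2,2,1,1,0,3,3,0], [3,2,1,1,2,2,3,0], [2,1,2,2,3,0,0,0], [1,1,0,0,0,0,1], [0,0,1,1,1,1,0,0], [0,0,0,0,0,0,1,2], [1,0,3,3,2,3,0], [2,2,1,2,3], [1,0,0,1,2,2,1], [1,1,0,0,1,0,1], [2,2,1,2,1,0,3], [2,2,1,1], [0,1,0,3,3,0], [3,2,2,2,2,1,2,3,3],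 [3,2,2,1,0,0,3,0], [1,2,3,0,1,0,0], [1,1,0,0,3,0,1,1], [0,3,0,0,3,3,0,0,1], [0,0,3,0,0,0,0,1], [2,1,2,3,0,3,3,2], [2,3,0,0,0,1,0,1], [0,3,0,0,1,2,2,2], [1,1,1,1,1,2,1,0], [3,2,1,2,2,1], [3,3,3,3,0,0,0], [3,2,3,0,0,0,1], [2,3,2,1,0,3,3], [3,0,3,3,2,1,0], [1,0,3,0,3,0,0], [3,2,1,2,1,2,3,0], [2,1,0,0,0,0,1,0], [0,0,3,3,2,3,2,1], [1,0,3,0,3,0,3,2], [3,0,3,0,3], [1,1,1,0,1,1,2], [2,2,2,1,2,1,0], [1,1,0,3,0,0,3,0], [2,2,3,3,3,2,3,3], [0,1,1,1,0,0,0], [3,3,2,2,3,3,0], [2,2,2,1,2,2], [3,0,0,0,0,1,2,2], [1,0,3,3,0,1,2], [1,1,2,3,2,1,1,1], [0,0,3,3,0], [0,1,1,1,1,0,0], [1,2,1,1,1,0,0,1], [2,3,3,2,2,1,2], [3,3,0,3,0,1,0,0], [1,1,1,1,1,2], [0,1,2,2,1,2,1,2], [2,2,2,2,1,0,0], [1,2,2,3,3,0,0,1], [0,0,3,3,2,3,3],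 [3,0,0,3,0,0,0], [2,3,0,3,3,0,3,3], [1,1,0,1,1,2], [3,2,2,2,1,2,2], [0,0,3,2,2,2,1,0], [0,3,3,0,1,2], [3,0,1,2,1,1,2,1], [2,1,0,3,2,2], [2,2,2,3,0,0,0], [1,0,3,2,2,1,2], [1,0,0,3,2,1,2,1], [3,0,0,3,2,1,0], [0,0,3,3], [3,2,2,3,2,2,3,0], [3,2,1,2,2], [3,2,1,2,1,0], [0,0,0,0], [2,2,2,1,1,2,3], [1,0,0,3,2,2,1,1], [0,0,3,2,2,2,3], [0,1,2,3,3,0,3], [1,2,3,0,0,0,3], [1,0,0,1,0,1,1,1,0]]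

/-- Part of the paths. -/
def pathsDEight39 : List (List ℕ) := [
[0,0,3,2,1,2,1], [1,0,1,1,2,1], [3,0,3,2,1,1,0,0,0], [0,0,1,1,2,2,3,0], [3,3,2,2,1,1,1,2,1], [0,3,2,1,2,1,0,3], [3,3,0,1,2,1,1,0], [2,2,1,2,1,0,0,1], [1,0,0,0,3,3], [3,3,2,1,1,0,0,1], [3,3,2,3,0,3,2,1,1], [1,2,1,2,2,2,1,0,0], [3,2,2,1,2,1,0,3], [1,2,3,3,0,3], [2,3,3,3,2,3,0], [1,2,2,3,0,3,3], [1,1,0,1,0,1,1,0], [3,0,0,0,3,0,3,0], [0,1,0,1,1,0,0,0], [1,2,2,3,0,0,0], [0,3,3,2,3,3,3], [3,2,2,3,0,0,1,0,1], [2,3,3,2,1,0,0,0,0], [3,2,2,3,3,3,2,3,2], [2,1,2,2,2,3,3], [2,1,2,2,3], [1,2,2,3,2,1,1,1], [1,2,3,0,0,0,3,0], [2,3,0,3,2,1,0,0], [0,1,1,1,1,2,2,1], [2,2,3,0,1,2,3,0], [3,0,0,0,1,1], [3,3,3,2,1,0,1,0], [0,0,3,2,2,1,1,0], [3,3,2,3,3,3,3,0],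 [2,3,2,3,0,0,0,0], [0,0,0,0,1,1,0], [3,3,3,2,1,1,1,0,0], [1,2,2,2,2,3], [3,3,3,2,1], [1,2,1,0,0], [2,1,2,1,0,0,3], [0,0,1,1,1,0,0], [0,1,1,0,0,1,1,0], [2,2,1,1,2,1,1,1], [2,3,3,2,2,3,0], [3,2,3,2,2,3,2,2], [0,3,2,1,1,0,0,0], [2,3,0,1,0,3,3,0], [2,2,3,3,0,1,0,0], [3,2,3,0,0,1,2,1], [1,1,0,3,2,1,0], [0,0,0,3,2,1,0,1], [1,2,3,0,0,3,0], [2,3,0,1,2,1], [3,3,0,0], [0,0,0,3,2], [0,3,2,1,1,2], [3,2,3,3,0,3,0], [3,2,1,2,2,3,0,0], [0,1,2,3,0,0,3], [3,3,3,3], [0,1,0,0,3,2], [1,1,1,2,1,0,1,1,0], [3,0,1,2,1,0,1,1], [0,0,0,1,2,2,2,1], [2,1,2,1,1,2,1], [1,2,1,1,0,1,2,1], [0,0,3,3,3,2], [3,0,1,0,3,0,0,1], [2,2,2,2,3,0,1,0], [1,0,0,1,1,1,2], [1,0,1,2,2,2,3,3], [1,0,0,3,0,0,0,0], [1,1,1,0,3,3,0], [3,3,3,2,2,1,2],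 [2,1,0,1,0,0,0,0,0], [1,2,2,3,3,0,3], [0,0,0,3,0,1,0,0], [0,3,2,2,2,2], [0,3,0,1,2,1,2,3], [2,2,1,1,0,3,2], [3,3,0], [2,1,0,0,1,2,2,1], [0,1,2,3,0,1,2], [0,0,1,0,0,3,3], [2,1,2,1,0], [2,1,2,1,2,3,3], [0,1,2,3,2,2,2,1,1], [2,2,2,1,2,1,0,3], [3,0,1,0,3,3,0,0], [2,1,0,0,0,0,3,2], [1,1,0,0,3,0,3], [0,0,0,3,2,1,1,2], [3,2,1,0,3,0,1], [0,3,0,3,0,0,1,0], [3,2,2,3,3,0,3,3], [1,1,0,1,1,0,0,3,0], [1,1,2,3,0,0,0,3], [0,0,1,0,1,2,1]]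

/-- Part of the paths. -/
def pathsDEight40 : List (List ℕ) := [
[1,2,3,3,0,1,0,0], [2,3,3,0,3,0,1,2,1], [1,1,0,0,3,2,1,1], [1,1,0,0,3,0,1,0,0], [2,2,1,0,0,0,1], [0,0,1,2,1,0,3,3], [1,2,1,0,1], [2,2,2,3,3,2,3,3], [1,2,2,3,2,1,0,0], [2,1,0,1,1,2], [2,1,0,0,0,0], [1,0,3,0,0,3,0,1,0], [2,1,0,0,0,3,3], [1,1,2,1,0,3,3,0], [2,3,0,0,3,3], [1,2,1,1,2], [1,0,0,1,1,1,1], [0,0,0,0,3,0,1,0], [3,3,3,3,2,3,0,3], [1,2,1,1,1,0], [3,3,0,1,2], [3,0,3,0,1,1,2], [2,2,1,2,1,2,3], [0,0,3,2,1,0,0], [1,0,3,2,2,1,2,2], [2,3,3,0,1,2], [3,0,3,2,2,1,1,1], [2,3,0,1,0,1,0], [3,0,1,0,1,1,1,1], [1,1,2,1,1,1,0], [2,1,2,1,2,3,2,1,0], [2,2,2,2,3,3,0,0,1], [0,1,1,1,2,2,3], [3,0,3,0,0,0,0,1], [3,2,3,0,3,0,3], [0,3,2,3,3,3,0],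 [1,2,1,1,2,1,1,0], [0,1,0,0,3,3,2,3,0], [3,0,3,3,2,3,2,1], [1,2,3,0,1,2,1,0], [0,1,2,3,2,3,3,3], [1,2,2,1,2,1,2,3], [1,2,2,1,0,0,0,1,2], [1,0,0,3,2,1,0,0], [2,3,2,2,1,1,1,0], [2,3,2,2,2,2,3,3], [3,2,1,0,0,0,0], [2,1,1,0,0,0,1], [1,2,2,2,3,2,2,3], [1,0,3,2,1,0], [1,1,2,1,0,1,0], [3,2,2,2,2,1,1], [0,0,3,2,1,2,1,2], [1,2,2,2,2,2,3,2], [2,3,0,0,0,0], [0,3,2,2,2,2,3], [2,1,2,2,2,1,0,0], [1,2,1,1,2,1,1,1,2], [3,3,3,2,3,0,1,0], [1,0,3,0,3,3,3,0], [3,3,3,0,1,2,3], [3,2,2,1,2], [1,1,0,3,2,1,0,3], [3,2,3,3,3,3,0,0], [0,0,0,3,2,1], [1,0,0,0,0,0,1,0], [3,3,0,3,0,3,0,0], [2,2,1,0,1,2,3,0], [2,1,1,0,3,0,3], [2,2,3,0,1,0,0], [3,0,3,2,2,3,0], [3,2,3,2,2,2], [2,3,2,2,1,0,0,3], [1,0,3,0,3,2,1,0], [3,0,3,0,0],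 [2,1,2,1,0,3,3,0], [3,0,0,0,0,3,0,3,0], [1,2,3,0,0,1], [2,2,3,3,3,0,3,2], [1,1,1,2,1,0,0], [3,0,0,1,1,2,2,2,1], [3,2,2,1,1,1,2,1], [3,2,1,0,1,2,3,0], [0,0,3,2,2,1], [1,2,1,2,2,3,3,2], [0,1,1,1,0,3,0,0], [0,3,2,2,2,1,0], [1,1,0,1,0,3], [3,0,1,1,2,2,2], [2,3,0,3,0,1], [3,3,3,0,0,1,1,1], [1,0,1,0,0,3], [2,1,0,1,2,1,0,1], [1,1,2,2,1,2,2], [2,3,3,3,3,0,1], [0,0,3,2,1,2,3,3], [1,0,0,1,2,1], [0,0,0,1,2,2,1,1], [3,3,3,3,2,2,1], [2,1,2,3,3,0,3]]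

/-- Part of the paths. -/
def pathsDEight41 : List (List ℕ) := [
[0,1,0,3,3,2,2,1], [1,2,2,1,2,1,2,3,0], [0,0,1,0,3,2,2], [3,2,2,2,1,1,0], [1,2,3,2,3,0], [1,0,1,2,2,3,0,1], [3,0,0,1,0,1,1,0,0], [1,0,0,0,3,2,1], [3,0,0,1,0], [2,2,2,2,3,2], [2,3,3,2,1,2,1], [2,2,1,0,1], [0,1,0,3,3,3,3,2], [1,1,2,2,3,0,3,0], [2,2,2,3,2,1,0], [1,1,1,2,2,2,3,0], [2,3,3,3,0,1,2], [1,2,3,0,1,0,1,0,0], [0,0,3,0,0,0,1,1], [2,1,0,0,0,3,2], [0,3,0,1,2,3,3,2], [2,1,1,1,1,2,1,0], [1,0,1,1,2,3,3,0], [0,3,0,0,3,2,1,1], [3,3,3,0,1,1], [1,0,3,2,1,1], [1,2,2,3,3,3,2], [0,3,0,3,0,0,0,3], [3,0,3,2,2,3,0,3], [0,1,2,2,1,2,2,2], [1,1,2,2,1,1,0], [1,0,1,0,0,1,0,0], [0,0,1,2,3,2,2,3,0], [3,0,3,2,3,0,1], [0,0,1,1,2,1], [2,1,2,3,0,1,2],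 [1,0,0,0,3,3,0,1,0], [3,0,0,1,1,1,2,2], [2,1,2,1,2,2,2,2], [3,3,3,2,1,2,3,3], [0,1,2,1,2,1,2,1], [0,0,0,0,3,0], [2,2,3,0,0,1], [1,0,0,0,1,2], [2,3,3,0,3,3,2], [3,2,3,0,3,3,3,0], [2,2,2,2,1,0,1,2], [3,2,1,1,2,1,1,0,0], [2,2,1,2,1,2,1,2], [3,0,3,2,2], [1,2,2,1,1], [1,1,1,2], [2,1,1,0], [2,3,0,3,0,0,1,0], [3,2,2,3,0,1,0,1], [1,1,2,1,1,2,3,3], [0,3,3,0,3,0], [1,2,1,1,0,0,0,1], [0,0,0,3,3,0,1], [0,0,0,3,3,3], [2,3,2,3,3,3,0,3], [3,3,2,3,2,2,1,1], [1,0,0,1,1,2,2,3], [2,1,0,1,0,3], [0,3,3,0,1,2,2,1], [0,1,0,0,3,0,3,0], [3,2,3,3,0,0,1], [0,0,1,1,2,3,2,1,0], [3,3,2,3,2,1,1], [0,1,2,3,0,3,0,0,0], [1,1,2,2,2,1,1], [3,2,3,2,2,2,3], [2,3,0,1,1,0,0,3], [0,3,0,1,0], [2,1,2,2,2,1,2], [1,0,0,3,3,2], [0,0,3,0,0,0,1,0],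 [1,1,2,2], [0,0,0,3,2,1,2], [1,2,3,3,3,0], [0,1,2,2,2], [0,1,2,2,2,1,0,1], [3,2,1,2,3,3,2], [2,1,0,3,0,3,3,0], [3,0,1,0,1,1,1], [0,3,0,1,0,1,1,0,0], [1,1,0,0,1,1,2,3,0], [3,2,2,2,1,2,1,1,0], [3,2,1,1,1,2,3], [1,1,0,1,2,3,3,2], [1,1,2,2,1,0,3,3], [3,2,3,3,3,2,3,0,0], [0,1,2,3,2,2,2,1], [2,3], [1,1,1,2,1,0,1], [1,1,2,1,0], [1,1,0,0,1,0,0], [1,2,1,1,0,0,3,3], [3,0,0,0,1,0], [0,1,1,0,1,2,3]]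

/-- Part of the paths. -/
def pathsDEight42 : List (List ℕ) := [
[1,2,2,2,2,1,2,1], [0,0,3,2,2,1,1,2], [0,0,3,3,3,0,3], [0,3,0,1,2,1,0,0], [0,0,0,3,3,3,0,1,0], [3,0,1,0,0,0,0], [3,3,3,3,0,0,1,0], [3,2,1,2,2,2,3,0], [0,0,3,2,2,1,1,1,0], [0,1,2,1,0,3,0], [3,0,0,0,3], [3,3,3,2], [0,0,0,3,2,1,1], [0,0,3,3,3,3,0,1], [2,2,1,0,0,3], [1,1,0,3,0,1,2,2], [0,3,3,0,0,1], [2,3,3,0,1,2,2], [2,3,3,3,2,2,3,0], [2,1,1,0,0,0,1,2], [1,0,1,2,1,2,1], [0,3,0,0,3,0,0,0,0], [3,0,1,0,3,0], [0,0,0,0,3,2,1,0], [2,1,2,3,2,2,1,1], [3,2,2,1,2,2,2], [0,0,3,0,1,1,0], [0,1,1,1,2,3,0,1], [0,0,1,0,1,0,0], [3,3,3,2,1,1,1,0], [1,2,2,3,0,1], [2,3,2,1,0,0,0], [3,3,0,1,2,2,3,3], [0,0,0,1,2,2], [0,3,0,1,1,1,2,1], [3,2,1,2,1,1,1,1],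 [3,2,2,2,1,1,1], [0,3,0,1,0,0,3,0], [2,2,2,3,0,1,1], [3,3,3,2,3,2,1], [1,2,1,2], [1,1,0,0,3,0,1,0], [0,3,2,1,2,1,2], [0,0,3,2,1,1,2,1,1], [1,0,3,3,0,0], [1,0,1,1,0,3,2,1,0], [1,1,1,2,2,2], [1,0,3,2,1,1,1], [3,3,3,0,1,1,1,0], [1,1,0,0,3,2,1,2], [1,1,0,0,0,0,0,3], [1,0,1,1,1,0,3,3,0], [0,0,3,3,3,0,1], [3,0,0,1,2,3,0], [3,0,3,2,3,2,2,1], [0,1,2,2,2,3,3,3,0], [1,2,3,3,2,1,0,1], [1,1,2,2,3,0,1,0], [2,1,2,2,2,1,0,1], [0,1,0,3,0,1,0], [0,0,1,0,1,1,1], [0,0,1,0,1,2,1,1], [2,1,2,2,3,0,0,1,2], [1,2,3,3,2], [3,2,1,1,1,2,3,3], [1,0,1,1,1,2,1], [3,2,1,2,3,0,0], [3,2,3,0,3,3,0,0], [1,1,1,2,2,3,0,1], [1,1,2,1,0,0,0,0], [1,1,1,2,3], [0,1,1,1,2,2], [3,3,3,2,3,0,0], [1,0,0,1,2,1,0,3,0], [1,0,3,2,1,2,3],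 [2,2,1,1,1,1,1,0], [2,2,1,2,1,1,0], [2,1,1,2], [0,3,3,0,3], [3,0,3,3,2,1,0,0], [0,3,3,3,2,1,0], [1,1,1,0,0,1,1,0], [3,3,3,0,0], [0,1,2,2,3,0,1], [1,2,3,0,0,0,1,2], [3,0,0,3,2,2,1], [3,3,3,2,2,3,0], [1,2,2,2,1,1], [2,1,1,1,1,1], [3,0,0,1,1,1,1,0,0], [0,0,3,0,0,1,2], [0,0,3,2,2,1,1], [1,1,0,0,1,1,1], [2,1,0,3,2,1,0], [1,0,3,3,0,1,2,3], [2,3,2,2,1,0,0], [0,1,2,1,2,2,2,3], [2,2,2,2,3,0], [1,0,1,0,3,3], [0,0,1,0,0,0,0]]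

/-- Part of the paths. -/
def pathsDEight43 : List (List ℕ) := [
[1,0,3,3,3,0,0], [1,2,1,1,1,1,0], [0,3,3,2], [1,1,2,1,0,0,1,0], [3,3,2,1,2,1,2,1], [1,2,2,1,2,3,2,1], [0,1,2,3], [3,0,3,3,3,3,0,3,0], [1,1,0,3,2,1], [1,2,2,2,3,0], [1,2,1,2,3], [0,3,3,3,0,0,1,0], [1,2,2,2,3,2,3,3], [0,0,0,0,1,0], [0,0,0,0,3,2,3,2], [0,0,0,0,3], [2,1,2,1,2,2,1,0,0], [0,1,1,1,2,1,0], [3,3,3,3,2,1,0,1], [1,1,2,1], [3,0,0,0,3,3,0,1], [0,3,0,3,2,1,0], [1,2,3,2,2,3,0], [2,1,1,0,0,3,2], [3,3,0,0,3], [3,0,0,0,3,2], [3,3,2,1,2,3], [1,1,2,3,2,1,1], [2,3,3,2,1,1,1], [3,3,0,0,1,0], [0,0,0,0,3,3,3,0,1], [3,3,2,3,3,2], [3,0,0,0,0], [1,2,1,2,2,2,3,0], [2,2,3,0,0,0,3,0], [2,2,1,1,0,3,3,0], [1,2,1,2,1,0,1,2], [3,2,3,0,3,3,2],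 [1,0,1,0,0,0,0], [0,3,2,2,1,2,2], [2,2,3,2,2,3], [2,1,1,1,2,1,1,1], [2,2,3,2,2,1,0,0], [0,1,1,0,3,3,0,1], [3,2,1,2,1,2,2,2], [1,1,1,0,0,3,2], [1,0,3,2,1,2,2], [3,2,3,3,3,0,0,0], [0,1,2,1,0,1,0], [3,3,3,3,0,3,2,1], [3,2,1,0,1,1], [1,2,1,2,2,1], [3,3,2,3,0], [3,3,3,0,3,0,3,0], [2,2,1,2,2,3,3,0,1], [1,1,2,2,3,3,3,0], [2,2,3,0,0,0,0,0,3], [0,3,2,1,0,1,2,1], [0,0,1,0,3,0,3,0], [1,2,2,2,1,1,2,1,0], [3,0,3,0,0,1], [2,2,3,2], [3,0,3,0,0,0], [1,0,3,0,1,1,2], [3,0,0,1,1,0,0,0], [0,3,3,2,1,1,2], [3,0,0,3,2,3,2,1,0], [1,0,3,0,0,3], [1,2,1,1,2,1,2,1], [2,3,2,1,0,0], [1,1,0,1,1,2,3,0], [3,2,1,1,0,1,1,1], [1,1,0,3,2,3,3,2], [2,3,2,2,2,2,3], [0,3,2,2,2,1,1], [0,0,3,0,3,2], [0,3,3,3,2,1,2,2], [0,0,0,0,3,2,3,0],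 [3,0,0,1,0,1,0], [2,3,2,2,2,2,1,0], [2,1,0,0,1,2,1,1], [2,1,2,3,0,0,1,0], [2,2,3,2,1,1,1,2], [2,2,2,2,2,3,0], [3,2,1,2,1,1,1,2], [3,0,1,0,1,0,3,0], [0,3,3,3,3], [2,1,1,0,3,0,1,0], [0,1,0,0,1,1,1,1], [1,2,2,3,0,3,0], [0,3,2,1,1], [3,2,2,2,3,0,1], [0,3,0,3,0,3,0,3], [1,2,1,2,1,2], [0,3,2,2,1,1], [3,2,1,2,2,3,3,3,0], [0,0,1,1,1,1,1,2], [0,0,3,2,1,0,0,3], [2,3,2,1,2,3,3,0], [2,1,2,3,2,1,1,1]]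

/-- Part of the paths. -/
def pathsDEight44 : List (List ℕ) := [
[3,2,3,3,3,0,3], [3,3,3,3,0,1], [2,1,1,1,1,2,2], [3,2,1,1,0,0,1,0], [0,1,0,3,2,3,0], [1,0,3,3,2,2,3,0], [0,3,0,1,0,1,0], [0,0,1,0,0,3,0], [1,0,0,3,3,3,3], [0,3,0,1,1,0,0,0], [0,1,1,0,1,1], [2,3,3,2,1,1,1,1,0], [1,1,0,0,0,0], [0,3,3,0,0,0], [3,3,2,3,0,1,1,1,2], [0,0,1,1,2,3,0], [1,1,2,2,2,1,0,0], [0,1,1,1,1,0,1,2], [2,2,1,2,2,3,3,2], [3,2,1,1,1,1], [2,1,2,3,3,0], [0,0,0,0,1,1,2], [1,2,2,3,0,0,3], [2,2,1,2,1,2,1,1,0], [1,1,2,2,2,2,3,0], [3,0,0,1,2,1], [2,1,2,2,1,0,0,1], [2,2,2,3,2,3,0], [1,1,0,0,3,3,3,3], [2,1,2,2,1,0,3], [1,2,3,3,0,0,0,1], [3,2,2,3,2,2], [3,3,2,1,2,3,0], [2,3,3,2,2,2,3,2,1], [1,0,3,3,0,1,0,0], [0,3,3,3],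 [0,1,2,3,0,1,2,1], [1,2,2,3,0,0], [3,0,0,3,2,2,2], [0,3,0,0], [3,2,2,1,0,1,1], [3,3,0,3,0], [2,1,0,3,0,0], [1,2,3,2,1,0,0,3], [0,1,0,0,0,3,2], [2,1,2,3,2,3,0], [0,0,0,3,2,3,3], [3,2,2,3,0,0,3,0], [3,2,2,3,3,0,3], [3,0,0,0,0,0,0], [1,1,1,1,0,3,3,0], [0,1,2,3,2,1,0], [0,1,0,1,1,2,2], [2,3,2,1,0,0,1], [3,2,3,0,3,3], [3,3,0,1,1,2,3], [2,1,0,3,3,2,1,0], [1,1,1,2,2,2,1], [1,2,1,0,0,1,2,3], [0,3,0,3,3,0,1], [3,2,1,0,0,0,3,2], [2,1,2,1,0,1,0,0], [1,0,3,3,3,3,0], [3,2,3,0,0,0], [0,3,0,3,3,3], [3,3,2,1,2,3,0,1], [1,2,3,2,2,2,1,2,3], [0,1,2,1,1,0], [3,3,3,3,0,1,1,0,0], [1,1,1,2,3,3,2], [2,1,0,3,2,1,2], [3,0,3,0,3,0,1,0], [0,1,0,3,3,0,3,0], [3,2,2,2,3], [2,3,3,0,0,0], [3,0,1,0,0,3,2,1], [1,2,3,0,3,2,1],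 [2,2,2,3,0,3,2], [1,2,1,1,1,0,1,0,0], [2,3,0,1,0,1], [0,1,1,1,1,2], [0,3,3,2,1,0,0,0,1], [3,2,2,1,1,2,1,2], [1,1,0,1,0,1,1,0,0], [3,3,0,0,1], [0,3,3,3,0,0,3,3], [1,0,0,1,2,3,0,0], [0,3,2,3,3,0,0,1], [2,1,1,0,3,0,0,1], [2,2,3,0,0,1,1,0], [3,3,2,3,2,2,2,1], [2,2,3,3,2,2,1], [0,1,0,3,3,2,3,0], [2,3,0,0,1,2,3,0,1], [2,3,0,1,2,1,1,2], [3,2,1,0,1,2,1,0], [2,3,3,3,0,3,2], [1,0,0,0,3,2,3,0], [0,0,1,0,0], [0,3,0,1,2,2]]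

/-- Part of the paths. -/
def pathsDEight45 : List (List ℕ) := [
[1,1,0,3,3,0,1], [3,2,1,2,2,3], [0,3,3,0,1,1,0], [3,0,0,1,2], [1,1,2,3,2,3,3,3], [0,1,0,1,2,1,1], [2,1,0,3,0,1,0,3], [1,0,0,3,2,1], [2,2,2,2,1,2,2], [1,2,2,3,3,2,3,2], [2,1,1,0,3,2,2], [2,2,2,2,3,0,3,0], [0,1,0,3,0,3,0,0], [3,3,3,0,0,0,0], [0,0,0,3,3,3,0], [1,1,2,3,0,0,1,1], [2,1,1,1,2,2,3,2], [1,2,1,2,2,2,2,3], [3,0,0,0,3,0,1,0], [3,2,1,2,1,0,1], [1,1,0,3,0,1,0,0], [0,3,0,1,1,1,1,0], [3,2,1,2,1,1,2], [1,2,3,0,3,3,3,0], [0,3,0,1,0,0,1], [0,0,1,2,3,3,3,0], [3,0,3,2,1,0,0], [2,1,2,3,3,2,2,1], [3,3,3,0,0,3,3], [0,1,2,2,2,1,2,2], [1,0,1,1,1,0,3,0], [3,2,2,2,2,2,3,2], [1,1,2,2,2,1,0], [1,2,2,2,2,1,0,1], [0,0,0,0,0,1,2,2], [1,1,2,1,0,1,1],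 [2,1,2,3,3,0,3,0], [2,2,1,2,2,2], [1,0,1,2,3,0,1], [1,2,3,3,2,1,0,3], [3,2,2,2,1,0,1], [0,3,2,2,3,3,0], [0,3,0,0,3,0,0,1], [3,2,3,3,3,0,1,1], [1,0,0,1,0,1,0,0], [3,2,2,3,3,2,1,2,1], [0,3,3,3,3,2], [0,0,0,3,0,0,0], [2,2,2,1,0,1,1,1], [2,3,3,0,3,3,3,2], [2,3,2,2,2,3,2], [1,2,1,1,1,0,0,0], [1,1,1,2,1,2,3], [2,2,3,3,0,3,3,0,1], [2,1,1,0,1,2], [2,2,1,0,3,3], [0,3,3,2,1], [2,3,3,3,2,3,2], [1,0,0,0,1,0,0,0], [2,2,1,0,1,0,3,0], [0,1,1,2,2,2,2,3], [2,3,0,0], [3,2,2,1,2,2,3,0], [3,2,1,1,2,1,1], [1,1,0,3,0], [2,3,0,0,1,0,1], [1,2,3,3,3,0,3], [1,2,1,1,0,1,1], [2,2,3,3,0,0], [3,0,1,1,2,1,2,3], [2,1,1,1,2,3,0,3], [2,2,3,2,2,3,3,2,1], [1,0,3,0,0,1,1], [0,1,1,0,0,0,3,0], [1,0,3,0,3,0,3,0], [2,1,1,2,1,1,0,0],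 [1,0,1,0,3,0,0,1], [2,2,3,3,0,1,1], [1,2,1,2,1,2,2,1], [2,3,3], [0,3,2,2,1,1,0,0], [1,0,1,0,1,1,0], [3,3,0,3,0,0], [0,3,0,0,0,1,0], [0,0,0,0,3,2,1,1], [2,3,0,0,0,1,0], [0,0,0,3,0,0,0,1,0], [3,0,0,0,0,3,0,3], [1,2,3,3,2,3,0], [3,3,0,1,1], [2,3,0,3,2,3,0,1], [1,2,3,2,2,1,2,1], [2,2,2,2,1,1,1,1,0], [0,0,1,2,3,0,0,0], [0,1,2,3,0,1], [0,1,0,1,1,2,3], [1,2,2,2,2,2,2,2], [1,2,3,0,1,0,3], [2,2,1,2,1,0,3,3,0], [3,3,2,3,0,3,2]]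

/-- Part of the paths. -/
def pathsDEight46 : List (List ℕ) := [
[2,1,2,1,0,3,0,0], [0,0,0,1,1,1,1,1,0], [0,1,1,2,2,2], [3,2,3,3,0,3,3], [1,0,1,2,2,3,0], [1,1,0,3,3,0,3], [2,2,2,1,0,0,1], [0,0,0,1,2,1,2,1,1], [3,2,3,2,1], [2,2,3,0,1,0], [0,1,0,1,1,1], [1,1,0,3,2], [2,1,1,2,2,1,2,2], [2,1,1,0,3,3], [0,0,0,3,2,1,0], [3,0,3,0,0,0,1], [1,0,3,2,1,0,0,1], [2,1,1,2,3,0,3], [2,3,3,0,0,1,1,1], [1,2,1,0,1,1,0,0], [1,2,2], [2,2,3,3,2,3,0,0], [1,0,0,1,1,2,3,0], [1,1,1,0,1,1], [1,2,1,0], [2,2,2,2,1,2,1], [2,2,1,1,0,3,2,1], [3,2,1,0,0,0,0,1], [3,2,2,3,2,1,0], [0,1,0,0,3,3], [2,3,2,2,3,0], [2,2,1,2,2], [1,2,3,2,1,1], [0,1,0,0,0,0], [0,0,1,1,2,3,0,0,0], [2,2,2,2,2,3,2,1], [3,2,1,2,3,0,0,1], [1,1,0,1,1,1,2,2],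 [3,2,3,0,3,0,0], [1,0,0,0,3,0,0], [1,1,0,3,0,0], [0,3,3,2,3,3], [2,3,0,1,1,0], [3,0,3,2,2,1], [0,0,3,2,1,2,1,1], [3,3,2,2,2,1,0], [0,1,1,0,1,0,0], [1,1,2,1,2,1,0], [0,3,0,0,3,0,3], [0,3,3,0,1,1,2,1], [2,1,1,1,2,3,3,2], [0,3,2,1,1,2,2,3], [3,3,0,1,2,3,2,1], [2,2,2,1,2,1,2,2], [0,3,3,0,3,3,0], [2,1,2,1,2,1], [1,0,1,0,1,2,3,0], [2,2,2,1,1,1,0], [0,1,1,1,1,2,3,0], [2,1,1,2,3,0,1,0], [3,0,0,0,3,0,1,0,1], [2,3,3,0,1,0], [1,0,1,1,0,3,0], [3,2,1,2,2,1,1], [2,1,0,3,2,3,3,0], [0,3,3,0,0,0,1,1], [3,2,2,2,3,0,0,1], [1,2,3,2,1,1,1,0], [1,2,3,2,2,3,0,3,0], [3,0,0,1,0,0,0,1], [0,1,1,2,3,0,0,0], [0,0,1,2,1,1,1,0,0], [3,0,0,0,3,0], [3,0,1,1,2,1], [3,0,0,1,0,1,1,1,0], [2,1,1,2,1,1,2], [3,2,2,3,0,0,1,0],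 [3,0,3,3,2,2,1], [0,1,0,1,0,0,0], [1,1,2,1,0,0,0], [1,0,1,1,2,1,0,0,0], [1,1,1,2,1,0,1,0,0], [3,2,2,1,2,3,0], [1,0,1,1,2,1,2,1,0], [2,1,2,2,3,0,3,2,1], [1,1,0,1,0,1,2,3,0], [3,2,2,1,2,3,3,2], [0,1,2,3,3,2,1], [3,2,2,2,3,0,3], [0,3,0,1,1,1,1], [3,0,1,0,0,1,0], [2,1,1,2,2,3], [2,2,1,0,1,1,0,0], [1,1,0,3,3,2], [0,1,0,3,0,1,1,0], [2,1,1,2,1,1,1,0], [2,3,2,3,3,0], [2,2,3,0,1,0,1], [0,3,0,0,1,2,1,1], [0,0,3,3,3,3,2]]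

/-- Part of the paths. -/
def pathsDEight47 : List (List ℕ) := [
[0,3,0,0,1,1,1], [1,1,0,0,3,2,3,3], [1,2,2,2,1,0,3,0], [2,2,3,0], [1,2,2,3,3,2,2,3], [2,3,3,0,3,0,1], [1,1,0,0,3], [2,1,2,3,2,1], [1,2,2,3,0,1,0,1], [2,3,0,3,0,3,0], [3,2,2,1,2,3,3], [1,0,1,1,1,0,1,1], [1,2,2,3,3,0,1,0,0], [2,2,1,2,1,2,2,1], [0,3,0,0,3,0,1,1], [2,1,0,1,1,2,2], [3,3,3,2,1,0,3,2,2], [2,1,1,2,2,2,1,2], [2,1,1,0,1,1,0], [0,1,2,2,3], [2,3,2,2,2,1,1,0], [3,2,3,3,3,0,3,0], [3,2,2,1,0,3,0,3], [3,0,3,0,3,0], [1,0,3,0,1,0], [1,2,2,3,2,1,2,3], [1,0,0,1,1,1,0], [1,2,2,3,2,1,1], [0,1,1,0,1,1,2,2,1], [3,0,1,0,0,3,3,3], [1,2,3,3,0,1,1], [2,2,1,2,1,0,0,0], [0,3,3,0,0,1,2,1], [1,2,3,3,3,0,3,0], [0,1,0,3,0,0,1], [2,1,2,1,2,3,3,0],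 [1,2,1,0,3,2], [3,2,3,2,2,1,1,0], [1,1,0,0,1,2,1], [3,3,2,2,1,2,1,2], [1,1,1,2,3,0,1], [0,3,0,1,2,1,1,0], [1,0,3,3,3,3,0,1,1], [1,1,2,1,0,3,2,1], [1,1,1,2,1,1,0], [0,0,0,3,2,1,0,0], [1,2,3,2,1,0,0,1,0], [1,0,3,2,2,1,0,1], [2,1,2,1,0,3], [2,1,2,1,0,0,1], [0,0,3,0,1,1,1,0], [1,1,0,3,3,2,1,0], [3,2,3,0,1,1,1,2], [3,2,3,2,1,0,0,0], [3,2,3,2,1,2], [2,3,3,0,3,2,1], [0,0,3,2,3,2,1], [2,2,1,0,1,0,0,0], [0,0,3,2,1,1,0,0,0], [0,0,0,0,3,0,3,0], [0,3,3,0,3,2,2,1], [1,2,1,0,3,3,3,0], [0,0,0,3,0], [0,0,3,3,3,0,1,0], [1,0,1,0,0,0,0,1], [3,3,3,3,2,3,0], [1,2,3,2,1,1,2], [1,2,1,0,1,2,2,2], [0,3,2,3,3,0,0,0], [0,0,1,0,0,1,2,1], [1,0,1,2,2,3], [2,1,0,3,0,0,1], [2,1,0,0,0,3,0,0,0], [2,1,2,1,1,1], [0,1,2,3,0],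 [0,0,1,2,2,1,0,1,1], [2,1,2,1,1,2,1,2], [0,0,1,1,0,3,0,0], [0,3,2,1,1,0,1,1], [3,0,1,2,2,1,2], [3,2,3,2,2,1], [3,3,2,2,1], [0,3,0,1,1,0,3,2], [1,0,3,3,0,0,0,1,1], [0,0,0,0,1,1,1,2], [2,2,1,0,3,0], [2,2,3,2,3,0,0], [3,3,2,3,0,3,3], [0,0,3,2,3,0,3], [0,1,0,0,0,1,0], [1,2,2,1,2,3,3,3,0], [2,2,3,2,3,3,3], [2,1,2,2,1,2,1,2], [0,3,3,3,0,0,3,0], [3,2,2,2,1,1,0,0], [1,0,3,3,2,1,1], [2,3,0,0,0,1,0,3], [2,2,2,2,2,2,2], [1,2,3,3,2,3,3,3], [3,3,0,3,0,3,0]]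

/-- Part of the paths. -/
def pathsDEight48 : List (List ℕ) := [
[2,1,2,1,0,1,1,1], [2,1,0,0,3,3,2], [3,3,2,3,0,0,3,0], [0,1,2,1,0,1,0,1], [1,2,1,1,2,2,1,1,0], [0,1,1,0,0], [3,3,2,1,1,2,2,3,0], [2,2,1,2,3,0,1,1,0], [2,1,2,1,2,1,2,1,0], [3,2,3,3,3,2,2,2], [3,0,1,1,2,2,3], [1,2,2,2,2,1,1], [1,0,0,1,0,0,1,2], [2,3,0,0,1,1], [0,3,0,3,2,1,0,1], [0,3,0,3,2], [1,1,2,3,3,0,3,3], [2,2,3,3,3,3,0,0], [1,1,1,0,3,2,1,0], [3,3,2,1,2,1], [1,2,3,2,1,1,2,3], [3,3,0,3,0,1,1,2], [3,2,3,2,2,1,2,3], [0,0,0,3,2,3,0], [2,2,2,3,3,2,1], [1,0,3,0,1,1,1,0], [1,1,0,0,1,0,0,0], [1,0,3,3,0,3,0], [1,2,1,1,2,1,2], [0,0,1,0,3,0,0], [1,1,0,0,3,0,1,0,1], [2,2,1,0,3,2,2,1], [2,2,2,1,1,1], [0,1,0,3,2,2,1], [1,1,2,3,0,1,2,1],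 [2,2,1,2,2,1,0,3], [1,0,0,3,3,2,1], [3,2,1,2,3,2,3,0], [3,3,0,1,1,2,2], [0,1,2,2,1,1,0,0], [2,3,2,3,3,2], [0,3,3,2,2,1], [3,2,3,2,2,2,1,1,0], [0,0,0,1,2,3,3,0], [2,2,2,1,1,2], [2,3,0,3,3,3,0,0], [3,0,3,2,1,2,1,2], [3,3,2,2,2,2,3], [1,1,2,2,2], [2,2,2,2,1,0,0,1], [3,0,1,0,3,2,3,0], [2,1,0,0,3,2,2], [0,1,0,0,0,0,0,1,0], [3,0,0,1,1,2,3,0], [3,3,3,0,3,0,1,0], [2,2,3,3,2,2,3,0], [0,1,2,2,1,2,2,1], [0,1,1,1,0,0], [1,1,0,0,1,1,0], [1,0,3,2,2,2,3], [1,1,2,3,3,0,3,0], [3,3,3,3,2,2,3,0], [1,1,1,1,2,1], [3,2,1,1,2,1,0,1,0], [3,2,1,0,3,2,1,0], [2,1,0,1,1,0,0], [2,1,0,1,1,0,3,3], [3,2,1,1,1,2], [0,1,1,0,3,0,1,0], [3,0,0,3,3,3], [2,2,2,3,3,3], [0,0,3,0,3,0], [3,3,3,0,3,0], [0,1,0,1,2,2,3], [2,1,0,3,0,3],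 [2,1,0,0,1,0,1,1], [3,2,2,1,1,0], [3,3,3,0,1,2,2,1], [2,3,2,3,0,0], [0,3,3,2,3,0,1,1], [1,0,0,1,2,3,0,1,0], [0,0,3,0,1,2,2,1], [1,0,0,1,2,3,0,3], [2,3,0,3,0,0,0], [1,2,2,2,3,3,3,2], [1,0,1,1,1,2,3,0], [0,3,2,1,0,0,0,0,1], [1,0,1,1,2,2,3,0,0], [0,1,1,0,1,2,2,3], [3,0,1,2,3,0,0], [2,1,1,0,0,1], [2,2,1,0,0,1,0], [1,1,0,3,3,3], [0,3,3,3,2,3,0], [1,2,1,0,0,1], [0,3,0,1,2,1,0,1,0], [0,1,0,0,0,3,0], [3,2,2,1], [0,0,3,0,1,2,3], [2,2,1,2,2,2,1,0,1]]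

/-- Part of the paths. -/
def pathsDEight49 : List (List ℕ) := [
[3,0,0,1,0,3,0,3], [0,1,0,1,2,3,0], [0,0,1,2,2,1,2], [1,2,2,1,0,0,1], [3,2,3,3,0,0,3,0], [3,3,0,1,0,3], [2,2,2,3,2,1,2,2], [0,1,2,1,1,0,0,1,0], [2,2,3,3,2,2,3], [1,1,0,1,2,3], [3,3,2,3,0,1,1], [0,1,1,1,2,3,0,3], [0,0,1,1,2,1,1], [0,1,0,1,1,0,1,0,1], [0,1,2,3,2,2,1], [0,3,0,3,2,1], [2,2,2,1,1,2,2], [3,0,0,1,1,2,2], [2,1,1,0,0,3,0], [0,0,1,2,3,0,1,0,0], [2,3,2,2,3,3,3], [0,0,0,1,0,3,0], [2,3,3,0,3,0,0,0,0], [0,0,3,2,3,0], [0,1,1,0,3,0,0,0], [2,1,1,2,2], [3,3,2,1,2,3,3], [2,1,1,2,2,1,1,0], [1,2,3,2,3,0,0], [0,1,1,0,1,1,0,0], [1,2,1,1,2,1,2,3], [0,1,2,1,2,3,3], [3,2,2,3,0,3,2,1], [1,0,3,3,0,0,0], [0,0,3,3,3,0,3,0], [3,2,1,1,2,2,1,1],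 [2,2,2,1,0,1,0,0], [0,0,3,0,3,0,0], [2,2,2,3,2,2,2], [1,2,1,2,1,0,0,0], [3,2,2,1,0,3], [2,1,0,1,0,0], [3,3,2,3,0,0,1,1,0], [1,1,0,3,0,0,1], [1,1,0,0,1], [1,0,3,2,3,3,0,3], [1,1,0,1,1,0], [1,2,3,0,3,0,0,0,0], [2,1,0,1,0,3,3], [1,1,0,1,1,0,3,0], [2,2,1,2,1,2,1,1], [1,1,1,0,1,0,1,1], [2,3,0,3,3,3,0,3], [1,1,0,1,1,2,3,3,0], [3,0,0,1,0,1,2,1], [0,3,3,3,3,0,1], [0,0,3,0,3,0,3,0,3], [1,1,0,3,0,1,0], [1,1,2,1,2,2,1], [2,2,3,3,0,0,1], [3,0,0,0,1,1,0,0], [1,1,2,3,0,1,1,0], [3,2,1,0,0,0], [1,0,3,2,2,1], [3,2,1,2], [1,2,3,2,2,1,1], [1,1,1,0,0,3,0], [1,1,0,0,0,1,2], [0,0,1,1,2,1,2,1,0], [3,0,1,1,1,2], [0,3,2,2,1,1,2,2], [2,1,1,0,0,1,0], [0,1,1,0,1,0,1], [3,3,0,3,2,1], [1,2,2,1,0,1,0], [2,3,2,2,1],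 [1,0,3,0,3,3], [3,0,0,1,0,3,0], [1,0,0,0,0,0,0,0,0], [0,1,2,3,2,2,1,2,3], [1,0,3,0,0,0], [1,0,3,2,1,2], [2,1,1,1,2], [1,1,2,3,0,3], [3,2,1,1,0,1,2,3], [2,1,0,0,3,3,0,3], [1,2,2,1,0,3], [2,2,3,0,3,3,0,3], [3,2,2,1,1,2,2], [0,3,0,3,2,1,2], [3,0,3,2,3,0], [0,3,2,2,1], [3,0,0,3,2,3,0], [2,3,2,2,1,1,1,2], [0,3,2,3,0,3,3], [3,2,2,2,2,1,1,1], [3,0,1,0,3,0,0], [2,1,0,0,1,2,1,0], [0,3,2,2,3,2,1,1], [3,2,2,3,2,3,3,2]]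

/-- Part of the paths. -/
def pathsDEight50 : List (List ℕ) := [
[2,1,0,3,3,0,0,0], [1,0,0,1,1,0,0,0], [3,0,3,2,1,1,2,1,0], [0,3,0,3,3,3,3,2], [1,0,0,0,3,2,1,2], [3,3,3,0,1,2,2], [2,3,2,1,0,1,2,1], [3,3,3,2,2,1], [1,1,2,1,0,1,0,0], [2,2,1,1,0,0], [0,3,3,3,3,2,2,2,1], [0,3,0,3,0,3,0], [2,3,3,3,3,0,0,0], [1,1,1,2,1,1,1,0], [2,2,3,0,0,0,1,0,1], [0,1,2,1,2,3,3,0], [1,1,1,1], [1,0,3,0,1,0,1,0,0], [1,1,0,0,1,0], [1,2,3,2,1,0,1], [0,1,0,3,3,0,0,0], [0,1,1,1,0,0,0,0], [1,0,1,2,1,1,0], [1,1,0,1,2,3,3], [3,3,3,2,2,2,3,0], [2,2,1,0,1,2,2,1], [0,0,3,0,3,2,2], [2,3,2,2,3,0,0,1,0], [2,3,0,0,3,3,0,0,0], [1,2,1,0,3,2,1,2], [2,3,2,1,0,3,0], [1,2,1,0,1,2,1,0], [2,3,0,1,2,2,2,1], [0,1,1,0,1,2], [0,1,1,2,2,3,2],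 [0,0,0,3,2,2], [3,2,2,3,0,1,1,1], [2,3,2,2,1,0,3,0], [2,1,2,1,1,0,1,1], [1,2,1,2,3,2,1,0], [3,2,2,1,1,1,0], [3,0,1,2,2,1], [3,3,2,1,1,2,1,0,1], [0,3,2,2,2,3,3,3,0], [0,3,3,3,0,1,0], [1,2,2,1,1,0], [0,1,0,0,3,0], [1,1,1,1,1,0,3,3,2], [2,3,3,0,1,2,1], [2,3,0,3,3,0,0], [2,1,2,1,0,3,0], [0,3,0,0,0,1,0,1], [1,1,2,3,2,3,0,0], [3,0,0,1,0,3], [1,1,2,2,1,0,3], [0,3,3,0,3,0,3,0], [1,2,3,0,0,3,0,3,0], [2,2,1,1,2,2], [0,3,2,3,0], [1,1,1,0,1,2], [3,2,1,1,0,0,0,0], [1,0,1,1], [0,1,2,2,3,2,2,3], [0,0,1,0,0,1,2,2], [3,3,3,0,0,0], [0,0,3,0,0,1], [1,2,1,2,2,2], [3,0,1,0,0,3,0], [1,1,0,3,0,0,1,0], [0,1,1,1,1,0,0,3,2], [2,1,2,3,3,0,3,3,2], [3,2,2,1,2,3,3,0], [3,3,0,1,0,1,0], [2,3,0,0,0,1], [0,0,0,1,1,1,2,1],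 [0,0,1,1,1,1], [1,2,3,3,0,0], [3,2,1,2,1,2,1,2], [3,0,1,1,1,1,1,2], [3,3,2,2,1,2,3], [0,0,1,1,1,2,3], [3,3,2,1,1], [3,2,1,2,2,3,0,3,0], [2,3,0,0,0,3,0,1], [2,1,2,2,3,3,2], [1,1,1,1,2,1,1,1,0], [1,0,3,3,3,0,0,0], [0,1,0,3,3,0,0], [1,0,0,1,0,0,1], [0,0,1,2,2,3,0,1], [0,3,3,3,2,3,2,1], [1,0,3,0,1,2,1,0], [0,0,3,3,0,3], [2,3,0,0,0,3,3], [2,1,1,0,1,0,0,0], [1,1,1,1,1], [1,2,3,0,3], [3,0,0,0,3,2,1,0,0], [3,2,3,0,0,1,1,0], [1,1,0,1,1]]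

/-- Part of the paths. -/
def pathsDEight51 : List (List ℕ) := [
[3,2,1,0,3,0,0], [2,1,2,1,0,0,0], [1,2,3,3,3], [3,0,1,0,3,3], [1,2,3,3,0,1], [2,1,0,0,1,0], [2,2,2,3,2,1], [2,3,0,0,1,2,3], [2,3,0,3,2], [0,1,2,1,2,3,0,0], [2,3,0,1,2,2,1,2], [1,1,2,2,3,2,1,1,1], [1,1,2,3,2,2,1], [1,0,1,2,2,3,3,2], [2,3,3,2,2,1], [1,1,0,3,0,0,3], [3,0,3,0,1,2], [2,2,1,0,0,1], [3,2,3,3,3,0,3,2], [2,2,2,3,0,1,2,2,1], [1,2,1,2,3,0,0,3], [0,1,1,0,3,3,3], [1,2,1,0,1,0,0], [1,1,2,2,3,3,0,0], [1,0,0,1,2,1,0,3], [2,1,0,1,2,3,3], [3,3,0,3,0,3,0,1,1], [3,0,3,0,1,1], [2,1,1,2,2,2,1,0,0], [3,3,2,3,0,0], [3,0,3,2,2,1,0,3], [0,1,0,0,0,3,0,1], [2,2,1,1,0,1,2], [3,3,0,3,3,2,1,1], [0,0,0,1,1,1,2], [3,3,2,3,3,3], [0,3,3,3,0],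 [1,1,0,3,0,1], [2,3,3,3,0,1,1], [0,0,1,2,1,1], [2,2,1,1,1,1,2,1,0], [3,0,3,0,0,0,3], [2,2,2,2,2,2], [0,0,1,1,1], [1,1,0,3,2,3,2,1], [0,1,2,3,2,3,3], [3,3,0,0,3,3,2], [1,1,2,1,2,3], [0,0,0,1,1,2,1,1], [0,0,1,2,1,2,3], [0,0,0,1,2,3], [1,0,1,1,2,1,2,1], [0,1,0,3,0,0,1,1], [3,0,3,0,1,2,1,0], [3,0,0,1,1,1,1,0], [3,0,0,1,0,0,1], [2,2,1,2,2,2,2], [3,3,0,0,0,1], [2,1,1,1,0,3,0], [0,1,2,1,0], [1,2,3,3,2,1,2,1,1], [2,3,0,3,2,1,1,1], [1,2,2,2,2,2,1], [2,2,1,0,0,3,3,0,1], [3,3,0,0,0], [3,0,3,2,2,2,1], [2,1,1,2,2,2,1], [0,3,3,2,3,0,1], [0,0,0,3,0,0], [1,0,1,0,1,2], [3,0,0,1,0,3,0,0], [0,0,0,1,1], [1,1,2,1,1,2,1,2,3], [3,2,2,2,3,0,0], [1,0,0,3,0,3,2], [2,3,3,3,0,3,0,0], [3,3,0,0,3,2], [2,3,0,1,1,2,1,2],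 [3,0,1,1,2,3,2,2], [2,2,2,1,0,3,0], [1,1,2,1,1,0,1,1], [0,1,1,2,2,2,3,0], [2,1,2,2,2,1,0], [0,1,1,2,1,2,3], [3,3,3,2,1,0,0,1], [2,1,2,2,2,2], [3,0,3,3,2,2,3,3,0], [3,2,1,2,1,0,0,0], [0,1,0,1,2,3], [3,2,1,1,2,1,1,1], [1,2,2,2,1,2,2], [2,2,1,2,2,2,1], [0,1,0,0,0,0,1,0], [2,1,1,1,0,0], [2,2,2,2,3,3,2], [3,3,0,0,1,1,0], [2,1,1,2,2,2,3], [1,2,2,2,2,3,3], [2,1,2,2,1,2,2,1], [1,1,0,3,3,0,1,2]]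

/-- Part of the paths. -/
def pathsDEight52 : List (List ℕ) := [
[1,0,0,3,3,0], [0,0,3,2,2,2,1], [1,1,1,2,2,3,2], [2,2,3,0,0], [0,1,0,0,0,1,1], [1,1,2,2,2,1,2,2], [0,0,0,1,0,3,0,0], [0,1,0,1,2,1,0], [2,2,3,3,3], [2,2,3,3,0,0,1,2], [0,1,0,0,0,3,0,0], [0,3,2,1,1,1,2,1], [0,3,0,0,0], [1,1,0,3,3,0,0,1], [2,1,1,2,2,1,1], [1,2,1,2,1,2,1,0], [2,1,0,1,2,2,2,1], [2,1,1,0,3,3,3,0], [1,0,3,2,3,0], [1,1,2,3,3,2], [3,0,3,2,2,2], [3,3,2,3,0,3], [1,1,2,1,1,2,3], [3,3,3,0,3,0,0], [0,1,2,1,1,1,0,0], [2,1,0,1,1,0,3,0], [1,1,0,0,0,0,0,0], [2,3,2,2,1,0,3,3], [1,0,1,1,2,1,2], [1,1,2,1,1,1], [3,2,3,2,2,3], [1,2,1,0,0,0], [2,3,0,1,2,1,0,1,1], [3,0,3,0,3,2,1], [1,1,1,1,1,0,3,0], [3,3,3,0,3,3,3], [0,1,2,1,2,2,2,2],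 [3,0,3,3,2,2,1,0], [0,3,3,2,2,1,1,0], [3,2,1,0,0,3,0,0], [0,3,0,0,1,1,0], [3,0,0,3,3,0,3,3], [3,2,2,1,0,3,0], [0,1,1,0,0,1,0,1], [2,2,1,2,3,3,0], [0,1,0,0,1,2,1], [0,0,0,3,3], [1,2,1,0,1,0,3,3], [1,1,2,1,0,0], [1,1,0,3,3,0,1,1], [1,0,0,1,0,1], [2,2,1,2,2,1,1], [1,2,1,0,0,1,2], [1,0,3,2,1,0,0], [0,1,0,0,0,3,3], [3,2,3,0,0,3,3], [1,0,1,0,0,0,0,1,0], [2,3,3,0,0,1,1], [0,0,1,2,1], [0,0,1,2,3,2,1,1], [3,0,0,3,3], [3,0,1,2,3,2,1,1], [3,0,1,2,1], [3,3,3,2,1,0,0,1,0], [0,1,1,0,0,1], [3,0,3,0,3,0,3], [0,3,2,2,2,3], [2,1,1,0,3,0,3,2], [2,1,2,1,2,1,0,0], [1,1,1,2,1], [1,2,2,3,2,2], [1,1,2,2,1,1,0,0], [1,1,1,2,3,2,1], [2,3,2,3,0,3], [1,2,3,3,2,3,2], [0,1,1,1,2,1,2], [0,3,2,2,3,3,3,2], [0,1,1,1,2,1,1,0],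 [2,2,3,2,3,0], [1,2,1,1,1,1,1], [2,2,2,1,2,3,3,0], [0,1,0,0,1,1,2,2], [0,3,0,3,2,1,1], [3,0,3,3,0,1], [1,1,0,3,3], [3,2,2,3,0], [2,2,2,2,1,1], [0,3,3,3,3,0,1,2,1], [0,1,2,1], [2,3,3,2,1,2,3,0,0], [1,2,3,2,3,0,3,3,0], [0,3,0,1,0,0,0,1], [1,2,3,2,2,3], [1,0,0,0,1], [0,3,0,0,3,0], [0,1,0,0,1,2,3,0,0], [3,2,3,0,0,3,0], [2,2,1,2,1,0,0], [3,0,3,0,3,3,0,0,0], [1,1,0,3,0,0,1,1]]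

/-- Part of the paths. -/
def pathsDEight53 : List (List ℕ) := [
[1,1,1,0,0,1,1,1], [2,2,2,3,0,0,1,1,0], [1,0,0,0,0,3,0,3], [1,1,0,0,1,0,0,1], [2,1,0,3,2,3,3,2], [0,1,1,2,2,3,0], [1,1,2,2,3], [0,3,2,1,1,0,3,2], [0,0,1,2,3,2,2,1], [1,1,2,2,1,0,0], [1,0,3,3,3,2,1], [1,2,3,0,1,2,3,0], [2,2,2,1,0,1,1], [2,3,2,3,3,3], [1,1,1,0,0,0,0,1], [2,1,1,0,1,1,0,0], [0,1,0,0,0,0,1], [0,0,1,1,0,1,2,3,0], [2,1,0,3,0,1,1,0], [2,1,1,1,1,2,2,1], [2,1,2,1,2,1,1], [2,3,0,1,1,1,2,2], [1,0,0,1,2,3], [0,0,3,3,2,3,0], [0,1,1,2,2,2,1], [0,0,1,1,0,0,0,3,0], [1,0,1,1,0,3,2,2], [0,0,1,1,0,1,0,0,0], [0,0,3,2,1,0,3,0], [3,0,0,3,2,1,1,2], [0,3,2,3,3,0,3], [2,3,3,3,0,1,2,1], [2,2,3,3,2,1,2,2], [3,0,3,3,2,2,2], [2,3,2,2,2,1,2,3],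 [2,3,0,1,2], [3,3,0,3,0,0,1,0], [1,1,2,1,2,3,3], [0,0,3,2,3,3,0,1,0], [3,0,1,0,0,3,3], [2,3,3,0,0,3], [0,0,0,1,1,1,1], [2,3,2,2,2,1,1], [3,3,3,2,1,1,2,1], [1,2,1,0,3,2,1], [3,2,2,1,2,1,0], [0,1,2,3,3,0,0], [1,1,0,0,3,2,1,1,2], [2,2,1,2,3,0,3], [2,3,2,2,1,2,1,2], [2,1,0,0,0], [1,1,0,3,2,2,1], [2,2,1,0,1,2], [2,2,2,2,1,0,3], [0,3,0], [1,0,0,3,0,1], [2,2,3,2,1,2,2], [0,3,3,2,2,1,2], [1,2,2,1,1,1,2,1,2], [2,1,1,1,1,2,3], [2,1,1,1,1,0,1,2], [2,1,1,1,2,2,3,0], [1,1,2,1,2,1,1], [2,2,3,0,3,3,2], [1,2,2,2,3,0,0,0], [2,2,2,1,1,1,1,0], [2,2,1,1,0,3,3], [2,1,1,2,1,1,2,1], [1,2,3,0,1,2,3], [1,0,3,3], [0,1,1,0,1,2,1,0], [2,1,0,3,2,2,1,1,0], [2,1,0,3,2,2,1,2], [0,0,0,0,3,0,3], [3,3,2,2,1,0,1,0,0], [2,3,0,0,1],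 [0,1,0,1,0,0,1,0,0], [1,0,3,2,3,0,1], [0,3,0,0,3,0,1,0], [3,3,2,1,2,2], [0,3,3,2,1,0,0], [3,2,2,1,1], [1,1,1,1,1,2,2,1], [3,0,3,2,1,1,2], [0,0,3,2,3,3], [0,1,1,2,2,3], [0,3,3,2,2,2,2,1,0], [0,1,0,3,3,3,2,1], [1,0,1,1,0,1,2,1,0], [1,2,3,0,0,0,0], [2,1,2,1,1,2], [0,1,0,0,0,0,3,0], [3,0,3,2,2,1,2,1], [3,3,0,0,3,3], [2,2,3,0,3,3,0,0,0], [3,0,0,0,1,0,3], [0,0,1,2,3,3,0,0,0], [0,0,1,1,2,1,0], [2,3,2,1,1,0,0,0,1], [1,1,2,2,3,2]]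

/-- Part of the paths. -/
def pathsDEight54 : List (List ℕ) := [
[0,3,3,2,1,2,3,3], [2,1,1,0,1,2,3,3,0], [3,0,3,3,3,0], [1,1,2,1,1,0,0], [0,0,0,1,1,1,2,2], [0,0,3,2,3,0,1], [3,2,2,2,1,2,1], [0,0,1,0,0,3,0,0], [0,0,3,2,2], [3,3,0,0,3,0,1], [2,2,2,2,2,1], [1,1,2,1,0,3,3], [2,2,1,0,0], [1,2,3,0,0,0,1,1,0], [0,1,0,3,3,3,0,0], [2,2,2,3,3,3,0,0], [0,0,0,0,0,1,0], [1,2,1,2,3,2,3,0], [2,1,2,1,1,2,2], [1,0,3,2,2,3,3,3,0], [1,1,2,3,0,1,1], [1,1,2,1,2,1,2], [3,2,1,1,2,2,2], [3,0,0,0,1,2,2,2,1], [2,2,3,3,0,3], [0,3,0,3,2,1,2,3], [1,1,0,0], [1,2,2,3,0,0,1,2], [1,0,3,2,2,1,1], [1,2,1,0,1,0,1], [2,2,1,2,2,1], [2,2,1,2,2,2,3], [0,1,1,0,3,2], [2,1,0,0,1,0,1], [2,3,2,2,1,2,3], [1,1,2,3,3,2,3,0], [0,1,2,3,3,0,0,1],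 [3,2,1,0,3,0,0,0], [1,0,1,0,1], [1,2,3,2,1,1,1,2], [1,1,1,0,0,0,1], [3,2,1,0,3,2,1,2], [3,0,0,0,3,0,1,1,1], [2,3,0,0,1,2], [3,2,3,3,0,3,2,1], [1,0,1,2,1,1,1,0], [3,3,2,3,0,1,0], [2,3,2,2,1,2,1,0,0], [1,0,0,0,0,0,0,0], [3,2,3,0,3,2,3,0], [3,2,2,1,1,1,2], [3,3,0,3,2,1,2], [1,1,0,0,0,3,3], [0,0,1,1,2,2,3], [1,0,3,0,3,2], [1,2,2,2,2,2,2,1], [3,3,3,2,2,2], [1,2,3,3,2,1,1,1], [0,0,0,0,3,3,3], [0,1,0,1,1,0,0], [3,2,1,0,3,2,2], [1,0,1,1,1,0], [2,1,2,3,0,1,0,1], [2,3,2,2,2,1,2,1,0], [3,0,3,2,2,3,3,3,2], [2,2,2,1,2,1,1], [2,2,1,1,1,0,1,1], [3,3,2,1,2,2,3,0,0], [0,3,2,1,2,1], [1,1,0,3,0,3,2], [3,2,2,1,2,3], [0,1,2,3,0,0,1,1], [3,0,1,0,0,3,0,1], [0,1,0,3,0,3,2], [0,0,3,3,3,0], [3,3,0,1,2,1], [3,3,0,3,2,2,2],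 [2,1,2,3,3,0,1,1,0], [2,1,2,1,2,2,2,2,3], [0,3,3,3,0,3,2], [0,3,0,0,3,3], [3,3,2,3,0,3,0], [0,3,0,0,3,0,1], [1,2,3,3,0,0,3,0], [2,1,1,2,1,0,1], [0,0,3,2,2,1,2,1], [0,0,0,0,1,0,3], [1,0,0,1,2,2,2], [1,2,2,3,3,3,0,0,0], [0,3,3,2,1,0,3,3], [2,1,0,0,0,0,1,0,0], [2,2,1,2,1], [3,2,1,1,1,2,3,0], [2,1,2,3,0,0,3], [2,2,1,2,2,1,1,0], [0,3,3,2,1,2,1], [3,0,3,0,3,3,3], [0,1,2,2,3,0], [3,0,3,0,3,0,0], [3,0,3,3,3,0,3,0]]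

/-- Part of the paths. -/
def pathsDEight55 : List (List ℕ) := [
[2,1,0,0,0,1,2,1], [2,3,0,0,0,1,0,0], [2,1,2,3,3], [2,3,0,3,0,0,3], [1,1,2,1,1,2,2], [3,2,1,1,0,3,0,0,1], [1,2,3,0,1,2,1,1], [3,0,0,0,0,0,3,3,2], [1,2,3,0,1,1,1], [2,1,1,2,1,0,0], [2,2,1,2,2,3,0,1], [1,0,1,1,0,0], [0,0,1,0,3,0,3,0,0], [3,2,2,1,0,1,0,0], [3,2,1,1,0,0,1], [1,2,3,0,1,0,1,1], [0,3,3,0,3,2,1,2], [0,0,0,0,3,2], [0,3,2,3,3,2], [3,0,3,2,1,2,3], [3,3,2,3,3,3,3,2], [0,0,0,0,0], [0,3,0,0,1,0], [3,3,0,3,0,0,0], [0,3,0,0,3], [1,0,3,2,3,3,2], [1,0,3,3,2,2,2], [1,2,1,0,0,3,3], [0,1,1,1,2,1], [0,3,2,1,2,3], [0,1,2,3,3,2,1,1,1], [0,1,1,2,3,2,2,3,0], [3,3,3,2,2,2,3,2,1], [3,0,3,3,2], [3,2,3,3,3,3,2], [1,2,1,2,2,3,0,1], [1,2,2,2,3,3,0,3],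 [0,1,1,2,1,2,1,0], [2,1,1,1,0,0,3,0], [3,0,0,0,0,3,2,1,1], [3,3,2,1,0,0,0], [2,1,0,3,2,2,1], [2,1,0,0,3,2], [2,3,0,3,2,3,2], [3,2,3,0,3,2,1], [3,2,1,1,2,1,0,3], [1,2,3,2,1], [3,0,0,3,0,0,0,1], [1,0,1,1,0,3,3], [1,1,2,1,1,1,2,3], [3,3,2,3,0,3,0,1], [0,3,3,3,0,0,0,0], [3,2,1,1,1,1,1,0], [3,3,2,3,0,1,1,0], [1,2,1,2,3,2,2,1,0], [2,1,0,0,1,1,1], [1,2,3,0,1,2,1,0,0], [3,3,0,3], [3,0,0,1,2,1,0,0], [1,1,0,3,2,2,2,3], [0,0,3,2,1], [0,3,3,3,3,0], [0,0,1,2,2,3,0,0], [3,0,3,2,1,2,1,0], [2,3,0,1,0,3], [1,0,1,0,0,1,2], [2,3,2,1,2,1,2,1,2], [0,1,0,3,0,3], [3,0,1,2,2,3], [3,3,2,1,1,2,1,2], [1,1,0,0,0,3], [3,2,1,2,3,3,2,1], [1,1,2,1,2,1,0,0], [0,0,3,2,1,0,1,0], [2,3,3,3,3,0,1,1], [0,3,3,2,2,1,2,1], [1,1,0,3,0,1,1,0],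 [0,0,3,3,3,2,2,3], [3,0,3,2,3,2,1,2], [2,1,1,0,0,3,0,1], [2,2,2,1,0,0,1,2], [3,0,3,0,3,2], [3,3,2,2,2,1,1], [3,2,3,0,3,0,0,0], [2,2,2,3,0,0,3,0,0], [2,2,3,3,2,3,2], [0,0,3,0,0,0,3], [0,3,0,0,0,1], [0,0,3,0,1,2,1,0], [1,1,2,1,0,1,1,2], [3,3,2,1,1,0,3,3], [2,3,3,0,3,3,0,1], [3,2,2,2,3,2], [3,2,2,3,2,1,0,0], [0,1,0,0,1,1,1], [2,2,1,1,2,1,1,0,0], [0,1,2,2,2,2,2,2], [0,0,0,1,0,0,1], [1,1,1,1,2,2,3,0], [0,0,0,1,1,1,1,0]]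

attribute [local irreducible] chosen

/-- The paths. -/
def pathsDEight : List (List ℕ) := ([pathsDEight0, pathsDEight1, pathsDEight2, pathsDEight3, pathsDEight4, pathsDEight5, pathsDEight6, pathsDEight7, pathsDEight8, pathsDEight9, pathsDEight10, pathsDEight11, pathsDEight12, pathsDEight13, pathsDEight14, pathsDEight15, pathsDEight16, pathsDEight17, pathsDEight18, pathsDEight19, pathsDEight20, pathsDEight21, pathsDEight22, pathsDEight23, pathsDEight24, pathsDEight25, pathsDEight26, pathsDEight27, pathsDEight28, pathsDEight29, pathsDEight30, pathsDEight31, pathsDEight32, pathsDEight33, pathsDEight34, pathsDEight35, pathsDEight36, pathsDEight37, pathsDEight38, pathsDEight39, pathsDEight40,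 pathsDEight41, pathsDEight42, pathsDEight43, pathsDEight44, pathsDEight45, pathsDEight46, pathsDEight47, pathsDEight48, pathsDEight49, pathsDEight50, pathsDEight51, pathsDEight52, pathsDEight53, pathsDEight54, pathsDEight55] : List (List (List ℕ))).flatten

theorem testsOKDEight : testsOK (plain testsDEight) codeDEight = true := by decide +kernel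

theorem certDEight : certAll hsMats (enc (repDEight : GolayPt → ℤ)) (chosen codeDEight) pathsDEight = true ∧
    Nat.beq (chosen codeDEight).length 5600 = true := by decide +kernel

theorem ncardDEight : (pickL testsDEight).ncard = 5600 := (ncard_pickL testsOKDEight).trans (Nat.eq_of_beq_eq_true certDEight.2)

theorem reachDEight {S : Subgroup Co0} (hS : ∀ g ∈ hsElts, g ∈ S) :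
    ∀ y ∈ pickL testsDEight, ∃ g ∈ S, g • repDEight = y :=
  transitive_of_cert isMat_hs hS testsOKDEight (by decide +kernel) certDEight.1

theorem memDEight : repDEight ∈ pickL testsDEight := by
  refine ⟨by decide +kernel, ?_⟩
  simp only [testsDEight, List.forall_mem_cons]
  exact ⟨by decide +kernel, by decide +kernel, fun _ h => absurd h List.not_mem_nil⟩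

end CfsgLib.Spor.Leech.Census32
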