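/-
Orbit certificate DMinusEight.
-/
import Cfsg.Agent.Lib.Spor.Leech.Census.Data.Gens

set_option autoImplicit false
set_option maxRecDepth 20000
set_option maxHeartbeats 0

namespace CfsgLib.Spor.Leech.Census32

open Cfsg

/-- The tests. -/
def testsDMinusEight : List (leechLattice × ℤ) := [(u3L, -16), (y0L, -8)]

/-- Their numbers. -/
def codeDMinusEight : List (ℕ × ℕ) := [(84422585336595084411719813305156662600740575543670887098873042517394523179145638498894440270584955825472164, 4304), (112562520735956409447851611267016991984580410813578825706846029514451041733003352209561054719109825197491224, 4088)]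

/-- The representative. -/
def repDMinusEight : leechLattice :=
  ⟨fun p => [-3, 1, 1, 1, 1, -1, -1, 1, -1, -1, 1, -1, 1, -1, -1, -1, -1, -1, -1, -1, -1, -1, -1, -1].getD (ptIdx p) 0, leechTest_spec (by decide +kernel)⟩

/-- Part of the paths. -/
def pathsDMinusEight0 : List (List ℕ) := [
[], [2,2,2,2], [2,2,3,2], [2,3], [2,2,2,3], [3,3,0,3,3,0], [1,0,3,0], [1,1,0,1], [3,0,1,1,0,1], [0,0,3,3,3,0], [1,1,1,0,0], [2,1,1,1,2,1], [2,2], [3,0,1,1], [1,2], [0,0,1,1,1], [0,0,1,1,1,1], [3,3,2,1], [3,2,2,1,0], [2,3,0,1], [1,2,2,2,2], [3,2], [3,2,1,2,3,2], [0,3,0,0,1], [0,0,3,0,1,1], [0,3,0,1,1], [2,1,1,0,1,2], [2,1,1,1,1,2], [1,1,1,0,1,2], [2,3,3,0,0,1], [0,0,1,1,0,1], [1,0,3,3,3,0], [1,1,2,3,2], [0,1,0,1,1], [1,2,2,1,2], [1,1], [1,1,1,1], [1,2,1,1,2], [0,1,1], [2,1,0,0], [2,1], [0,0,3,3,0], [0,0,1,0,1,1], [0,3,2,2],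 [2,2,3,3,2,1], [0,1,2,2,1,0], [2,1,2,2,2,1], [3,0,3,2,2], [0,1,2,2,3], [2,2,2,1,0,0], [0,0,3,0], [3,2,2,1,2], [1,1,2,2,1], [1,1,1,0,3,0], [1,1,0,1,1], [3,3,3,0], [2,1,0], [1,2,3,2], [1,1,2,1], [2,1,0,1,0], [2,1,1,0], [2,3,3,2,3], [2,3,0,3,3], [1,1,0,1,2], [1,1,0,3,2], [2,2,3,3,3], [2,1,1,2], [0,0,3,2,1,0], [2,1,1,0,0,0], [3,2,3,3,3,0], [2,3,0,0,1], [0,1,1,1,1,1], [0,1,1,0,3,0], [1,0,0,0,1], [0,3,3,3,2,3,0], [1,1,1,2], [2,1,2], [1], [2,2,1,2], [2,3,3], [1,0,0,0,3], [2,2,1,1,0], [2,1,2,3,0], [0,1,2,3,0], [0,3,0,0,3], [0,0,3,0,3], [2,1,2,1,2], [0,3,3,0,0], [2,1,0,1,2], [0,0,1,2], [1,1,2,3], [3,3,3,2,3,0], [0,3,3,3,0], [2,1,2,2,3], [3,0,1,2], [3,3,3,0,0], [3,2,2,3,0,1], [0,0,0,1,1,1], [0,1,2,3], [2,2,1,2,2,1]]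

/-- Part of the paths. -/
def pathsDMinusEight1 : List (List ℕ) := [
[3,3,0,0,0,0], [1,0,3,0,0,0], [1,0,1,1], [0,1], [2,2,3,0,1], [3,3,0,1,1], [2,2,3,0,3], [3,2,2,3], [1,0,0], [1,0,1,2,3], [3,3,0,0,1], [1,0,1,0,0], [2,3,0,0,1,0,0], [2,1,1,2,3,2], [1,1,0,3,0], [0,3,0,0,0,0], [0,1,0,1], [2,2,3,2,3], [2,3,2,3,0], [1,2,2,2,1], [1,1,0,0,0,0], [3,0,1,0,3,0], [0,0,3,2,3,0], [2,2,2,3,3], [2,3,2,2,2], [3,0,3,3,0], [1,0,3,3,0], [2,3,3,3,0,0], [0,0,1,1], [1,2,1,0,1,0], [3,2,2,2], [2,1,1,2,2,1], [2,3,3,3,0], [1,2,2,1,0], [3,2,1,1,1], [0,3,3,0], [2,3,0], [1,1,1,1,1,2], [0,0,3,2,2], [0,1,1,1], [1,2,3,2,2,2], [2,2,1], [3,0,3,0,0], [1,0,0,0,0], [1,2,2], [1,0,3,2,2], [3,0,3,3,2], [3,2,2,1], [3,0,3,0], [2,2,1,0], [1,2,1,2,1], [3,2,3,0,1,1], [2,1,1,2,1], [0,1,1,1,1], [2,2,3], [2,1,2,3,2], [2,2,2,2,1], [1,1,1], [3,3,3,3,2],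 [1,0,1,1,1], [3,2,2,1,1], [2,2,1,1,1], [3,2,1], [2,1,1], [1,2,2,1,1], [1,2,3,0,1], [2,1,2,2,1], [1,1,0,0], [1,1,0,3,3], [1,2,1,0], [2,3,3,2,1], [3,3,0,3,0,3,0], [2,2,2,2,3], [2,3,0,1,1], [2,2,1,1,2], [3,3,3,0,1,2], [1,1,2], [2,1,1,1,2,3], [0,1,0,0], [0,0,3,2], [0,0], [0,1,0], [2,3,3,0,3], [0,0,0,3], [0,3,0,3,0], [2,3,0,3,0], [3,0,1,0,1], [0,3,3,3,0,0], [2,3,3,3], [3,3,2,3], [2,2,3,3], [2,1,0,0,0], [1,0,3,3], [1,0,1,2], [3,3], [3,0,0,0,3,0], [3,2,1,0], [2,1,2,1], [0,3], [0,0,0,0]]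

/-- Part of the paths. -/
def pathsDMinusEight2 : List (List ℕ) := [
[1,1,0], [1,2,2,3], [0,0,0,1,0], [1,2,2,1], [1,2,2,2], [0,0,1,0,1], [2,3,2,1,1,0], [1,0,1,1,0,1], [0,3,0,1,2], [0,1,1,0,3], [2,3,2,3], [3,2,1,1,0], [0,3,3], [2,2,2,3,3,0], [0,1,2], [3,2,2,2,1,0,0], [1,1,0,0,0], [1,1,0,3], [1,0,0,0,1,0], [3,0,0,1,0], [3,0], [1,0,1], [0,0,1], [0,0,3,3,3], [0,0,0,3,0], [3,0,3,3], [1,0,0,0], [2,1,0,1], [3,0,3,0,0,0], [3,0,1,2,3], [2,1,2,2], [2,3,2,1,0,1], [0,3,2,3,0], [0,1,1,2,3], [2,2,2,1], [0,3,2,2,2], [2,3,2], [3,3,0,1], [0,3,0,1], [2,3,3,0,1,1], [2,2,2,1,1,0], [2,3,3,0], [3,2,3,0,3], [3,0,3,0,3,0], [1,2,1,2], [0,3,3,2], [3,0,0,1,0,0], [1,0,3,0,3], [3,3,2,2,2], [2,1,0,3], [0,1,0,0,0,1], [3,2,2,3,2], [2,2,3,0,3,0], [0,1,1,2,1], [2,3,2,2], [0,3,0,3], [0,0,0,0,3,0], [1,1,1,1,2], [0,1,0,1,2], [1,0,0,1], [1,0,3,2],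 [1,1,1,2,1], [1,1,1,0,1,1], [0,1,1,1,2], [3,0,3,0,0,3], [2,3,2,2,3], [2,3,0,0,3,0], [3,0,0,3], [2,2,1,0,0], [1,2,1,2,3,0], [0,1,0,1,0,0], [3,2,3,2,2], [2,1,1,1], [1,2,3,0,3], [0,3,2,3], [1,2,1,1,1], [3,3,0,1,2], [3,0,0,0], [0,3,2,2,1,0], [0,3,3,0,1], [0], [0,1,0,3,0], [0,1,1,0], [3,3,0], [3,3,0,0], [1,1,1,2,3], [2,2,1,1], [3,3,2,3,0], [3,3,3,2], [0,0,1,2,3], [0,3,0,0], [3,0,3,0,0,0,0], [3,0,0,1], [1,2,3], [0,3,2,1,0], [0,0,0,0,1,0], [2,1,0,0,1], [3,0,0,1,2], [3,0,1], [0,3,0]]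

/-- Part of the paths. -/
def pathsDMinusEight3 : List (List ℕ) := [
[2,3,0,3], [3,3,2,2,1,0], [1,2,3,0], [0,1,2,1,2,1], [2,3,3,0,1], [3,2,3,0], [1,0,0,3,3], [1,0], [1,2,3,3,0,1], [3,0,0], [1,1,0,1,0], [3,2,3], [3,2,3,3,3], [0,3,3,3], [3,0,1,1,0], [3], [3,3,3], [3,0,0,3,0], [1,0,3], [0,0,3,0,1], [0,3,2], [2], [2,2,3,3,0], [3,3,2], [0,0,0,1], [0,3,0,0,0], [1,0,3,0,0], [0,1,0,3,0,0], [1,0,1,0], [1,1,2,2], [0,0,3,0,0,0,0], [3,0,3], [3,3,0,1,0,1], [1,0,0,3,0], [0,0,1,0], [0,0,3], [0,0,3,3], [0,1,2,1,1,1], [0,0,1,0,0], [0,1,1,0,1], [3,2,1,0,1], [1,0,3,0,3,0], [0,1,0,0,1], [3,2,2], [2,2,2], [3,3,3,0,1], [0,0,0], [2,2,1,2,1], [1,2,1], [3,0,0,0,0], [3,3,0,3], [1,1,1,1,1]]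

/-- The paths. -/
def pathsDMinusEight : List (List ℕ) := ([pathsDMinusEight0, pathsDMinusEight1, pathsDMinusEight2, pathsDMinusEight3] : List (List (List ℕ))).flatten

theorem testsOKDMinusEight : testsOK (plain testsDMinusEight) codeDMinusEight = true := by decide +kernel

theorem certDMinusEight : certAll hsMats (enc (repDMinusEight : GolayPt → ℤ)) (chosen codeDMinusEight) pathsDMinusEight = true ∧
    Nat.beq (chosen codeDMinusEight).length 352 = true := by decide +kernel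

theorem ncardDMinusEight : (pickL testsDMinusEight).ncard = 352 := (ncard_pickL testsOKDMinusEight).trans (Nat.eq_of_beq_eq_true certDMinusEight.2)

theorem reachDMinusEight {S : Subgroup Co0} (hS : ∀ g ∈ hsElts, g ∈ S) :
    ∀ y ∈ pickL testsDMinusEight, ∃ g ∈ S, g • repDMinusEight = y :=
  transitive_of_cert isMat_hs hS testsOKDMinusEight (by decide +kernel) certDMinusEight.1

theorem memDMinusEight : repDMinusEight ∈ pickL testsDMinusEight := by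
  refine ⟨by decide +kernel, ?_⟩
  simp only [testsDMinusEight, List.forall_mem_cons]
  exact ⟨by decide +kernel, by decide +kernel, fun _ h => absurd h List.not_mem_nil⟩

end CfsgLib.Spor.Leech.Census32
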