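/-
Orbit certificate DSixteen.
-/
import Cfsg.Agent.Lib.Spor.Leech.Census.Data.Gens

set_option autoImplicit false
set_option maxRecDepth 20000
set_option maxHeartbeats 0

namespace CfsgLib.Spor.Leech.Census32

open Cfsg

/-- The tests. -/
def testsDSixteen : List (leechLattice × ℤ) := [(u3L, -16), (y0L, 16)]

/-- Their numbers. -/
def codeDSixteen : List (ℕ × ℕ) := [(84422585336595084411719813305156662600740575543670887098873042517394523179145638498894440270584955825472164, 4304), (112562520735956409447851611267016991984580410813578825706846029514451041733003352209561054719109825197491224, 4112)]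

/-- The representative. -/
def repDSixteen : leechLattice :=
  ⟨fun p => [1, 1, 1, 1, 1, 1, 1, 1, -1, 1, -1, -1, -1, 1, -1, -1, -1, -1, -1, -1, 1, -1, -1, -3].getD (ptIdx p) 0, leechTest_spec (by decide +kernel)⟩

/-- Part of the paths. -/
def pathsDSixteen0 : List (List ℕ) := [
[], [0,0,1,1,1], [3,0,0,3,3,2,3], [1,1,0,3,0,1,2], [1,0,3,0,1,0], [2,2,2,3,3,2,1,0], [1,1,2], [2,3,0,3,3,2,2], [2,3,0,1,0,3], [2,3,0,0,0,1,0], [0,3,2,3,2,2], [0,1,0,1], [2,2,3,2,1,0], [2,1,2,3,0,1], [0,1,1,0,1,0,0], [3,2,2,3,0], [3,2,1,1,1,2], [0,1,2,1], [3,2,3,2,2,3,0], [3,2,1,1,2], [0,0,1,0,0,0], [2,1,1,0,1,0], [0,1,2,1,0], [1,1,1,0], [0,0,0,1,0,1], [1,2,1,0,1,1], [3,0,0,0,0,0], [1,0,0,1,2,3,0], [2,2,1,2,1,1,1], [0,3,3], [1,2,2,2,2,2], [1,0,1,2,2],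 [1,2,3,3,3,0], [2,2,2,2,2,2], [1,1,0,0,3,0], [2,2,1,0,0,0], [0,1,0,0,3,0], [0,1,2,3,0], [2,2,3,0,0,3,0], [2,1,1,0,3], [2,2,2,2,2,1,0,0], [2,2,3,2], [1,1,1,1,2,1], [1,2,1,0], [2,2,2,1,0,3], [2,1,0,0,3,0], [0,3,2,1,2,3], [0,3,0,1,0,1,2], [3,3,3,2,1,0,1], [1,2,2,3,0,1], [1,0,1,0,1,2], [1,1,2,1,1,2], [3,0,0,1,1], [2,3,3,3], [2,1,0,0,3], [3,0,3,3,3,0], [0,3,3,0,1,0,1,1], [2,2,1,0,0,1,0], [2,2], [1,1,1,1,2,2], [3,2,3,3,0,1], [0,0,0,0,1,1,2], [3,3,2,2,1], [2,3,3,3,2], [0,0,0,0], [3,2,3,0,3,3,0], [0,0,0,0,0,1], [2,2,2,3,3], [1,1,1,2,1,0], [0,3,0,1,2,2], [0,0,3,2,1], [3,2,3,3,2,2], [1,0,0,0], [0,1,0,1,1], [3,0,3,2,3,0,0], [0,1,2,2], [3,0,3,3,2,1], [3,2,2,3,0,3], [1,0,1,2,3,0], [2,1,1,0,0,0], [3,2,2,1,0,0,3], [1,2,2,2,3,2], [1,1,2,1,0],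 [1,2,2,3,2], [3,0,3,0,3,0,1], [0,0,3,2,1,1], [2,2,1,0], [0,3,2,1,0,1], [2,1,2,2,1,1,0], [2,2,2,1,0,0], [0,1,2,2,1,1], [1,0,0,1,0,0,0], [3,2,1,0,0,0], [1,2,1,0,1], [2,1,2,3,0], [0,0,3,2,1,2], [2,1,0,0,1,0], [2,3,0,1,2,2], [3,3,3,3,2,3], [2,2,3,2,1]]

/-- Part of the paths. -/
def pathsDSixteen1 : List (List ℕ) := [
[3,3,2,1,1,1], [3,0,0,1,1,1], [0,0,3,2,2,2,1], [1,2,1,2,1,0], [2,1,2,3,3], [0,3,3,0,0,1,0], [0,1,1,0,1,0], [3,0,1,1], [0,3,2,2], [2,3,3,2,3,2], [1,0,0,0,3], [1,2,1,1,2], [3,2,2,2,1,1], [2,3,2,3,3,3], [0,3,0,0,3,2,2], [3,3,2,1,2], [0,0,1,0,0,0,0], [0,1,0,0,0,1], [2,1,2,1,0], [2,3,0,1,0,1], [1,0,0,1,2], [0,0,0,0,0,0], [1,1,2,3,2,1,1], [0,1], [1,0,3,0,0,0], [2,1,0,0,0,1,0], [3,0,3,2,2,2], [2,3,3,3,2,1], [2,2,1,2,3,3,0],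 [1,2,2,1,2,2,1], [3,0,1,1,1], [0,3,0,3,3,0,1], [1,0,3,2,2,1], [2,1,2,1,1], [2,2,3,0,3,2,1], [1,2,2,2,3,3], [0,0,0,3,3,0], [1,0,0,1,1], [1,0,1,0,0,1,1], [0,3,3,0,1], [2,3,2], [1,2,2,3,0,3], [1,0,3,3,0,0], [3,0,3,0,0,1,0], [1,2,1,1,1], [1,1,0,0,0,0], [0,1,1,1,1,0], [2,2,2,3,0,1,2], [1,2,3,3,0,0], [2,3,3,3,0,1], [0,1,1,1,1,2], [3,3,3,0,1], [1,0,1,0,0], [2,1], [0,3,0,3,3,3,0], [3,3,2,3,3,0,0], [3,2,2,3,2], [3,0,0,3,3,0], [0,0,0,3,2,2], [2,1,2,3,3,0], [1,0,1,0,3,2], [3,2], [3,3,2,3,2,2], [1,0,0,1,1,2], [0,0,0,3,2,1], [0,0,1,1,1,0,1], [1,1,0,0,0,1,2], [2,1,2,2,1,1], [2,2,3,3,0,3,0], [2,1,2,3,0,3,2], [2,2,2,2], [3,0,0,3,2,1,2], [2,2,3,0,1,2], [0,0,0,0,3], [2,1,2,1,1,0,1], [2,2,1,0,3,3,0], [1,1,2,3,3,0,0], [2,1,0,1], [2,2,1,1,1], [0,1,2],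 [0,0,0,0,0,3], [0,3,2,3,3], [2,2,2,3,0], [2,3,2,3,0], [0,1,2,3,3,0,0], [1,1,2,3,0,0,0], [1,1,1,1,2], [1,1,2,1], [3,3,3,0], [2,3,0,1], [2,1,0,3,0,0,0], [1,0,3,2], [1,2,1,2,3,3], [1,2,3,3,0,3,0], [3,3,3,2,1], [1,2,3,3], [2,1,0,1,0,1], [3,2,1,1,1], [3,2,2,2], [3,0,3,2,1]]

/-- Part of the paths. -/
def pathsDSixteen2 : List (List ℕ) := [
[0,3,3,2,3,2], [3,0,3,0,0,3], [3,3,0,0], [1,1,0,0,3,2,1], [1,1,2,2], [1,1,0,0,1,1,1], [3,2,2,3,3,3], [2,2,3,3,0,0], [1,1,2,2,1], [2,3,0,0,3,3,0], [1,1,2,3,2], [1,0,0,3,3,3,2], [0,3,3,2,1], [2,1,2,1], [1,1,1], [1,2,2,1,2,1,0], [0,3,0,0], [3,3,2,2,1,1], [2,3,3,0,0,3], [3,2,3,0,3,0,0], [2,1,0,3,3,0], [2,2,1,1,1,2], [2,1,1,1,0,0,0,0], [3,0,1,1,2,2], [3,0,0,1], [0,1,1,1,0,1], [2,3,2,3,0,1], [3,3,3,2,2,2],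 [2,2,1,2,2,1,1], [3,3,2,3,3,0], [0,0,0,1,0,0,1], [0,3,0,0,0,0,0,0], [1,0,0,3,0,0], [3,0,1,0,0,1], [2,3,3,2,1,0,1], [0,3,0,1,0,1], [0,0,0,0,0,1,0], [1,2,3,2,3,3], [1,1,1,1,1,2], [0,3,0,0,0,1], [2,1,1,1,2], [0,1,1], [1,0,3,3,0,3], [1,1,0,1], [0,0,1,0,1,2], [3,2,3,3,0,0], [0,0,1,2,1], [3,0,3,3,2,3,0], [0,3,0,1], [3,0,0,0,0,1], [1,0,1,0,0,1], [2,1,2,3,0,0,1], [3,0,0,0], [1,0,3,3,0], [0,0,1,0,1,1], [3,2,2,1,2,1], [3,3,2,3,2,1], [0,3,3,3,2,2,1], [3,2,1,0,3,0], [0,1,2,2,1,2], [3,2,1], [2,1,2,2], [3,2,1,1], [0,1,2,2,3,3], [2,3,0,3,0,0], [0,3,2,2,2,2], [3,3,0,0,3], [0,3,3,0,1,1,0], [3,3,3,3,0], [3,0,1,2,2,2], [3,2,1,0,1,0], [1,1,0,0,1,1], [1,2,3,3,2,1], [3,0,3,3,2,2], [0,0,3,3,0], [0,0,0,0,0], [3,0,3,0,1,0], [1,2,1,0,3,0], [3,2,2,3,3,0,1],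 [1,0,3,2,1], [1,2,1,0,0], [2,2,1,2,2,2], [2,3,3,2,3,0,0], [2,2,2,1,2,3], [1,1,1,0,3], [1,0,3,0,3,0], [0,1,2,3,0,1], [1,0,1,1,0,1,2], [1,0,1,2,1,0], [3,2,3,2], [2,2,1,1,0,3], [3,2,2,2,2,2], [0,1,1,0,3,2], [2,2,3,0,1,1], [1,1,2,1,1,0], [0,1,0,1,2], [2,3,2,3,3,0], [3,2,2,1,0], [2,2,1,2,2,1], [1,2,3,0,0,0]]

/-- Part of the paths. -/
def pathsDSixteen3 : List (List ℕ) := [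
[1,2,1,1,1,1], [1,1,0,1,0,0,0], [3,3,3,3,2,1], [0,3,0,0,0,0,0], [1,0,1,1,1,0], [0,3,3,3,2,1,2], [2,2,3,3,3], [2,1,2], [2,2,3,3,3,2,2], [2,1,1,0,3,2], [1,2,2,2,2,1,1], [3,3,0,0,1,1], [1,2,2,1,2,3,0,0], [3,3,0,3,3,3,0], [0,3,0,0,0], [3,0,1,2,2], [2,3,2,1,0,0], [0,0,1,1,2], [2,2,1,1,2,1,1], [3,0,0,3,0,3], [1,2,3,0,3,2], [2,2,1,1,0], [3,0,1,1,2,3], [2,3,0,0,1,1], [1,0,0,1,0], [0,1,0,3,3,0], [2,1,0], [3,0,0,1,2,1], [3,3,3], [1,2,1,2,3,0,0], [1,0,1,0,3,0], [3,0,0,1,0,0,0], [2,3,3,0,3,0], [3,3,0,0,0], [1,2,2,1], [0,1,2,3], [3,0,3,0,1], [1,1,1,1,1,0,0], [3,3,0,0,3,0,0], [1,0,0,1,0,1], [3,0,3,0], [1,2,3,2,1,1], [0,3,2,2,3,2], [3,2,1,0,0,1,0], [0,1,1,2,2,2], [3,2,3,3,3], [1,0,0,0,1,2], [2,3], [0,0,3,0,1], [1,2,3,0], [3,2,1,2,3,0,0], [0,1,1,2,2,1],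 [0,3,3,3,0], [3,3,0,1,2,1,1], [0,0,0,1], [2,3,3,0,1], [1,1,0,1,2,3,0], [1,2,3,2], [0,1,0,3,2,2], [0,3,2,3,0,1], [1,1,1,2,3], [1,0,1,0], [1,0,0,0,0,1,0], [0,3,3,2,2,2], [0,0,3,2,1,0,1], [3,3,2,2], [3,3,0,0,0,1], [1,2,3,0,0,1], [0,3,2,3,2,1], [3,2,3,2,1], [2,1,0,1,2], [2,2,3,0,1], [0,3,2,2,1], [1,0,0,1,2,1], [3,3,0,1,0,0], [1,2,3,3,3], [3,0,0,0,0,0,0], [2,1,2,1,2,1,0], [0,0,1,1], [0,0,1,2,2,2], [0,3,2,3,3,0], [1,0,3,3,2], [1,2,2,3,0,1,0], [2,1,1,1,2,1], [1,0,3,0], [2,2,1,2,1,0], [0,1,1,0,0,0], [2,2,1,2,3,0], [0,1,1,1,1], [0,1,0,0,0,0], [2,1,1,2,1,0], [2,2,3,2,2], [0,1,0,3,0,0], [2,3,0,3,0,3,0], [0,1,2,3,3,2], [2,2,1,1,0,1], [3,2,1,1,0,1], [2,2,3], [0,1,0,0,3], [1,0,0,0,0]]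

/-- Part of the paths. -/
def pathsDSixteen4 : List (List ℕ) := [
[2,1,2,3,3,3], [0,1,1,2,2], [1,0,0,0,3,2,2], [2,2,2,1,2,2], [3,3,3,2,1,2], [0,3,3,0,0], [2,1,0,3], [2,1,0,3,3], [3,3,0,3,2,2,1], [2,2,1,2,3], [1,1,0,1,0,3,2], [2,3,2,2,3,0], [0,0,3,3,3,2], [1,1,0,0,1,1,2], [2,1,2,2,1,2], [1,1,1,0,0,0,0], [0,1,1,1,1,1], [1,0,1,2,2,1], [3,3,2,2,2], [1,0,3,0,1,2], [3,3,3,0,0], [2,3,0,1,0], [3,0,3,0,1,0,1], [1,2,2], [1,1,1,2,2,2], [1,1,0,3,3,0,0], [3,0,0,0,1,2], [1,0,1,1,1,0,1], [0,1,2,3,3,3,0], [0,0,1,2], [2,2,2,2,1,2], [3,0,1,0,1,0,0,0], [0,0,3], [0,0,3,2,3,2], [3,0,1,2], [2,2,2,3,2], [0,0,3,0,1,0,1], [1,0,3,0,1], [3,0,3], [0,0,3,2,3,3,0], [2,3,0,0,1], [2,3,0,1,1,0], [1,0,0,1,1,0], [1,2,1,0,1,2], [3,0,0,3,2,1], [1,1,1,2], [0,1,2,3,2],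 [2,3,3,0,0], [1,2,3,3,3,2], [1,2,2,1,1], [1,1,2,2,1,0,1], [2,3,0], [3,3,3,2,3,0,0], [0,1,0,1,2,3,0], [1,0,0,0,0,0,0], [2,2,1,0,0,3], [3,0,0,3,2,2], [2,3,0,1,1,2,3], [2,1,0,3,3,0,1], [1,2,1,0,0,3], [1,2,3,2,3], [3,3,2,1,1,1,2], [0,3,0,1,2,2,2], [0,1,1,2,1,0], [3,3,2,1], [0,3,3,0], [1,2,2,2], [1,2,1,0,3,3,0], [2,2,2,1,1,1,0], [3,2,2,3], [2,1,2,3,2,1], [3,3,0,1,1], [2,3,0,3,2,3,3], [0,1,1,1,2,1], [0,1,1,1,2], [1,1,0,1,0,1,1], [3,0,3,0,0,1], [1,1,1,1,2,3], [3,2,1,0,1], [0,3,3,2,1,1,1], [1,1,2,2,3,2,1], [2,3,3,0,0,1], [2,3,2,2,3,0,0], [3,3,2,3,0,0,0], [1,2,3,2,1,2], [1,1,2,2,3,0,3], [2,1,0,3,0], [3,2,2,1], [1,0,3,2,2], [0,3,0,1,0,0,1], [0,0,3,0], [1,1,2,1,1,1], [1,2,3,0,0], [2,1,0,1,0,3], [2,2,2,3,2,1,0], [1,1,2,3,2,2], [0,3,0,1,1,1],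 [2,1,1,2], [0,3,0,0,3,0,0], [2]]

/-- Part of the paths. -/
def pathsDSixteen5 : List (List ℕ) := [
[1,2,2,2,2], [3,0,0,1,0,1], [2,1,1,1,0], [1,2,2,2,1], [3,2,2], [3,3,3,2,3,0], [2,2,2,3,3,3,0], [0,0,1,0,3], [1,1,0,3,2,2,2], [2,2,3,2,1,2], [2,2,2,3,0,0,0], [0,0,3,3,2,3], [2,3,2,2,1,1,1], [3,2,1,2,3,0], [3,2,1,2,2,1], [0,3,3,2,3,0], [2,2,2,1,2,1,0], [3,0,3,3,2,3], [0,0,0,1,0,0,0], [1,0,1], [3,0,1,0,3], [0,3,0,3,0,0,0], [2,1,1,1,0,1], [3,2,3,0,3,0], [1,1,0,0,0,3,0], [0,3,2,1], [0,0,3,2,3,0], [3,2,3,2,2], [0,0,3,3,2,2], [3,0,3,3,0], [0,3,2,2,1,1], [2,2,1,1], [0,3,3,0,0,1], [3,3,2,1,0,1], [1,2,2,1,0], [1,0,1,0,1,1], [3,0,1,0,1,1], [0,3,2,1,1,1], [2,1,2,2,3,0], [1,0,3,0,0,3], [3,0,1,0,1,2], [1], [0,0,0,1,1,1], [1,2,1,1,1,2], [0,0,1,2,2,2,3],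 [1,0,1,1,2,1,1], [3,0,3,2,2,2,1], [0,3,2,1,1], [0,3,2,1,2], [1,2,1,2,1], [3,3,0,1], [2,2,1,1,0,1,0], [0,0,1,0,0,1], [1,0,0,1,1,1,2], [0,3,0,0,3], [1,1,2,1,1,1,2], [1,0,3,3,2,1], [2,3,0,3], [1,1], [3,0,1,2,1,1], [3,0,3,0,0], [3,2,2,2,3], [0,1,0,3,3,2,1], [2,3,3,3,0], [1,0,0,0,1], [2,1,2,1,0,1], [1,2,2,3,3,3,0], [3,0,3,3,0,1], [3,3,2,3,0,0], [3,2,2,2,3,3], [2,2,2,2,3,3], [0,1,2,1,2,2], [1,2,3,3,2,2], [3,0,0,3,2,2,1], [1,0,3,0,0], [2,3,3,2,2], [1,1,1,1,0], [0,0,3,3,0,1], [2,2,1,2], [1,1,2,1,0,1], [0,0,3,0,0], [1,2,2,3,2,1,0], [3,0,3,0,1,2], [2,3,3,2,1], [2,2,1,1,2,1,0], [3,2,3,0,1,1], [0,0,3,0,3,3], [1,2,1,1,1,1,0], [1,1,0,1,0,0], [0,1,0,0,1,2], [3,2,3,0,0,0], [0,0,0,0,0,0,0], [3,3,3,0,1,1,0], [3,0,0,0,0,1,0], [2,2,3,3], [0,3,0,3,2,1],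 [1,0,0,0,1,0,1], [1,2,1], [0,1,2,3,0,3], [3,3,2,2,2,1]]

/-- Part of the paths. -/
def pathsDSixteen6 : List (List ℕ) := [
[0,1,0,0,1,1], [2,3,2,2,2,2], [0,3,0,1,0,0], [0,3,2,3,0,0], [3,0,3,0,3,3,0,1], [0,3,2,2,2,1], [1,1,1,1], [0,3,2,2,2], [1,0,1,1], [1,2,2,3,3,0,0], [0,0,0,0,1,2], [2,3,3,2], [3,0,3,2,3,2], [3,3,0,3,0,3,0], [0,1,1,1], [3,0,3,0,3,3], [2,3,0,3,2], [1,1,0,3], [3,2,3,0,0,1,0], [0,1,1,1,0], [2,3,3,2,1,0], [3,3,0,3,0], [3,2,3,3], [1,1,2,2,1,2], [1,0,3,2,1,0,0,0], [1,1,1,0,1], [0,1,2,1,1], [2,2,3,0], [0,3,0,3,0], [2,2,2,2,1,1], [3,0,0,1,0], [1,0,1,0,0,0], [3,3,2,1,0,0], [0,1,2,3,0,3,2], [3,2,2,1,1], [0,1,0,3], [1,2,2,1,2,1], [1,2,1,0,3,0,0], [3,3,0,0,1], [1,1,2,3,2,3], [2,2,1,0,3], [2,3,2,3,0,3,0], [0,1,1,1,0,1,1],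 [0,3,2,2,2,2,2], [3,2,3], [0,3,2,3,2], [2,1,0,0], [0,0,3,2,1,0], [1,2,2,1,2], [3,0,1,0,1], [0,3,2,1,0,0,0], [1,0,1,1,2,1,0], [3,2,1,0,0,1], [1,1,2,1,2,1,0], [3,0,3,0,3,0], [3,0,0,3,3], [0,3,3,2,2], [0,0,3,3,0,0], [3,3,2,2,2,2,2], [3,3,2,3,2], [0,1,0,1,0], [1,1,0,1,1], [1,2,2,1,1,0], [1,1,1,2,1], [3,3,3,2,2], [2,1,0,1,1,0], [0,3,3,3,3], [2,1,1,0], [2,2,2,2,1,0,0], [1,1,2,2,2], [2,3,0,0], [2,1,2,1,2,2,1], [2,2,3,2,2,3], [0,1,2,3,0,0], [2,2,3,0,0,0], [3,2,2,3,0,0], [1,2,2,1,0,1], [0,0,3,2,3,3], [1,0,0,3,3], [3,0], [1,2,1,0,0,1], [1,2,3,2,1], [2,2,3,0,3], [2,3,2,3], [3,3], [2,1,0,0,1,2], [1,1,1,0,1,1], [2,2,2,3], [3,0,3,2,2], [0,0,3,2], [0,3,0,1,2], [0,0,0,3], [2,1,2,3,3,2], [2,3,3,0,0,1,1], [2,2,3,0,1,0], [1,0,0,0,0,1], [2,3,3,2,3,2,1],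 [3,2,1,0,3], [3,3,3,2,2,1], [0,1,0,0,1,0,1]]

/-- Part of the paths. -/
def pathsDSixteen7 : List (List ℕ) := [
[1,2,2,3,2,1], [1,2,2,1,2,3], [0,0,0,3,0], [3,0,1], [2,2,2,1], [3,2,2,1,1,1], [2,1,0,3,2,1,0], [2,3,2,1,2], [1,0,3,3,2,2], [2,1,1,0,1,2], [1,2,1,0,1,0,0], [0,0], [1,0,3,3], [3,0,1,0,0,3], [3,0,1,0,3,2], [3,2,1,1,0,0,0], [1,2,3,0,3], [1,2,1,0,0,1,0], [1,1,1,0,1,2], [0,3,2,1,0,0], [3,3,2,1,1,0], [0,0,0,1,0], [3,3,3,2,1,0,0], [1,1,0,3,2,1,0], [1,0,1,2,3], [2,1,0,1,1], [2,3,3,3,3], [3,0,1,0], [2,1,2,1,1,2], [0,0,3,2,2], [3,0,3,2,2,1], [2,2,1,2,1,1], [2,2,3,3,2,1,0], [0,0,0,3,2], [1,2,3,3,2], [1,1,0,3,2], [1,1,0,1,2,2,1], [1,0,1,1,0,1,0], [0,1,1,0,3], [3,0,3,2,1,0], [3,3,2,1,0,0,0], [2,3,2,2,3], [1,2,3,2,2,2], [3,2,3,0],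 [1,1,1,0,0], [2,3,3,0,1,2], [1,0,0,0,1,0], [3,0,3,2,3,3], [2,2,2,1,2], [0,1,0], [1,2,1,2,1,1,2], [2,2,3,0,0,1], [2,2,2,3,0,1], [3,2,3,3,2,3,2], [2,3,3,3,0,1,1,0], [3,0,0,3,0], [2,3,3,0,1,1], [2,3,0,3,0], [3,2,2,2,2,1], [3,2,3,0,1], [2,3,0,0,0,0,1], [0,3,0,1,0], [2,3,3,3,2,2], [3,3,3,3], [1,2,3,0,1], [1,0,0,3,0], [2,1,1,2,1,1], [1,1,0], [0,0,1,0,0,3,0], [1,1,1,2,1,1], [1,0,1,1,0], [2,3,2,1,0], [2,3,3,0], [2,2,1,0,0,1], [1,2,1,2,2,1], [1,1,0,1,2], [0,1,1,1,0,0], [2,1,1,1,2,2], [3,3,3,0,0,0], [1,0,1,1,1,0,0], [0,0,1,1,1,0,0], [2,1,0,1,1,0,1,0], [2,3,0,0,0,1], [3,3,0,3,2,1,0], [1,1,0,0,0,0,1], [3,0,1,1,2,1,1], [2,1,2,2,2,2], [1,2,1,2,2], [3,2,1,2], [0,3,2,3,0], [3,2,1,0], [0,1,1,0,1,2], [1,0,3,0,0,1,0], [2,3,0,0,0], [0,1,0,1,0,0,0],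 [3,0,1,2,3], [3,2,3,3,2], [2,2,3,3,3,0], [0,3,2,1,2,1,1], [3,0,1,1,0]]

/-- Part of the paths. -/
def pathsDSixteen8 : List (List ℕ) := [
[2,1,2,2,1,0], [0,0,1,1,1,2], [0,3,0,0,1,2,1], [0,3,0,3,0,1], [1,2], [1,1,2,3,3,2], [3,2,2,2,1], [2,1,2,2,2], [1,0,3,3,0,3,0], [1,1,0,1,1,2], [1,0,3,2,3,3,0], [3,3,2,3,0], [3,2,3,2,1,2], [1,1,0,3,0,1], [0,0,1,1,2,2,2], [0,1,0,1,1,2], [2,1,1,0,1,1], [3,3,3,0,1,0,0], [1,0,3,2,3,0,0], [0,1,2,2,1], [2,2,2,2,2,1], [0,3,0], [3,0,0,0,1], [2,1,1,1,1,1], [3,3,0,1,1,0], [2,3,2,1,2,3,0], [3,3,2], [2,2,1,2,2,3,0], [0,0,1,1,0], [1,2,2,3,3], [2,3,0,1,0,1,1], [3,2,2,2,2], [1,0], [1,0,0,1,0,3], [3,2,3,0,0], [2,2,1,0,1], [2,2,2,3,0,0,1], [0,1,2,3,0,0,0], [0,1,0,3,2], [1,1,2,3,3,3], [1,2,3], [1,1,2,3,0,3], [0,1,2,2,2],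 [0,0,1,1,1,1,0], [2,2,1,0,0], [2,1,1,0,1], [3,2,2,3,0,0,0], [0,3,2,1,0], [0,1,0,0,0], [1,0,1,2], [0,0,1,2,3,0], [2,1,0,3,2,1], [0,0,3,2,3,2,2], [0,3,2,1,0,3], [2,2,1,0,1,1], [2,2,2,2,3,2], [1,1,2,3], [3,0,3,2], [0,0,0,0,1,0], [2,2,2,1,1], [3,3,0,1,2], [3,0,0,3], [0,3,0,1,0,3], [0,3], [0,1,2,2,2,3], [0,1,2,3,2,3], [1,1,0,0,3,0,0], [2,3,0,1,2], [2,2,2,3,3,0], [3,2,1,0,3,3], [0,0,1,1,1,0], [2,3,3,3,0,0], [0,0,1,2,3,0,0], [2,2,2,1,1,0,1], [0,0,1,0,0,1,2], [1,0,0,0,3,0], [2,3,0,3,3,0], [0,1,0,1,0,3], [0,3,0,0,1], [2,1,1], [1,1,1,1,0,0], [3,3,2,1,2,3,0,0], [2,1,2,1,1,1], [0,1,2,1,0,0], [0,0,1,0,1], [2,2,1,0,3,3], [0,3,3,3], [0,0,1,0,1,0], [0,1,1,0,0,3,0], [2,2,3,3,0,1,2], [2,1,0,1,0,0], [2,1,2,2,1], [3], [2,1,0,0,1,1,0], [1,2,2,2,3],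 [2,2,1,2,1], [2,1,0,3,0,0], [2,2,2,2,2], [0,0,0,3,3], [3,0,0,3,0,1]]

/-- Part of the paths. -/
def pathsDSixteen9 : List (List ℕ) := [
[3,0,0,1,1,2], [1,0,0,1], [1,0,3,0,3,2,1], [0,0,3,0,3,0], [2,1,2,3], [1,0,0,3], [3,0,1,2,3,3,0], [2,3,2,1], [0,1,1,2,3,3,2], [0,0,3,2,2,1], [0,1,0,0,1,0], [3,0,1,0,0], [0,0,0,3,2,1,0], [2,3,3,0,0,0], [1,0,0], [3,0,0,0,1,0], [3,0,1,2,1,0], [2,3,2,1,1], [2,2,2,2,1], [2,1,0,3,2,2,1], [1,1,1,1,1], [2,2,2,3,0,1,1], [2,3,2,3,3], [3,0,3,0,1,0,0], [2,1,2,1,0,0], [0,1,0,0,1], [1,1,2,2,2,1], [1,2,1,1], [1,0,1,0,3], [2,1,0,0,0,3,0], [0,1,1,2,3], [0,3,0,3,2], [2,3,0,3,2,1], [1,0,3,3,0,1], [0,3,0,3], [1,2,2,2,2,3], [0,3,3,2], [3,3,3,2], [3,0,0,1,1,0], [3,3,0,3], [2,2,3,0,3,0], [2,3,0,0,3,0], [2,1,1,1,1], [2,2,1],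 [2,3,0,1,1], [0,1,1,2], [2,1,2,1,0,3], [1,1,2,1,1], [2,3,2,3,0,1,1], [2,2,3,3,0,1], [3,3,0], [2,3,0,3,0,1], [3,0,3,0,0,0], [3,2,1,0,0], [0,0,1,0], [0,1,2,1,0,1,1], [3,0,0,3,2,1,0], [2,1,0,0,0], [1,1,1,1,2,2,1], [2,1,2,1,2,2], [0,3,2,1,1,0], [0,3,2,2,3,0,0], [3,2,1,1,0], [0,1,0,0,0,1,0], [2,2,2,3,0,0], [1,1,1,0,1,1,2], [2,1,0,0,1], [2,3,0,3,2,1,0], [1,0,3,2,1,0], [0,1,2,3,3,0], [0,0,0,1,2], [0,0,1,0,3,2], [3,2,1,0,0,3,0], [2,3,2,3,0,0], [1,0,3,2,1,2], [1,1,0,0,0], [2,1,1,1,1,0], [0,1,1,2,1,1], [1,2,1,0,3], [2,3,2,2,2,1], [0,1,0,1,0,0,1], [0,0,3,0,1,0,0], [3,3,3,3,0,0], [0,3,2,2,2,2,1], [2,3,0,0,1,0], [1,0,1,0,1,2,3,0], [0,3,0,0,3,0], [0,0,0,1,1,2], [1,2,2,1,2,2], [1,2,3,3,0], [0,0,1,0,0,1,0], [0,1,0,0], [3,0,0,1,1,1,0], [1,2,1,1,0,1],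 [0,3,0,3,3], [2,1,0,1,0], [1,1,1,2,2], [0,3,3,0,3,0], [1,0,1,1,2], [3,0,1,1,0,1,0]]

/-- Part of the paths. -/
def pathsDSixteen10 : List (List ℕ) := [
[2,2,1,2,3,0,0], [2,2,2,2,3,0,0], [0,3,0,3,2,1,0], [3,3,2,3], [1,1,1,1,0,1,2], [3,0,3,3], [1,2,3,2,2], [0,3,3,2,3,0,0,0], [2,2,3,3,0], [3,2,1,0,0,0,1,0], [0,0,0,1,1,1,0], [0,1,0,1,0,0], [3,2,2,3,3,0], [1,2,3,3,2,3,0], [2,2,1,2,2,3,3], [0,0,3,3], [1,1,0,0], [2,2,2,2,3,3,0], [2,3,2,2], [2,2,1,2,2], [1,0,3,2,3,3], [2,3,2,1,0,3], [1,1,1,2,2,1], [3,3,2,2,3,3,0], [2,3,0,3,0,1,2], [1,2,1,1,0,1,1], [2,3,2,2,2], [2,3,3,2,3,0], [1,1,0,1,0], [3,2,3,3,0], [0,1,0,3,0], [3,0,1,2,3,0], [1,2,1,1,0], [3,0,3,2,3,2,2], [0,0,0,0,1], [0,3,0,1,1,0], [2,2,1,1,1,0], [0,3,2], [3,0,1,1,1,1,0], [2,2,2],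 [3,2,1,2,3], [1,2,2,2,1,1], [0,3,3,2,3], [0,1,0,1,1,0], [3,2,1,0,1,2], [3,3,2,1,0], [0,0,0], [0,3,0,0,1,0], [1,0,3,2,2,2], [3,2,1,2,1,1], [2,1,1,1], [3,0,0,0,3,3], [1,0,3,0,3,2], [0,0,1], [1,0,1,1,2,2,1], [1,1,0,0,3,3], [2,3,3,2,2,1], [0], [1,2,1,2,3,3,0], [0,1,2,2,1,2,1], [0,1,2,2,3,0,1,0], [1,0,3], [2,1,0,3,3,2,1], [1,0,1,2,3,2,3], [0,3,3,2,2,1], [1,1,0,0,1,1,0], [2,1,2,3,0,0], [0,3,2,2,3,3,0], [0,1,2,3,2,2], [2,2,3,0,0], [1,1,0,1,0,0,1], [1,0,1,1,1,1,0], [3,0,0,0,1,1,1,0], [2,1,2,2,3,3], [0,1,1,0], [3,3,3,2,3], [3,3,0,0,1,0], [3,0,0], [3,0,0,3,0,0], [2,3,3], [2,2,3,2,3], [0,0,0,3,0,0], [2,3,2,2,2,2,2], [1,0,0,3,2,1], [3,2,1,2,2,3,0], [3,3,0,1,0,1,1], [1,0,0,1,1,1], [0,0,3,0,3], [2,2,2,2,3], [0,3,3,0,3], [1,2,2,3,0], [2,3,0,0,0,0,0],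 [0,0,3,3,2], [3,3,3,3,2], [1,1,0,3,0,0,0], [0,3,3,3,2], [1,1,0,0,1,0,0,0], [1,0,1,0,1], [1,1,2,1,0,0], [0,3,0,3,0,0]]

/-- The paths. -/
def pathsDSixteen : List (List ℕ) := ([pathsDSixteen0, pathsDSixteen1, pathsDSixteen2, pathsDSixteen3, pathsDSixteen4, pathsDSixteen5, pathsDSixteen6, pathsDSixteen7, pathsDSixteen8, pathsDSixteen9, pathsDSixteen10] : List (List (List ℕ))).flatten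

theorem testsOKDSixteen : testsOK (plain testsDSixteen) codeDSixteen = true := by decide +kernel

theorem certDSixteen : certAll hsMats (enc (repDSixteen : GolayPt → ℤ)) (chosen codeDSixteen) pathsDSixteen = true ∧
    Nat.beq (chosen codeDSixteen).length 1100 = true := by decide +kernel

theorem ncardDSixteen : (pickL testsDSixteen).ncard = 1100 := (ncard_pickL testsOKDSixteen).trans (Nat.eq_of_beq_eq_true certDSixteen.2)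

theorem reachDSixteen {S : Subgroup Co0} (hS : ∀ g ∈ hsElts, g ∈ S) :
    ∀ y ∈ pickL testsDSixteen, ∃ g ∈ S, g • repDSixteen = y :=
  transitive_of_cert isMat_hs hS testsOKDSixteen (by decide +kernel) certDSixteen.1

theorem memDSixteen : repDSixteen ∈ pickL testsDSixteen := by
  refine ⟨by decide +kernel, ?_⟩
  simp only [testsDSixteen, List.forall_mem_cons]
  exact ⟨by decide +kernel, by decide +kernel, fun _ h => absurd h List.not_mem_nil⟩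

end CfsgLib.Spor.Leech.Census32
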