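/-
Orbit certificate DZero.
-/
import Cfsg.Agent.Lib.Spor.Leech.Census.Data.Gens

set_option autoImplicit false
set_option maxRecDepth 20000
set_option maxHeartbeats 0

namespace CfsgLib.Spor.Leech.Census32

open Cfsg

/-- The tests. -/
def testsDZero : List (leechLattice × ℤ) := [(u3L, -16), (y0L, 0)]

/-- Their numbers. -/
def codeDZero : List (ℕ × ℕ) := [(84422585336595084411719813305156662600740575543670887098873042517394523179145638498894440270584955825472164, 4304), (112562520735956409447851611267016991984580410813578825706846029514451041733003352209561054719109825197491224, 4096)]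

/-- The representative. -/
def repDZero : leechLattice :=
  ⟨fun p => [-1, -3, 1, 1, 1, 1, -1, -1, 1, -1, -1, 1, -1, 1, -1, -1, -1, -1, -1, -1, -1, -1, -1, -1].getD (ptIdx p) 0, leechTest_spec (by decide +kernel)⟩

/-- Part of the paths. -/
def pathsDZero0 : List (List ℕ) := [
[], [0,1,2,3,2,2,3], [1,0,3,3], [0,0,3,0,1,1,1], [2,2,3,0,1,1,2], [3,3,3,0,0,0,3], [1,0,3,3,0,1,0,1], [0,1,1,0,3,2,3], [1,1,1,0,0,3,0,3], [2,3,3,0,3,3,0,0], [1,2,1,0,3,0,0], [2,1], [1,1,2,1,1,0,1,1], [2,2,1,0,1,0], [2,1,2,1,1,0,1,1], [1,0,1,2,2,2,1], [1,0,1,1,2,2,3], [2,2,2,1,2,3,2], [1,1,2,2,2,2,1,0], [0,3,3,0,0,0], [2,3,2,3,0], [0,0,1,1,2,2], [1,2,1,1,2,2], [1,0,0,3,2,3,0], [3,0,1,0,0,0,1], [1,0,3,3,0,3,0], [0,1,2,1,2,3,0,0],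 [2,3,3,2,3,2,1], [2,1,2,3,2,3,3,2], [1,2,3,0,3,0,0], [2,3,2,2,1,0], [2,3,3,3,2], [3,0,3,0,1,1,1], [1,0,1,1,0,1,0], [0,0,3,2,1], [3,2], [1,0,3,2,3], [3,3,2,2,1,2,3,0], [2,3,2,2,3], [3,3,3,2,3,3,3], [3,3,3,0,0,3,3], [2,1,0,0,0,0,0,1], [2,1,2,2,2,2,1,0], [3,0,1,2,2,3,0], [1,1,2,1,1], [1,0,1,2,2,3], [1,0,0,1,0,0,0,1], [1,0,1,2,3,3], [2,2,1,2,1,1], [3,2,2,2,1,1,1,2], [3,0,1,1,2,3,0], [2,2,1,0,1,1,0], [1,0,3,0,3,0,0,0], [2,3,3,2,1,2,1,1], [1,2,1,2,3,0,3,0], [0,1,2,3,3,2,2,3], [3,2,3,3,2,1], [1,0,1,0,3,3,3], [0,3,3,3,3,2,3], [3,2,2,1,1,2], [0,3,3,2,3,0], [3,3,2,1,0,3,3,0], [2,1,1,0,1,0,0], [1,1,1,1,0,0,3], [2,1,0,0], [1,0,3,2,1,1], [1,1,2], [1,0,0,3,0], [3,3,3,0,1,0], [0,1,2,2,2,1,0], [1,1,1,0,1],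 [0,1,2,1,0,0,3,3,0], [3,2,1,0,1], [3,0,3,0,0], [2,1,2,2,2,1,0,1], [2,2,3,2], [3,2,3,3,0,1,1,1,0], [1,0,0,0,3,3,2], [2,3,0,3,3,0], [1,2,1,1,1,0,3], [1,0,1,1,1,0,1], [3,2,2,2,3,3,3,0], [3,3,3,0,0,1], [2,2,2,1,2,3,2,2], [1,0,0,1,0,3,0,0], [1,1,2,2,2,1,0], [0,0,1,1,2,1,1], [0,1,2,1,0], [3,3,2,3,2,2,3,0], [3,3,2,3,3,3,0], [0,3,2,3,3], [1,0,1,2,3,0], [3,0,1,1], [0,0,3,3,3,0,1,0], [0,1,2,1,2,1,0], [1,0,0,3,3,3,2], [1,1,2,2,3,0], [1,1,0,0,3,2,1,2], [2,2,3,2,2,3,0,1], [2,3,3,3]]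

/-- Part of the paths. -/
def pathsDZero1 : List (List ℕ) := [
[0,1,2,3,3,0,1], [1,2,2,2,3,0,1,0,0], [1,1,2,1,0,3,2], [1,1,0,1,1], [3,2,2,3,2,1,0,1], [2,2,1,2,3,0,0,1], [0,1,1,0,3,2,3,0], [3,2,2,3,3], [3,2,1,0,0,0,0], [2,2,3,0,0,0,3,2], [1,0,3,0,0,3,3,2], [2,1,0,1], [3,0,3,3,2,1], [3,3,3,2,1,1], [1,2,2,3], [0,1,0,0,0,1], [3,0,3,0,0,0,1], [1,1,2,3,0,1,1], [0,1,0,0,3,0,3], [3,2,1,0,3,2,1], [3,3,2,3,3,2,2], [2,1,0,0,0,1,0], [0,0,0,3,3,0,3,3,0], [1,2,1,1,1,2,2,3,0], [2,2,3,2,2,3,3,0], [0,1,1,2,2,3,2], [2,3,3,3,0,1,1], [0,1,0,3,2,3,0], [2,3,3,3,0,0,1], [3,3,3,0,0,3,3,2,1], [2,1,1,1,1,0,0], [2,1,2,1,1,1,0,1], [2,1,0,1,0,0,3], [0,3,3,2,1], [2,3,3,3,3,2,3,0,1], [0,1,1,2,1,2], [3,3,0,0,1,1,0], [3,3,3,0,1,1,0],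 [3,0,0,3,3,0], [1,2,2,2,1], [3,0,3,3,2,2,1,1], [0,1,1,0,0,3], [2,2,3,0,1,0,0,0], [1,1,0,1,2,2,1], [3,2,3,2,1,0,0,0], [1,2,1,2,1,2,1], [3,3,0,0,3,3,3], [1,1,2,1,0,0,3,0], [2,1,2,2,3,0,1,0,0], [3,0,3,0,0,0], [2,1,0,1,2,2,2], [1,1,1,2,2,2,3], [2,3,3], [3,2,1,1,2,3,2,1], [2,3,2,1,0,1], [1,0,0,0,0], [3,0,0,3,3,2], [0,1,2,1,0,1], [1,2,2,2,1,1,2,2], [1,2,3,2,2,3,3], [3,0,1,1,2,1], [2,1,2,2,2,3,3,0], [0,1,1,1,2,1,2,2], [1,1,1,0,3,0], [1,2,3,3,0,0,3], [2,2,1,2,3,3,3], [3,2,3,3,0,0,0,1], [2,1,0,3,3,0,3,0], [1,0,0,3,2,1,0], [2,2,2,3,0,0,0], [1,1,2,2,3,3,2], [2,1,1,0,1,1,0], [3,0,0,3,0,1], [3,0,3,3,0,0,3,0], [1,1,2,1,0,1,0], [3,2,1,1,1,2,1], [3,3,2,3,0,3,3], [2,2,1,2,2,3,0,1], [3,0,3,3,2,3,3,0], [0,3,3,0,1,1,0,0],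 [1,1,2,2,1,0,0], [2,3,0,1,1,1,1,0], [1,1,2,2,3], [2,3,2,2,3,3,3,2], [2,2,1,2,2,1,2,1,0], [2,1,0,1,2,2,1,0,0], [0,3,0,3,2,3], [3,3,3,3,2,3,3,2], [1,0,0,3,3], [0,3,2,3,0], [1,2,2,3,2], [1,1,1,0,1,1,2,1], [0,0,3,2,3,0], [1,2,3,3,2,1,2,2], [2,3,0,3,0,0], [1,2,3,2], [0,3,0,1,0,0,0,0], [2,3,3,0,1,2], [1,1,0,0,3,3,2,1], [1,2,2,3,2,1,2,3]]

/-- Part of the paths. -/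
def pathsDZero2 : List (List ℕ) := [
[2,2,3,0], [3,3,3,3,2,3,0,3], [3,2,2,2,2,1,1,1], [0,0,1,0,1,2], [1,0,1,0,3,0,1,2], [3,2,2,3,3,0,1], [2,1,2,1,0,3], [1,2,3,0,1,0,3,0], [3,0,1,1,2,3,2], [1,2,1,2,3,0,0,1], [3,0,1,0,1,0,3,0], [3,0,1,1,1], [1,2,1,0,1,0,0,1], [1,0,1,0,0], [3,0,1,0,1,2,1,2], [2,3,2,3,0,0,0], [1,1,0,0], [2,3,0,1,1,1,2,1], [0,0,0,3,3,0,0,0], [1,0,3,3,2,2,3,0], [0,0,1,0,3,2], [0,1,2,3,3,2], [0,1,1,1,0,1,0], [0,0,1,1,1,1,0], [1,0,3,2,3,3,2,1], [1,0,1,2,3,3,0], [0,1,1,0,0,1,0], [2,2,3,3,0,0,3], [2,1,0,3,2,3,0], [1,1,1,2,1,1,0,1], [0,3,2,3,3,2,3], [2,2,2,2,2,3,3,0], [1,2,1,1,2,3,0,1,0], [0,1,2,1,0,0,1], [2,1,2,2,1], [0,1,0,3,3,2,2], [0,1,2,3,0,0,0,3], [0,1,1,0,1,0,1], [1,1,0,1,0,1,2],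 [1,1,0,3,0,1,2], [3,2,2,1,1,1,0,0], [2,2,2,2,2], [0,3,0,1,0,3,3], [1,2,1,2,3,0,3], [1,2,2,1,2,3,0], [2,3,3,0,3,0], [0,3,0], [0,0,0,3,2,3], [3,0,1,1,2,1,0], [0,3,2,3,3,0], [0,0,1,0,1,1,1], [2,2,2,2,2,2,1], [2,1,1,2,1,2], [0,0,0,1,2,1,2,3], [2,1,1,0,3,0], [1,1,1,2,3,3,2], [2,3,2,2,3,3], [3,2,3,0,3,0,3], [3,0,1,2,2,2,3], [1,1,0,1,0,0,3], [2,3,0,1,2,1,2,1], [2,1,1,0,0,1,0], [3,2,3,0,0,1], [2,3,3,0,0,3,3], [0,1,1,2,1,1], [2,1,2,3,2,1,2], [3,0,1,1,0,1,0,1], [2,2,1,0,0,1,0,1], [3,0,3,3,0,3,2,3], [1,1,0,1,1,1,0,1], [2,1,2,1,1,1,0,1,0], [2,2,3,2,1,1,0], [3,0,1,1,0,1], [1,1,1,1,1,2,1], [1,1,2,1,0,3], [0,0,3,0,0,0,0,1], [1,0,3,3,3,3,2], [0,3,3,0,3,3], [3,2,2,3,0,1], [1,1,2,1,0,1,1,0,0], [0,0,3,2,3,3,3],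 [0,0,1,2], [0,1,0,3,0,0], [2,3,2,2,3,3,3,0], [2,3,2,2,3,0,1,1], [1,2,3,0], [1,0,3,3,2,3,3], [0,1,2,2,2,3], [2,3,2,1,0,3,2,1], [0,1,0,1,0,0,3,0], [2,1,1,0,1,0,1,1], [0,0,0,3,2,1,0,1,0], [3,3,0,1,0,1], [0,1,0,1,1,2], [2,1,2,2,2,2,1], [1,0,1,1,1,0,3,0], [2,3,0,0,3,3,2], [1,2,3,0,3,2,2,1,1], [3,2,2,1,0,0,1,0], [1,1,1,2,3,3,0,1]]

/-- Part of the paths. -/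
def pathsDZero3 : List (List ℕ) := [
[0,0,0,3,2,3,0,0], [1,2,1,1,2,1,1,0], [2,2,2,2,1], [0,3,2,2,2,1], [3,0,1,1,1,0,1], [3,3,0,1,2,3], [2,1,0,1,2,2,1], [3,0,0,1,2,1,1,0], [0,3,3,2,3,2,1], [3,0,0,1,1,1,0], [0,3,3,3,2], [0,1,1,1,2,3,3], [0,3,0,0,1,0,3], [1,2,2,3,0,0,0], [1,1,1,1,2,2,1,0], [3,2,2,2,3,2,2], [2,2,1,2,3,0], [2,2,1,0,0,0], [2,1,2,2,1,0,0], [0,0,3,0,1,2,2,1], [2,3,3,3,3,2], [2,1,0,0,3,2], [2,3,0,3,0,1,1,1], [1,0,1,2,3,3,3], [2,1,0,1,1,1,0], [2,1,1,1,0,1,2,2], [1,0,0,1,2,2,1], [3,3,0,3,0,1,2,2], [1,1,0,0,0], [1,2,1,0,3,3,0], [2,1,2,3,3,2,1,0], [1,0,3,2,2,3,3,0], [0,0,1,2,2,1,1], [2,2,2,3,3,2], [3,0,1,1,2,2], [0,0,0,0,3,2], [1,1,0,3,3], [3,0,3,0,0,3], [1,1,1,2,1,0,3], [2,1,0,0,3], [2,2,3,3,3,3],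 [1,1,1,1,0,3,2], [0,1,2,1,1,0], [0,1,2,2,1,0,0], [3,0,0,1,1,2,2], [0,3,2,1,0,0,1,0], [0,0,1,0,0,0,1], [0,1,2,3,3,3,2], [2,2,3,3,3,0,3,0], [1,2,1,1,2,1,1], [0,3,2,1,2,1,2], [1,2,3,0,0,3,3,2], [2,3,0,1,2,2,2,2,1], [3,0,3,2,1,1,1,0], [2,1,1,0,3,3], [3,3,0,1,1,0,0,0], [1,1,0,0,3,3,3], [0,0,1,1,1,1,2,3], [3,0,3,0,3,0,0], [0,0,0,3,0,1,2,3], [0,0,3,2,1,1,1,2], [1,2,1,1,1], [0,1], [3,3,2,2,2,3,0,1], [0,0,0,3,0,3,3,0], [2,2,3,2,1,2,3,0], [2,3,0,1,2,3], [1,2,3,2,3,0,3,0], [2,3,2,2,3,0,1], [2,1,1,2,3,0,1,0], [1,2,1,1,1,0,1,0], [1,2,1,0,0], [3,3,0,3,3,0,1,1], [2,3,0,0,3,0,0], [2,1,0,3,2,2], [3,2,2,3,0], [1,0,1,1,2,3,0], [2,1,2,2,2,2], [0,3,3,0,0,3,3], [1,1,0,1,1,0,0,0], [3,2,1,2,1,1,1,1,2], [3,2,3,3,2,2],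 [0,3,3,0,0,0,0], [0,1,1,1,2,1,1], [1,0,0,1,2,1,1,0], [1,2,1,1,2,2,1], [1,0,0,1,1,2,1], [3,3,3,0,0,1,0,1], [2,2,1,0,3,2,3], [3,0,0,0,1,2,3,0], [1,2,1,1,1,0,0], [0,0,0,3,2,3,0], [3,2,2,1], [0,1,2,2,3,0,1,0], [1,2,2,1,2,1,0,1], [0,0,1,2,3,0,1,0], [3,2,2,2,1,0,1,0], [0,1,1,0,0,1,1], [1,2,1,0,1,1,1], [2,3,0,3,3,3,2,1]]

/-- Part of the paths. -/
def pathsDZero4 : List (List ℕ) := [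
[0,3,3,2,1,0,3], [2,1,2,3,3,0], [3,2,1,1,0,0,0], [3,2,3,0,1,1,2,2], [0,1,2,2,3,0,1], [1,1,0,0,3,3,0,1], [3,0,0,0,3,2], [3,0,1,2,2,1,1], [0,1,0,1,2,2,3], [1,1,2,3,3,2,2], [1,1,0,0,0,0,1], [0,0,1,1,0,3,0,1], [1,0,1,2,1,0,0], [2,1,0,1,0,1], [0,3,2,2,1,1,2], [3,0,0,3,2,3,0], [0,3,3,0,1,1,1,2], [2,3,2,2,1,0,3,0], [0,0,0,3,3], [2,1,1,2,1,1,0,0], [0,1,2,2,3,3,0], [3,3,3,3,2,3,3,0,0], [0,1,1,2,1,0,0,0], [2,3,2,1,1,2,3,0], [1,1,0,3,2,2,1,0], [0,1,0,0,1,1,0,3], [2,1,1,1,2,1,0,3], [2,3,3,0,3,2,3,0,0], [3,2,3,2,2,3,0], [1,1,1,0,3,0,0,1], [3,2,2,1,0,3,2,2], [2,2,2,3,0,1], [0,1,1,1,1,0,3,0,0], [0,1,1,0,3,0,3,0], [0,1,0,3,3,0], [1,0,1,1,0,3,2], [2,2,1,0,0], [2,1,2,3,0,1], [1,0,0,0,3,3], [2,1,1,0], [0,3,0,1,1,1,0],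 [1,1,1,0,1,0,1], [3,0,1,0,0], [0,1,0,0,3,0,0], [1,1,2,1,0,0,1], [3,0,0,1,1,2], [1,1,2,3,0,0,0,3], [0,1,1,0,1], [1,1,2,1,1,1], [2,1,1,0,3,0,1,0], [2,3,2,1,2,1], [0,1,2,1,2,3], [3,3,0,3,2,1], [0,0,1,0,1,0,3], [2,2,1,0,0,1,0], [1,0,3,3,0,0], [0,0,1,2,2,1,2], [2,1,1,0,1,2], [3,2,1,1,1,0,0], [0,0,1,0,1,0], [0,0,3,2,3,3,2], [0,1,0,1,1], [1,2,2,2,3,3,2,3], [0,1,0,0,1,0,3,0], [3,3,0,1,0,0], [3,3,0,3], [0,3,2,1,2,3,2,1], [1,0,1,2,1,2], [3,2,1,1,2,1,2,3], [2,2,2,3,0,3,0], [3,3,3,3,0,1,1,1], [2,2,1,0,3,0,1], [2,2,1,2,2,2,2,3], [1,2,1,2,2], [1,0,3,3,3,2,2], [2,3,2,1,0,3], [3,3,2,1,2,2,3], [0,0,3,2], [0,0,0,0,3,2,1], [0,1,1,1,0], [3,2,2,1,0], [3,3,2,3,0,1], [3,3,0,0,0,3,0,0], [2,1,0,1,1,0,0], [0,3,3,0,1,2],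 [0,1,2,1,0,1,0], [2,2,2,1,1,1,0], [1,0,1,0,0,1], [0,0,3,0,3,3,0], [2,1,2,2,1,1], [3,2,2,2,1,0,3], [0,1,0,1,2,1], [1,0,3,3,0,1,0], [2,2,2,1,1,0,0,0], [1,0,3,0,3,0,1], [0,3,2,1,1,1,0,0], [3,2,3,0,0,0,1], [1,2,1,0,1,0,3,0], [2,2,1,2,1,2], [2,3,0,3,0,1,2]]

/-- Part of the paths. -/
def pathsDZero5 : List (List ℕ) := [
[3,2,1,0,1,0,3,0], [1,0,1,0,0,1,1], [0,0,1,1,0,0,1,2], [2,2,3,3,3,2,1], [2,2,3,3,3], [3,0,0,1,2,2,1,0], [0,3,2,2], [3,0,1,2,3,3], [1,2,3,0,1,0], [2,2,3,0,0], [3,0,3,2,2,3,0], [0,3,3,0,1,1,1], [1,1,2,1,2], [1,2,3,3,0,0,0,1,0], [3,2,1], [0,0,0,0,0,3], [3,3,2,2,3,0,3,2], [2,3,2,2,3,3,0,0], [0,1,1,1,1,0,0], [2,1,0,0,0], [0,1,0,0,3,2,2], [0,0,3,0,0,0,3,0], [3,3,2,3,3,0,0], [2,2,2,2,2,1,0],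 [1,0,1,0,3,0,0], [1,2,2,2,2,3,2,1], [3,2,1,1,1,2], [0,3,0,3,2,3,0,0], [3,2,3,2,2,1,1,0], [3,3,2,2,1,2], [1,2,1,1,2,3,3,0], [1,0,1,1,1], [1,1,0,0,3,0], [0,3,0,3,3,0], [1,2,1,1,1,1], [3,3,3,0], [0,3,0,0,0,0,1], [3,2,3,3,3,0,0], [0,0,3,3,3,0], [1,1,2,1,0,1,0,1], [0,3,3,0,3,2,2], [3,0,0,3,3,2,1], [0,1,1,1,2,3,0], [0,1,0,3,0,0,0,3], [2,3,2,1,0,3,0,1], [2,3,2,3,0,0,3,0], [1,1,2,1,2,1], [2,2,1,0,0,1,1], [0,1,2,3,2,2], [0,0,1,0,3,0,3,2], [0,1,1,1,0,3,2], [3,3,3,3,0,0,0,0,0], [2,2,2,1,1,1], [0,1,2,2,3,0], [1,0,3,3,0,3,0,0], [2,2,2,1,2,2,1,0], [3,2,2,3,3,3], [1,0,0,0,3,0,1,0], [2,3,2,1,2,2,3,0,0], [2,3,3,0,1], [0,3,3,3,2,3,0], [0,3,2,2,2,3], [2,2,2,2,2,2], [2,2,3,3,2,1,2], [0,1,1,0,0,0], [0,0,0,0,3,0,3],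 [1,0,0,3,2,1,1,2], [0,0,0,0,0,1], [3,0,3,2,1,0,0,0], [3,2,1,2,2,3,0], [0,1,1,2,3,2], [1,1,0,0,0,1], [1,2,3,3,3,2,1,1], [2,1,2,1,1,1,0], [1,2,2,1,2,1,1], [1,1,0,0,3,0,3], [2,1,0,0,3,2,2], [1,1,2,3,0,0], [2,2,1,2,3,3,0,1], [1,0,0,0,3,0,3], [2,2], [1,1,2,3,2,2,3,0], [3,3,3,0,1,1,1,1], [1,2,2,3,3,0,0,0], [2,2,3,3,0,0,1,1], [1,1,1,0,3,2,2,2], [0,1,2,2], [2,2,1,0,1,0,0], [3,2,2,1,2,2,2], [2,1,2,1,0,0,3], [2,1,1,1,1,2,3,0], [2,2,3,0,3,2], [1,2,3,0,3,2,1], [1,0,0,0,1,0,1], [0,1,0,1,1,0,0,0], [3,3,2,1,0,0,0,1], [1,0,3,3,0,1,2,1], [2,3,0,3,2,2], [2,3,3,2,3,0,0], [0,0,3,0,1,1,2,2]]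

/-- Part of the paths. -/
def pathsDZero6 : List (List ℕ) := [
[3,2,1,1,2,1,0,0], [3,3,0,0,3,0], [1,0,3,3,2,1,0,3], [3,2,2,3,0,3,3], [0,1,1,2,1], [1,0,3,0,3,2], [3,3,2,2,2,2], [3,3,3,2,1,1,0,0,1], [1,2,1,0,0,3,2], [2,3,0,3,3,0,1], [2,3,3,2,3,3,3,3], [3,3,3,2,1,1,1,0], [2,3,2,1,1,1], [3,0,1,1,0,0,0,0], [2,3,0,0,3], [3,3,3,2,2,2,3], [3,3,3,2,2,1], [3,2,3,0,3,3,3,0,1], [3,3,3,3,0,3,3,0], [2,2,1,1,2,2,1], [3,3,0,1,1,1,2,1], [3,0,3,2,1,2], [2,1,2,2,2], [1,2,1,0,0,1,2,2], [3,0,1,0,1,1,0,0,0], [0,3,2,3,0,0], [1,2,3,2,3,0,0], [0,0,0,3,3,2,3,0,0], [3,0,1,2,3,3,0], [2,3,0,3,3,0,1,1], [0,0,3,2,1,1], [2,2,3,0,0,1,2], [2,2,1,1,0,3,0], [1,2,2,3,2,3,3], [0,1,2,1,2,1,1,1,0], [3,0,0,0,1,2,1,2], [2,1,0,0,0,3,0],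 [0,1,1,1,0,0,0,1], [0,3,2,3,3,2,1], [1,2,2,3,0], [2,2,3,3,2,3,0,0], [1,0,3,2,2], [0,0,0,3,0,1], [1,1,1,2,1], [0,0,0,3,3,2,3,2], [2,3,3,2,3,3,2,3], [2,1,0,1,2,1,1], [0,0,3,3,0,0,3,0], [1,2,3,2,1,1,2], [2,1,2,3,3,0,1,1,0], [0,3,0,1,2,1], [3,3,0,1,1,2,1,0], [0,3,2,2,1,2,2,1,0], [3,3,3,3,2,1,2], [0,0,0,0,1,1,2,1,1], [0,3,2,3,0,3,2], [0,0,1,0,1,0,3,0], [0,0,1,1,2,3,2], [2,2,1,0,1,0,3], [2,1,1,2,3,0,3], [0,0,1,0,1,2,1,2], [0,0,1,1,1], [3,0,0,0,1,1,1,1], [3,3,2,2,1], [1,1,0,3,0], [0,3,2,2,3,3], [1,0,1,1,2,2], [3,3,3,0,3,0,0,1], [3,0,1,0,1,1,2,1], [1,1,2,2,1,0,0,0], [3,2,1,2,3,2,3], [3,2,2,1,0,3,2], [0,1,2,3,3,3], [1,2,2,1,2,1,2], [0,1,1,1,0,1,1], [1,1,1,2,3,3,3,2], [2,3,3,2,2,2,2,1], [1,2,1,1,2,1,0,1],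 [0,3,2,3,0,0,3,0], [2,2,2,2,3,0,0,0], [1,2,2,3,3,2], [2,3,2,1,1,0,0,3], [1,2,3,3,2,1,2], [1,2,1,0,1,0,0], [2,2,2,1,0,3,2,1], [3,0,0,1,1,2,1,0], [2,3,0,0,3,0,0,3], [1,1,0,1,1,1,0], [1,0,3,3,2,2], [3,3,3,2,1,1,0], [2,2,2,1,1,2], [3,0,3,0,3,0,1], [1,0,3,3,0,3,3,0], [3,0,0,0,1,0,0,0], [3,2,3,0,0], [1,2,3,0,1,1,1,1], [0,0,1,2,2,3,0,1], [1,2,2,3,3,0,0,1], [0,1,0,3,3,3,0], [3,3,2,3,3,2,3,0]]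

/-- Part of the paths. -/
def pathsDZero7 : List (List ℕ) := [
[2,3,3,0,1,0,0], [3,3,0,0,0,0,3,3], [0,0,3,3,3,2,1], [2,2,2,2,1,1,1], [1,1,2,1,2,2], [3,2,3,0,1,1,2,1], [1,0,3,0,1,1,0], [0,0,1,1,1,2], [0,0,3,3,0,1,0], [1,1,1,2,3,2,3], [3,2,1,1,1,0,3,0], [1,0,3,3,2,1,0], [3,0,0,0,3,0], [1,2,1,2,3,2,1], [2,1,0,3,3,3,0], [2,2,1,0,3,3], [2,2,2,1,2,2,1], [1,2,1,1,2,2,2,1], [1,2,1,1,1,2,2,1], [3,2,2,2], [0,1,2,3,2,1,2,3], [0,3,0,3,3,2,1], [2,3,2,3,0,3,2,2], [0,0,3,0,3,2,1,1], [3,3,0,1,2,1], [2,2,2,1,2,1,0,3], [0,1,1,2,3], [2,1,0,3,2,2,1], [3,3,2,3,0,0], [1,0,3,2,1,0,1,2], [1,1,0,0,0,0,0,3], [1,1,2,2,3,3,0], [3,0,3,2,1,1], [3,3,2,3,3,3,3], [2,2,3,2,3,0,0], [0,0,3,3,0,3,2], [3,3,2,2,2,3], [0,0,1,2,2,3],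 [0,0,1,1,1,1,1,0], [3,0,0,0,0,1], [3,0,0,1,2,2,1,2], [1,1,2,3,0,3,3], [3,0,0,0,3,0,3], [1,0,0,0], [3,2,1,2,2,3], [3,3,3,2,1,0,0], [0,0,3,0,3], [2,1,1,0,0,0], [0,1,1,2,1,2,3], [2,3,2,1,0,3,2], [0,0,0,1], [2,2,1,2,3,3,0,0], [1,1,1,0,1,2,2], [0,3,0,1,2,1,2], [1,0,3,2,1,2,3], [3,2,1,2,2,2,1], [1,0,0,3], [1,0,0,1,2,3], [2,2,3,0,1,1,0,1], [1,2,1,1,2,3,2,1], [1,0,3,2,3,0], [2,3,2,2,1,0,0,1], [3,2,2,1,0,1], [2,2,3,0,0,1], [2,1,1,2,1,1,1,2], [2,3,2,1,1,2,2,1,0], [2,2,1,1,1,1,2], [3,3,3,2,3,0,3,3], [3,0,0,1,0,3,0,0], [0,0,0,0,1,2,3], [3,3,3,2,1], [2,1,2,3,2,2,3], [1,2,1,2], [1,0,3,0,3,0,3], [1,1,2,3,2,2,1,2], [2,3,0,3,3,3,0,1], [1,2,1,2,3,2,2], [2,2,1,2,3,0,1,0], [3,0,1,0,0,1,1,0], [1,0,1,2,2,2,3,0],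 [1,2,3,0,0,1,1], [1,1,0,3,2], [2,2,2,2,3,0,0], [2,3,2,2], [0,1,0,0,0,0], [3,2,1,1,0,3,0], [1,1,1,0,1,2], [1,1,1,0,1,1,0,1], [2,1,0,0,0,1], [1,2,2,3,2,2,3], [2,1,2,3,0,1,2,3], [1,0,0,3,0,0,1,1], [3,0,3,2,1,1,0], [2,2,3,2,1,1,1,1], [1,1,2,3,2,3,0], [0,1,2,1,2,1,0,0], [3,3,2,2,1,2,1,0], [1,2,1], [3,3,2,1,0,3], [2,2,3,0,3,0,1]]

/-- Part of the paths. -/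
def pathsDZero8 : List (List ℕ) := [
[1,0,1,1,0,0,0], [3,3,0,3,2,2], [3,0,0,0,0,0,3], [0,1,2,3,0,0,1], [0,0,0,3], [2,2,3,3,2,1,1], [2,2,1,1,2,3,3,0], [0,0,0,1,0,0], [1,0,1,0,3,3,3,0], [3,0,3,3,0,3,3,0], [0,3,2,2,3,0,3,0], [3,3,3,3,0,1], [3,0,3,2,2,1], [3,3,0,0,1,2], [1,1,1,2,1,0,0], [2,1,1,0,0,0,0], [3,0,0,0,3,2,3,0], [2,2,1,2,1,0], [2,1,0,0,3,0,1], [1,1,2,2,1,0,3], [0,1,0,1,0,3,0], [3,3,0,3,3,3,0], [1,0,1,0,3,0,1], [1,0,3,0,1,1,2], [1,2,2,1,1,1,0,0], [3,0,0,1,1,2,2,3,0], [1,0,1,1,0,3,3,3,0], [3,0,0,0], [1,1,1,2,2,1,1,0], [1,0,1,2,1,2,1], [3,0,3,3,3], [0,1,0,1,1,1,0,3,0], [0,1,2,1,0,1,1,2], [1,0,3,2,3,3,0,1,0], [3,2,1,0,1,0,1], [0,3,2,1,0,1,1,2], [1,0,0,1,1,1,1], [3,3,3,2,2], [3,2,2,1,0,0,1],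 [2,2,3,0,0,1,0], [2,2,2,1,1,2,2], [1,1,0,0,3,2], [2,1,1,0,1,1,0,1], [2,1,1,0,1,0,3], [1,1,1,1,1,0], [1,0,0,0,0,1,1,1], [2,1,2,3,2,3,0], [3,0,0,3,0,0,0], [0,0], [2,3,2,2,1,1,0], [2,3,0,0,0,3,0], [0,3,0,0,1,1], [1,2,1,0,1,1,2], [0,1,2,2,1,1,0,1], [1,0,0,1,1,1,2,2,1], [0,1,0,0,3,3,0], [3,3,0,0,3,3,2,1], [1,1,1,0,0,0,3], [1,1,1,1,1,0,1,1], [0,3,3,2,1,2,1,1,0], [1,0,1,2,1,0,3,0], [1,0,3,0,0,3,2], [0,0,3,3,3,3,2,1], [0,3,2,1,0,0], [3,2,3,3,2,1,0,0], [3,0,3,2,1,2,2], [1,1,0,0,1,2], [2,1,2,3,0,3,3,0], [3,3,0,3,2,1,1,0], [0,0,1,0,3,0,1,2], [2,1,1,0,3,3,0,0], [1,1,0,3,0,3,3,3], [0,1,1,2,1,0,0,1], [2,2,1,0,3,0], [2,1,0,1,0,0,0], [3,0,1,2,2,2,3,0], [0,0,0,3,2,2], [2,2,3,3,2,2], [1,0,1,2,2,1,2,1], [3,2,1,2,1,2,3,0,0],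 [0,0,1,2,1,2,3], [0,1,2,2,1,2,1], [2,3,3,2,2,2,1], [0,0,0,0,3,3], [3,0,1,0,3,0,0,1], [1,1,2,2,2,1,1,1,0], [3,0,1,1,0,3,2,2,1], [3,0,3,3,2,2], [0,0,0,0,3,0,1,2], [2,2,1,0,3,3,0], [1,2,3,3,0,0,1,0], [0,3,3,0,1,1], [3,0,1,1,2,3,3], [1,1,2,1,1,2,3,0], [1,2,2,3,3,3], [2,3,3,3,0], [3,3,0,1,1,0], [1,1,2,2,2], [0,0,1,2,3,2,3,0], [2,3,2,2,1]]

/-- Part of the paths. -/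
def pathsDZero9 : List (List ℕ) := [
[3,3,3,3,2,2,3], [3,2,3,3,0,0], [3,3,3,0,3,2], [0,3,2,3,0,1,0,0], [2,1,0,1,1,2,2,2], [0,1,1,0,0,0,0,0], [0,1,2,3,0,3,0,1], [0,1,0,0,3,3,0,1], [3,0,3,0,3,0,0,1], [0,1,2,1,1], [2,3,3,0,0,0,0,0], [0,3,2,1,2,1,0], [2,1,1,0,1,0,1,2], [2,3,0,0,0,1], [0,0,3,2,2,2], [2,1,0,0,1,1,2,2], [3,0,3,0,3,3,2], [0,1,1,2,1,0], [0,1,0,1,0,3], [0,0,3,3,2,2,2,1], [3,0,1,0,0,3,3,0], [3,2,3,0,3,3,0,1], [3,0,0,0,1,1,0], [3,0,3,0,1,1,0], [0,1,2,3,0,0,3,0], [1,1,2,3,3,0], [1,1,2,3,0,0,0,0], [2,2,3,2,3,0,3], [2,3,0,1,2,2,3,0], [0,3,3,2,1,2,2], [1,0,3,0,3,2,1], [2,2,2,1,0,0,3], [1,0,1,0,0,0,0,1], [1,1,1,0,0,3], [3,2,1,2,3], [3,3,0,0,3,3], [2,3,0,3,0,3,0,0], [2,1,1,2,3,0], [2,2,3,0,3],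 [2,2,2,1,0,1,0,1], [1,1,1,1,1,0,1], [3,3,2,2,3,2,2,2], [3,2,2,1,2,3,2], [1,1,0,1,1,1], [1,1,0,3,0,1,1,0], [2,2,3,0,0,3,0], [3,0,1,0,3,0,3], [0,1,1,2,2,1], [3,3,3,3,2,3,0,1], [1,2,3,0,3,0,1,0], [3,0,1,0,0,1], [1,2,1,0,1,0,3], [3,3,0,1,1,2,3,3], [1,0,1,2,1,1,1], [1,1,2,2,2,2], [1,0,3,2,3,0,0], [3,0,0,0,1,0,0], [3,2,2,3,2,1], [0,1,2,3,2,1,1,2], [2,3,2,2,2], [2,3,3,3,0,1], [1,0,3,0,3,0], [3,2,2,1,1,0], [1,1,1,0,3,0,0], [3,2,2,2,1,0,0], [0,3,3,0], [1,2,2,3,2,2], [1,0,0,1,1,1,1,0], [3,3,0,3,2,3,3,3], [1,1,1,1,2,3,3], [1,1,0,1,1,0], [0,3,2,1,0,0,0], [3,0,0,0,0,3], [1,1,1,0,0], [2,2,1,0,1,1,0,0], [3,2,3,2,1], [3,0,0,1,0,0,0], [0,0,3,0,0,0,3], [0,3,2,3,2,2,3,0], [1,2,3,0,1,1,0], [3,2,2,3,0,0], [2,1,1,0,3],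 [3,0,1,1,2,3,0,0], [0,0,1,1], [3,2,3,0,3,2,3,3], [3,3,0,1,0,3,2,2], [2,2,3,2,1,2,3], [2,2,2,3,2,1,1,0], [2,3,0], [0,3,0,3,3,0,1,1], [0,1,1,2,1,0,0], [1,2,3,3,2,3], [2,2,1,1,0,0,0], [0,3,0,3], [0,3,0,1,0,0], [3,3,0,3,0,3,0], [2,3,2,1,2,3,3], [2,2,3,3,3,2,3,0], [1,1,2,1,2,3], [2,2,3,2,2,2,3]]

/-- Part of the paths. -/
def pathsDZero10 : List (List ℕ) := [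
[3,3,3,3,0,3,2,3], [0,1,1,2,1,1,1], [1,0,1,2,2,1,0], [3,2,1,1,0,3,3,0,0], [2,1,2,3,2,2,1,1,0], [2,2,1,0,1,2,3,0], [1,1,2,2,2,3,2], [0,1,0,1], [2,2,2,3,0,0,0,3], [3,3,3,0,0], [3,3,2,2,1,0,1], [3,2,2,3,0,3], [2,2,3,3,2,3], [2,1,1,0,0,3,0,3], [0,0,0,3,3,2,1], [0,0,0,1,1,2,1], [1,1,2,1,1,0,1,2], [0,3,3,0,0,1], [1,0,3,0,3,0,1,2], [0,1,0,1,2,1,0], [2,3,3,2,2,1,0,0], [2,2,3,3,3,0], [3,2,2,1,0,1,0], [3,2,2,1,2,2,1,2], [2,3,3,3,3,0,1], [3,2,2,3,0,3,0], [3,3,2,1,2,2,3,0], [0,1,0,1,1,1,0], [1,0,0,1,2,1,1,1,0], [0,1,0,0,3,2], [2,3,3,2,1,1,0], [2,2,3,2,1,1], [0,0,0,0,0,0,1], [3,2,1,1,2], [3,2,2,1,0,0], [2,2,2,1,0], [3,2,1,0,0,3,0], [1,2,3,3,3,0], [3,2,1,1,1,0,1], [2,1,0,0,3,3,0], [2,1,0,1,0], [2,3,3,2,3],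 [3,2,3,2,2,1,0], [2,1,1,1,0,3], [3,3,3,0,1,2], [2,3,0,0,3,0,0,0,0], [2,1,2,2,1,2], [1,2,3,2,3,3,2], [1,0,3,3,0,1,2], [3,2,3,3,0,3], [0,0,3,2,1,2,1], [1,2,2,2,1,1,1,0], [2,1,1,2,2,1,2], [1,1,0,1,0,0,1], [2,2,3,0,1,1,0], [0,0,1,0,0,3], [2,2,3,3,0], [2,1,0,1,0,1,1,1], [1,1,1,0,0,0,1], [1,2,1,0,0,0], [3,0,0,3,3], [0,1,1,0,1,2,1], [2,1,1,1,2,3,2,2], [2,1,2,2,1,2,1,1], [3,2,3,3,0,3,2,1], [2,1,0,0,3,3,0,0,0], [1,1,0,3,2,1], [3,0,1,0,1,0,3], [1,0,0,1,0,3,2], [2,2,1,2,2,1,2], [1,1,0,0,1,2,3,0], [2,1,2,3], [0,1,1,1,2,1], [3,3,2,3,3], [0,0,1,2,2,3,2,2], [2,1,2,1,0], [1,2,3,2,1,2,1,0], [1,1,1,1,2,1,1], [3,2,3,0,1,1], [3,0,3,3,3,0,1,0], [1,0,0,3,2,2,2], [3,2,1,0,0,3,0,0], [0,0,1,0,3,3,0,1,0], [0,3,0,3,3,2],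 [3,0,1,2,2,1], [2,3,2,3,3], [1,1,1,0,3,3,2,2], [2,3,2,1,0,0], [1,1,0,0,0,0], [0,0,3,3,2], [1,0,0,0,3,0,1,2], [0,0,3,2,3,2,1], [2,3,0,1,0,1], [3,2,1,2,3,3,3,0], [3,0,0,0,0,0,1], [3,2,2,2,2,1,0], [1,1,0,0,0,3], [0,0,1,2,2,1,0,1], [1,1,2,1,1,1,1,0,0], [0,1,0,0,0,0,1]]

/-- Part of the paths. -/
def pathsDZero11 : List (List ℕ) := [
[2,3,0,3,2,3], [1,1,2,3,2], [1,2,3,2,2,1,2], [3,2,2,2,1,2,2,1,0], [3,2,1,1,1,0], [1,1,1,0,0,1], [3,2,1,0,1,1,0], [0,1,1,0,1,0], [3,0,0,3,2,1], [0,0,0,3,0,0,0,0], [0,3,2,3], [1,1,0,1,2,3], [2,1,2,3,0,0,3], [1,2,2,2,2,1,0,3], [0,0,1,1,1,2,2,1], [1,0,1,1,2,3,2], [2,2,3,2,2,3,3], [1,0,1,2,3,3,3,2], [2,1,1,0,0,1], [3,2,3,0,3,2,2], [3,2,2,1,2,2,1,0], [3,0,1,2,1], [2,3,3,3,3,2,1,2],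 [3,2,1,1,0], [1,0,0,1,0,1], [3,2,3,0,3,2], [3,0,1,2,2,3,2], [0,1,2,1,1,1,0,1,0], [1,2,3,3,2], [3,0,0,1,0,0,1], [0,1,1,1,1,0], [2,3,2,1,2,2,1,2], [1,1,1,1,1,0,3], [0,0,3,3,0,0,0], [3,0,1,0,3], [2,3], [2,3,2,2,3,3,2], [3,2,1,1,1,0,0,1], [3,3,2,3], [1,0,1,0], [1,1,1,0,3], [0,1,0,1,2,3], [3,0,0,3,0,0,0,0], [0,0,3,0,1,1], [2,3,3,2,1,1], [2,3,0,3,0], [2,1,1,1,0,1,0], [2,2,3,2,2,3,0], [3,0,1,0,0,1,0,3,0], [3,3,2,3,3,0,1,2], [3,2,3,2,1,1,0], [1,1,0,3,3,2], [0,0,0,0,3,2,3], [1,0,3,0,1,2], [2,2,3], [3,3,2,2,1,2,1], [1,0,1,0,1,2,1,0], [2,1,1,0,0,0,0,1], [2,3,0,1,0,3,0], [2,1,0,1,0,0,1], [3,0,1,0,1,2,1], [1,0,0,3,0,0], [2,2,1,1,0,0], [2,3,0,0,1,1,2], [2,3,0,1,0,0], [1,1,2,1,2,3,3], [1,0,1,1,2,3,3], [0,0,1,2,2,1],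 [1,2,3,0,0,0,0,3], [1,1,1,2,3,2,1,2], [2,2,1,2,1,1,1,0], [3,0,1,2,1,0,1], [2,1,2,2,3,0], [3,2,1,2,2,2,1,0], [1,0,0,3,3,2,1], [1,2,1,0,1,0], [1,2,2,3,0,0,3,0], [0,1,0,3,0,3], [3,3,3,2,3,0,1], [0,3,0,3,0,3,0], [3,0,1,2,1,0,1,0], [3,0,0,1,2,1,0], [3,2,2,2,1,1,1,0], [1,2,3,2,2,2,3], [2,1,0,0,0,3], [3,3,2,2,2,1], [0,1,2,1,1,2,3,0], [2,1,2,3,2], [0,1,1,1,0,1,1,1], [2,3,3,0,3,3,3,2], [2,3,0,0,1,2,3], [2,1,2,2,3,2,1], [3,0,3,0,1,0,0,3], [3,3,2,1,0,0], [2,3,0,1,1,2,1,2], [1,1,2,1,2,2,1], [0,0,3,2,1,2,2], [1,2,3,2,1,2,3], [2,1,2,2,1,0,1], [0,3,0,3,2,1,1,0]]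

/-- Part of the paths. -/
def pathsDZero12 : List (List ℕ) := [
[3,3,0,1,1,2,1], [1,0,0,1,1,2,1,1], [2,3,2,1,2,3], [1,1,1,0,1,1,2], [1,2,3], [0,3,0,0,3,3], [2,1,0,3,2,1], [2,3,0,1,0,0,1], [0,0,0,1,1,1,0], [0,0,1,1,1,0,1], [1,0,0,1,1,0,1,0], [3,3,3,0,3,3], [0,3,0,1,2,3], [3,2,3,2,2,3,0,1], [1,0,3,0,0,3,2,1], [0,1,0,3,3,3,2], [1,2,2,2,3,0,1,0], [3,2,1,0,0,0], [2,3,2,1,1,0,3,0], [3,0,1,2,2,3], [3,0,1,1,1,1,1,0], [1,1,2,3,3,2,3], [0,0,3,0,0,0], [2,2,3,0,0,0,1], [0,3,3,3,2,1,2], [2,1,2,3,3,2,3], [1,1,2,1,1,0,1], [2,1,2,1,0,3,2,3], [3,2,3,2,1,2,3], [1,2,1,2,3,0], [2,1,2,2,1,2,1,0], [3,3,3,2,1,2,2], [0,1,2,3,3,0,3,0], [2,1,1,1,0,0], [1,0,0,3,3,3], [0,1,2,2,2,2,2], [3,3,2,3,2,2,1], [3,0,0,0,1,1,2],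 [0,1,0,3,0], [3,2,2,2,1,2,1,0], [3,3,2,3,3,3,3,0], [2,2,2,3,0,3,0,0], [1,1,0,3,2,3,0], [3,3,0,3,0,0,0], [0,1,2,2,3,0,0,3,0], [0,0,1,0,0,1], [1,1,2,3,2,1,1,0], [1,2,2,1,1,0,3,0], [2,3,0,0,1,0], [0,0,1,1,2,1,0], [3,0,3,2,3,3,0,0], [0,1,2,1,1,0,3,0], [3,0,3,0,1,1,0,0,0], [1,1,1,2,1,0,1], [3,0,1,0,3,2,2], [0,1,2,1,1,2,1,2], [1,2,2,2,2,3], [0,1,0,0], [2,2,2,2,3,0,1], [3,3,3,2,1,2], [1,1,1,0,3,2,3,0], [1,2,3,0,1,1], [0,1,2,3,2,2,1,1,0], [1,0,1,0,0,3,0], [3,0,0,1,2,3,0], [0,3,0,0,1,1,0], [1,0,3,2,2,3,0,1], [0,3,3,0,1,1,0], [1,0,3,3,3,3,0], [2,3,0,3,2,2,1,0], [2,3,0,1,1,0,0], [0,0,0,3,3,0], [3,3,0,3,2,3,3,0], [2,2,1,0,3,2,2], [2,1,2,2,3,2,3,0], [2,2,2,3,0,0,1], [3,3,2,1,2,2], [1,2,2,1,0,1,2,2], [1,1,0,0,3,0,1,2],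 [3,2,1,0,0,0,0,1], [2,2,3,0,0,0,3,0], [2,1,2,3,3], [1,2,2,1,1,0,1], [1,2,3,2,1,1], [3,0,0,3,0,0,0,3], [3,3,2,2,3,0,0], [1,0,1,0,3,2], [2,3,3,3,2,2,1,0], [3,0,3,0,0,1], [2,2,2,3,3,3,0], [3,3,3,3,2,2], [1,0,0,3,2,2,1], [0,3,2,2,1], [1,0,0,0,1,1,2], [3,2,1,1,1,1,2], [2,3,2,2,1,0,1], [0,0,1,2,2,2,3,0], [1,0,0,3,0,3], [1,1,2,2,3,0,1,0,0], [1,2,1,2,3,0,0]]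

/-- Part of the paths. -/
def pathsDZero13 : List (List ℕ) := [
[0,3,2,3,2,2], [3,2,1,0,0,1,0], [1,1,1,1,0,1,1,2], [0,1,0,0,0,3,2,2], [3,2,1,1,0,0,1], [3,2,3,3,3,2], [2,1,0,0,1,1,2,1], [0,0,3,3,2,2,2,2], [3,0,3,0,1,0], [2,2,3,2,1,0,1], [0,3,3,2,2,2,1], [2,2,3,2,2], [0,3,2,2,2,2], [1,1,2,1,0,0], [2,2,3,3,0,0,1], [2,3,0,3,3], [2,1,1,1,0,0,3,2], [2,3,0,0,0], [0,1,0,1,1,2,1], [1,1,2,3], [1,0,3,0,0,3], [3,2,2,3,0,0,1], [0,1,2,3,2,2,2], [1,0,0,1,0,0,1], [3,2,3,0,0,3], [2,3,2,1], [3,2,1,0,1,0,1,1], [2,3,0,3,2,2,2,1], [1,1,0,0,0,1,0], [2,3,0,3,0,1,0], [0,3,3,0,3,0,0], [0,3,3,2,1,1,1,0], [1,0,0,3,3,0,1,0,0], [2,1,0,1,1,2,2], [3,2,3,3,3,3,0], [1,0,0,1,1,0,3], [2,3,2,3,3,2,1,1], [1,0,3,3,3,0,3,0], [1,1,2,3,2,1,0,1],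 [3,2,1,0,0,3], [3,3,0,1,2,1,2], [0,3,0,0,1,0,1], [2,1,1,1,2,1,2,2], [2,3,3,2,1,0], [2,1,0,3,2,1,0,1,0], [1,2,2,3,0,1,0,1], [1,2,1,0], [0,3,3,2,3,3], [3,0,3,2,2,2], [2,3,2,1,1,0,0], [0,1,0,3], [3,2,2,3,0,0,0,1], [2,1,2,3,3,3], [1,2,1,0,3,2], [1,2,3,2,1,1,0], [0,1,1,2,1,2,2,1], [2,1,2,3,2,3], [1,2,2,1], [2,2,1,0,1,2,2], [0,3,2,1,2,1,1], [3,0,0,3], [3,3,0,0,0,3,2], [1,0,1,0,1,1], [1,1,1,0,0,0,0,1], [0,1,1,0,3,0,0,3], [2,2,3,3], [1,2,1,2,3,2,3,0], [2,3,0,0,1], [0,0,0,0,1,0,3], [3,0,3,2,3,0], [2,1,2,1,0,1,0], [3,2,2,3,0,3,0,0], [1,1,1,2,1,2,1], [1,1,2,2,2,3], [2,3,3,0,1,1,1,0], [3,2,1,2,3,2], [2,3,3,3,2,1,2], [0,0,3,0,1,1,1,0], [1,0,3,0,0,1,1], [3,3,3,3,2], [1,0,1,0,0,3,3,0], [3,3,3,0,0,0,0,3],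 [1,1,2,3,3], [1,0,1,2,2,1,2], [2,2,1,2,1,1,0], [3,3,2,2,3,3,3], [1,1,2,2,3,0,3,3], [1,0,3,2,3,3,2], [1,1,1,1,2,1,0,0], [3,2,1,2,1], [1,0,0,0,1,1,0], [2,1,2,1,0,0], [2,3,3,3,0,3,0], [2,1,0,1,1,2], [2,2,3,3,0,1,0,1], [1,0,1,2,1,0], [2,1,0,1,1,1,0,1], [1,0,0,3,3,2,2,3], [1,2,3,2,2,1,0,0,1], [1,1,2,1,1,0,0]]

/-- Part of the paths. -/
def pathsDZero14 : List (List ℕ) := [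
[2,3,2,2,2,2], [1,1,2,3,2,3], [2,3,0,3,3,0,3,3], [3,0,0,0,1,2,3], [0,0,1,1,0,0,0,1], [1,0,1,0,1,2,2,1], [3,2,1,2,1,2], [3,2,3,3,3,2,1], [3,3,3,0,1,1], [0,3,2,3,0,3,3,0], [2,2,1,2,2,3], [1,2,1,1,0,1,2], [3,0,3,3,0,0,1], [3,2,2,3,3,3,0], [0,1,1,1,1,1,0,0], [3,0,3,0,0,3,3,0], [3,2,3,0,0,3,0,1], [2,3,2,2,1,0,3,2], [2,3,3,3,2,1,2,2], [2,2,1,0,0,1,1,2,1], [2,3,2,3,0,3,3], [1,2,3,0,3,3,0], [1,1,1,2,3,0,0,0,3], [2,1,1,0,1,1,1,0], [1,1,0,1,0], [3,2,1,1,0,0], [2,3,3,2], [1,0,1,0,1,2,3], [3,0,1,1,1,1,0], [0,0,3,0,0,0,0], [3,0,0,3,3,0,0,0], [3,0,1,0,3,2], [3,0,1,2,1,0,3,3], [3,0,3,2,3,3,3], [2,2,2,3], [1,0,1,1,0,1], [3,0,1,2], [3,2,1,2,3,0], [0,3,0,0], [0,1,0,3,0,1,1,0], [0,3,2,1,1,0,0,0], [1,2,2,3,3,0,0],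 [1,1,0,1,0,1,1,1], [3,3,3,0,0,0,3,0], [2,2,2,2,3,2,2], [0,3,0,0,0,1], [2,2,1,2,2,3,3,0], [0,1,0,0,1,1,2,1], [3,2,2,1,1,1], [2,2,1,0,1], [2,1,1,2,1,0,1], [0,3,3,0,3,3,0], [1,0,1,0,0,0,1], [3,3,0,0,1], [0,0,0,1,2,1,2], [2,2,1,1,2,3,0,1,0], [0,1,2,3,3,0,0], [1,1,1,2,1,2,1,1], [0,0,0,1,2,1], [0,0,0,1,1,0,3,2], [0,3,0,3,2], [1,0,0,1,1,0], [1,2,2,1,0], [2,1,2,2,2,3,0], [0,0,1,0], [0,3,3,3,2,3], [2,1,2], [3,3,3,2,1,0,1], [1,1,1,1,0,1,0,1], [3,2,3,3,0,1], [1,1,1,0,3,0,3], [2,1,1,2,2,1,0,0,0], [1,1,2,2,2,2,2], [2,2,2,3,2], [1,2,1,0,1,2,3,0], [2,1,2,1,0,3,3], [0,3,3], [3,0,1,2,1,1,1,0], [0,3,3,0,1,0,1], [0,1,2,2,2,3,2,2], [2,3,3,0,0,1,0], [0,3,0,1,1,2], [0,1,2,3,0,3,2,1], [2,1,0,1,0,1,2], [3,3,2,2,3,3,0],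 [1,2,3,0,0,3,0,0], [0,0,0], [2,3,3,3,2,1,1], [3,3,0,1,2,2,3,0], [3,2,3,3,2,3,2,1], [0,3,3,2,1,2], [2,1,2,2,2,3], [3,2,3,0,3,3,0], [1,0,1,2,1,0,0,0], [1,1,1,0,0,3,2], [1,1,2,1,0], [3,3,3,3,0,3,2], [2,2,3,3,3,2], [2,3,2,3,0,3,3,0], [2,3,2,2,2,1]]

/-- Part of the paths. -/
def pathsDZero15 : List (List ℕ) := [
[0,3,3,0,3,2,3], [3,0,0,3,3,3,2,1], [2,1,1,1,1,1,0], [0,0,1,1,2,2,3,0], [3,2,1,2], [3,0,3,0], [1,1,2,3,3,2], [3,3,2,1,1], [2,2,2,3,0,1,0,3,0], [1,0,0,3,0,3,2], [2,3,2,2,3,0], [1,2,3,2,2,1,0,0], [3,2,3,0,0,1,2,1], [3,2,3,3,0,3,2], [3,3,3,0,1,1,0,1], [3,0,3,2,3,0,1], [3,2,2,3,3,0,0], [1,2,1,2,1,1], [0,0,3,0,1,2], [1,1,2,2,2,3,0], [0,3,2,3,3,2], [1,2,3,3,2,3,0,0,0], [3,2,3,2,1,1,0,0], [3,2,2,3,3,2],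 [0,1,1,1,0,3], [3,0,3,0,0,0,0], [1,2,1,1,0,0], [1,0,1,1], [3,3,0,0,1,0,1], [2,2,2,2,3,2,1], [1,0,3,2,1,1,0], [0,0,0,1,2,3,0], [1,1,2,1,1,1,0,0], [2,3,3,0,1,1], [2,2,1,2,2,3,0,0], [2,3,0,3,0,1,0,0], [0,1,1,1,1,0,3,2], [2,2,2,1,2,3,0], [2,2,2,1,0,0,0], [1,0,3,3,2,2,3], [3,0,3,2,1,2,1,2], [3,0,3,0,1,2], [2,3,3,0,0,3,3,0], [2,2,3,3,0,1,1,1], [2,2,2,2,3,3,0], [0,1,0,0,0,1,1,0], [3,3,2,3,0,3,3,0], [1,0,1,2,3,2,2], [1,1,0,3,0,1,0,0], [1,1,1,1,0,0], [2,2,3,0,3,0,0], [1,2,1,0,0,0,1], [3,3,3], [3,3,3,0,1,0,1], [2,1,2,1,2,3,0], [2,2,2,3,2,2], [1,1,2,1,2,1,0], [2,2,3,0,1,0,3,0], [1,0,1,1,2], [1,2,1,2,1,0,1,0], [0,1,0,3,0,3,2], [3,2,3,0,3,0,1,2], [1,1,2,3,0,0,1,1], [0,1,1,2,2,1,0], [0,0,0,0,3,2,2], [1,1,1,0,3,2],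 [3,0,0,1,2,1,2,1,0], [0,1,1,0,0,1,1,0], [0,0,1,0,3,2,3,0], [3,2,1,2,1,1], [3,3,3,3,0,1,1,0], [2,2,2,1], [1,2,2,2,3,2,2], [3,0,1,1,0,0,3], [1,1,0,1,1,2,2,1,0], [2,2,1,2,3,2,3,0], [0,1,0,3,3,0,3,0,0], [3,0,1,0,1,1], [1,2,1,2,1,2,2,2], [3,3,2,2,3,0], [3,3,3,3,0], [3,3,0,0,3,2,1,2], [2,3,0,3,2,3,3], [2,2,2,2,2,3,0,0], [3,2,3,3,3,2,3,3], [2,2,1,2,2,2,3], [0,3,3,2,2,3,0], [2,1,2,1,0,3,2], [3,0,1,1,1,0,1,0], [3,0,0,1,1,1,1,0], [3,3], [2,1,2,2,3], [3,3,0,1], [3,3,3,0,3], [3,0,1,2,2,1,0], [0,1,2,1,2], [0,0,0,1,1,0,0,3], [1,1,0,1,2,1,0,0], [0,0,1,0,3,0,1,1,2], [2,3,0,3,0,3]]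

/-- Part of the paths. -/
def pathsDZero16 : List (List ℕ) := [
[0,3,2,3,0,1], [2,1,0], [2,2,1,1,1,1,1], [1,1,0,1,1,0,0], [2,2,3,3,0,0], [1,0,0,0,1,0,3], [0,3,0,0,0,3,0,0], [1,0,0,3,0,1,2], [3,0,0,1,2,3,3], [3,3,2,1,1,1,0,0], [3,0,3,0,3,3,0], [3,0,3,2,3,0,0,1], [2,2,1,2,2,2,1], [2,3,3,3,2,1,0], [2,3,3,0,1,1,0], [0,1,2,1], [2,2,3,3,2,3,3,0], [3,3,3,0,1,1,1], [3,2,2,2,3,3,3], [1,2,1,1,1,1,2], [3,2,2,2,3,0,0], [1,0,0,0,3,3,0], [3,3,2,2], [1,2,3,3,2,1,0], [0,0,0,1,2,2,1,0], [0,1,2,2,3,3,3], [0,0,1,2,3,3], [0,0,3,2,2,3,0], [2,3,2,3,3,0,3], [0,1,1,2,3,0,1,0], [0,1,0,3,2,2], [2,1,1,1,2,1], [2,2,3,0,1,0], [0,0,0,0,3,3,3], [3,2,3,2,2,1], [2,3,3,0,1,2,1,2], [2,2,1,0,3], [1,0,0,1,1], [1,2,3,0,0,1], [2,3,3,2,3,0,3],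 [1,2,2,3,2,1], [1,0,1], [3,3,0,1,1,1,0], [1,0,0,0,1,0,0], [0,0,3,0,0], [3,0,0,0,1,0,0,3,0], [0,1,2,2,3,2], [3,2,3,0,1,0,0], [0,0,3,0,0,3], [3,2,3,3,3,0], [0,1,0,1,2,1,1,0], [3,2,1,0,1,1,1], [3,0,0,1,0,1,1], [1,1,0,0,3,0,0,0], [3,3,0,3,3,0], [1,0,3,2,2,3,0], [0,3,2,2,1,1,1,0], [3,3,3,3,2,1], [0,1,1,0,3,3,0,0], [0,3,0,3,2,1], [1,0,1,1,1,2], [3,2,1,2,1,1,0], [3,0,1,0,0,0], [3,0,1,0,3,3,3], [2,3,0,1,2,1,1], [3,0,0,0,1], [1,2,2,2,1,1,1], [3,2,2,3,3,2,2], [1,2,1,1,2,2,2], [3,0,3,3,2,3,2], [1,0,1,0,3,0], [0,3,0,0,1,2,3], [0,0,3,2,1,1,1,0], [2,3,2,2,2,3,3,3], [1,0,1,2,1], [2,1,2,2,3,0,3], [3,2,2,2,3,3,0], [0,3,0,1,1,0,0,0], [1,0,0,1,1,1], [0,0,3,2,2,2,3], [2,1,1,2,3,3,2,1], [1,1,1,1,0,0,0,3], [1,1,0,1,2,1,1],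 [1,1,1,2], [1,0,1,0,3,0,1,0], [0,3,2,3,3,0,0], [2,1,1,0,1,0,3,0,0], [3,0,1,1,1,2,2,1], [2,1,1,0,3,2,2,2], [2,3,2], [2,1,1,2,1,1,0], [0,1,2,1,0,0,0], [2,2,1,0,1,0,0,0], [3,0,1,2,1,2], [1], [3,0,1,0,3,0], [2,3,3,2,2,3,2,2], [0,0,0,1,1,2,2], [1,2,2,1,1,0,1,1,0], [1,2,2,2,2,3,0,0,0]]

/-- Part of the paths. -/
def pathsDZero17 : List (List ℕ) := [
[1,0,1,1,2,2,1,0], [1,1,1,2,3,2,2], [0,3,3,2,2,1,2,1], [3,2,2,3,3,0,0,1], [0,1,1,1,2], [0,1,2,1,0,0], [0,3,3,0,1,0], [0,1,1,0,3,2,1,1], [1,1,2,3,2,2], [0,1,1,0,0,3,0], [3,3,2,1,1,2,3,0], [0,3,2,2,3,3,3,2], [1,1,0,1,1,0,0,1], [1,2,2,1,0,0], [1,0,1,2,3,0,1,0,0], [0,1,0,1,1,0,1], [3,3,3,0,3,3,0,0], [0,0,0,1,1,2], [3,2,2,2,3,2,3], [0,0,1,0,0], [1,1,0,0,1,2,2],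 [3,2,2,2,3,0,1], [0,0,0,3,0,3,0], [0,0,0,1,2,2,2,2], [3,3,2,3,3,0,1,0], [3,0,3,0,1,0,0,1], [0,1,2,3,2,3,0], [1,0,0,3,0,0,0], [1,1,1,2,2,3,0,0], [3,3,2,1], [3,0,1,0,3,3,0], [1,2,3,0,3,2], [0,1,0,3,3,2,3,0], [2,1,1,2], [3,2,3,0,3], [2,2,1,0,0,3,2], [3,3,3,3,2,1,0,1], [1,2,3,3,2,1,1], [2,2,2,1,2,1], [2,2,2,2,3,3,3,0], [1,2,2,3,0,3,0], [2,2,2,3,2,1], [0,0,0,0,1,2,3,0], [3,2,2,2,3], [0,0,1,1,2,3,0], [3,3,2,1,2,3,3], [2,2,1,1,1,2], [3,2,2,3,2,3,3], [2,3,0,0,3,2,1,0], [2,2,3,2,3,0,3,0], [3,2,3,0,1,2,2,1], [1,2,1,0,3,0,1], [3,2,2,1,2,3,3,0], [2,3,2,2,2,3,0], [1,2,2,1,0,3,0,1], [0,3,2,3,3,0,1,0], [2,3,3,0,0,1,1,0], [0,3,2,1,1,1,2], [0,0,3,0,1,0,0,1], [2,2,3,0,1], [3,0,3,0,0,0,3,0], [0,0,3,2,2], [1,2,1,2,3,3,0,0],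 [2,1,1,2,2,1,0], [3,3,0,3,2,3,0,0], [0,3,3,2,3,3,0,0], [3,2,1,0,1,0,3,0,0], [0,3,3,0,1,1,0,0,0], [1,0,0,1,0,0,0,0], [0,1,2,2,3], [1,2,1,0,0,3,3,0], [1,1,0,0,1,0,1], [2,1,2,1,2,1,1], [0,3,2,2,1,2,1], [1,0,1,2,1,1,0,1], [1,2,2,2,2,1], [1,0,0,3,3,3,3,0], [3,3,0,0,0,0,1], [2,1,1,0,1,1], [1,1,0,3,2,2], [0,3,0,0,0,3], [0,3,2,2,3,2,1], [1,1,2,3,0], [3,0,3,3,3,0], [1,1,1,1,1,2,3], [0,0,0,1,0,1], [0,1,0,0,3], [2,3,0,1,1,0,1], [3,3,2,2,1,2,3,2], [0,3,2,1,2,2,2,1], [2,2,2,3,0,0,3], [3,3,3,2,3,0], [0,0,1,2,1,1,0], [3,0,0,1,0,3,0], [1,0,3,3,2,3,2,1], [2,3,3,2,2,3], [1,0,3,3,3,2], [0,1,2,3,0,1,0,0], [1,0,3,2,2,1,0], [2,3,3,3,0,1,0,0]]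

/-- Part of the paths. -/
def pathsDZero18 : List (List ℕ) := [
[0,0,1,1,0,3], [0,0,0,1,1,1,0,3], [0,0,3,2,3,3], [1,0,0,1,1,0,1], [1,2,2,3,0,0,1,0], [0,0,1,2,1,2,1,0], [0,1,0,1,2,3,0], [0,3,3,2,3,0,1,1], [0,0,1,2,1], [0,1,1,0,0,1,0,1], [3,0,3,2], [2,1,2,2,1,0], [3,0,0,0,3,2,1], [1,1,0], [3,0,1,0,3,2,3], [1,2,1,1,1,1,1], [3,2,2,1,1,0,1,2], [3,0,1,2,2,1,2], [0,0,1,0,3,0], [2,1,1,2,2,3,0], [2,3,3,2,3,0,0,0], [0,1,1], [0,0,1,2,1,2], [0,1,2,3,2], [2,1,1,2,3,0,0,0], [2,1,1,2,3,0,3,3], [2,2,1,2,2,1,0], [3,2,2,2,1,2,1,2], [0,1,1,1,2,3,2], [3,0,1,1,0,0,1,2], [2,1,1,1,1,2,1,0,0], [0,0,3,2,3,0,1,0], [2,1,2,3,0,0], [0,3,2,3,0,0,1], [1,2,2,1,1,1,0], [2,3,2,2,2,3,0,0], [3,2,2,3,3,3,2], [3,2,1,0,3,3,0,3,0],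 [2,3,2,1,1,0], [0,0,1,1,0,0,1,0], [3,0,3,2,1], [2,2,1,0,3,3,0,1], [3,2,3,2], [3,2,1,0,3,2,3], [1,0,1,1,0,3], [1,1,0,3,3,0,0], [2,1,0,1,1,1,2], [2,1,2,3,3,0,0], [1,2,3,2,1,2,1,2], [3,2,3,2,1,0,1], [1,0,3,2,1,0,0], [2,2,3,2,3], [2,1,0,0,1,0,1], [0,3,2,1,2,1], [3,2,2,2,3,2], [0,1,1,2,2,1,0,0], [0,0,3,0,1,1,0,1], [1,1,0,1,1,0,3], [0,3,3,3,0,0,1], [0,3,0,0,3,0,1,2], [3,3,3,2,3,0,1,0], [2,2,3,3,0,1,1], [1,1,0,3,3,3,3,2], [0,3,3,0,0,3,3,0], [3,3,0,1,0,0,0], [1,0,0,0,0,3,0,0], [0,3,0,3,0,1], [0,1,0,0,1,1], [0,0,0,1,0,0,0], [2,3,0,0], [1,1,0,0,0,3,0,0,0], [3,3,2,2,2,3,0,0], [0,1,0,1,0,3,0,3], [2,2,1,1,1,0], [0,3,3,2,3,0,1], [3,0,3,2,1,2,1], [1,2,1,0,0,0,0,0], [3,0,1,0,0,3], [3,0,0,0,0,3,2], [0,0,1,2,1,0,1,0],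 [0,0,3,3,0,1,0,0], [0,0,3,3,0,3,3], [3,0,0,1,0,1,1,1], [1,2,1,2,2,2,2], [1,2,1,0,0,3,0], [1,2,3,0,3,0], [1,2,1,1,0,1,1,0], [3,3,2,1,2,3,0], [3,0,1,1,2,1,2], [3,2,2,3,2,1,1,0], [2,3,3,0,0,1], [1,0,0,0,3,0,1], [1,2,1,0,0,3,3], [3,0,1,1,0,0,1,0], [2,2,3,2,2,2,3,0], [1,1,0,1,0,1,1], [1,1,2,2,1,1,2], [3,3,3,2,3,3,0,0], [3,0,3,2,2], [1,1,1,1,2,3,2]]

/-- Part of the paths. -/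
def pathsDZero19 : List (List ℕ) := [
[3,3,3,0,1,1,0,0,0], [1,0,0,0,3,2,3,0,0], [1,2,2,3,2,1,2,3,0], [1,1,0,3,0,3,0,3], [2,1,2,3,0,3,3], [1,2,3,3,2,2,3], [1,1,1,1,2,1], [1,2,1,0,3], [1,1,2,3,0,1,1,0], [3,3,2,3,2,1,0,0], [3,0,3,3,0,3,3], [1,2,2,1,2,1,0], [0,3,3,0,0], [2,3,3,3,0,1,0], [1,2,2,1,1,2,2,3,0], [2,2,1,0,1,1,2], [2,1,2,2,3,0,1,0], [2,3,0,3], [0,1,2,2,3,3,2,3], [0,3,2,2,1,0,1], [0,1,0,3,3,0,0], [3,3,2,2,3,2,1], [3,2,1,1,2,3,0], [1,2,3,0,1], [3,2,3,0,3,3,3,0], [3,3,0,0,0,3], [2,2,2,3,3,2,2], [3,0,0,3,3,2,2], [3,0,3,0,1,0,1], [3,3,2,1,2,3], [3,3,0,1,0,0,1], [3,0,3], [0,0,1,0,3,3,0], [1,1,0,3,2,1,2,3], [0,0,1,2,3,0], [0,3,2,1], [0,3,0,1,0,0,0], [3,2,2,1,2,1,0], [0,3,2,2,2,3,0,0], [0,1,0,3,0,3,0,1],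 [1,1,2,1], [2,1,0,3,0,0,1], [3,3,0,3,3,3,3,2], [1,2,1,1,2,1,2,2], [1,2,1,2,2,1,0], [0,0,0,3,2,1], [1,1,2,3,3,0,0], [1,1,1,0], [3,2,2,3], [0,1,0,3,2,3], [1,0,1,1,0], [2,1,1,0,1,2,2], [3,0,3,3,2], [2,2,3,2,3,3], [0,1,0,3,3,0,1,0], [1,1,1,0,0,3,3,0], [2,3,0,1,2,2,1], [0,3,2,1,1,2,3,0], [3,0,3,2,3,2,1], [0,1,0,1,2,1,0,0], [2,3,0,0,0,0,0,0], [0,1,1,0,0,1,2], [1,0,1,0,0,0], [3,3,0,3,3], [0,3,3,0,0,3,0], [0,1,1,0,3,2,2,2], [1,2,3,3,0,1,1,0], [0,3,3,3,2,1,0,0], [0,0,0,1,0,0,1], [0,1,2,3], [3,2,1,0,1,0], [3,2,3,3,2,3], [1,1,0,0,1,0], [0,0,1,0,3], [1,2,3,2,2,3,0,3], [1,0,3,0,0,3,0,0], [0,3,3,0,1,1,2], [1,1,0,3,2,1,1], [0,1,1,0,1,0,3,0], [3,3,2,1,0,1,0,1], [2,3,3,2,2], [0,3,0,0,1,0,0,0,0], [0,0,3,3,2,3,2],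 [0,0,0,0,1], [3,0,1,1,0,3], [2,3,0,3,2,3,0,1], [1,2,1,0,0,0,1,0], [3,0,3,2,3,3], [0,1,2,3,0], [1,2,3,3,3,0,0], [3,0,1,2,1,2,1,0], [1,0,0,3,2,3,3,0,0], [2,1,2,1,0,3,0], [3,0,0,1,0,1], [3,2,3,3,3,2,3,0], [0,3,2,1,2,3], [2,3,2,3,3,0], [0,3,0,1,0,0,1], [1,1,0,0,0,3,3], [0,0,3]]

/-- Part of the paths. -/
def pathsDZero20 : List (List ℕ) := [
[3,0,3,0,1,1,0,1], [1,1,0,0,3,3,0,1,0], [3,3,3,3,0,0,1], [0,1,1,2,1,0,1,0], [1,2,2,2,1,0], [2,1,0,1,2,2,1,0], [0,0,1,0,3,0,0], [0,0,1,2,1,0,1], [0,3,2,3,3,2,1,1], [0,0,1,0,3,3,3], [1,0,3,2,2,2], [0,3,3,0,1,2,3,3], [1,2,1,1,0], [0,0,1,0,0,0], [1,0,0,1,2], [0,3,3,3,2,1], [3,3,2,3,0,1,0,0], [2,3,3,2,2,1,2], [3,3,0,0,1,1,2,2], [3,0,1,2,3,2,3,0], [3,3,2,3,0,3],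 [2,3,3,0,1,0], [0,1,1,2,3,0], [0,1,0,1,0,3,0,0], [2,1,1,1,2,2,3,0], [0,0,0,0], [0,0,3,3,3], [1,2,1,0,3,2,3], [1,2,1,0,3,3,3], [2,3,0,0,3,3,3,2], [2,1,2,2,1,2,1], [0,3,2,3,3,3,2,1], [0,1,1,1,0,3,0], [1,0,1,0,1,2], [2,1,0,3,2], [0,3,3,0,3,0,0,1], [1,2,3,2,3], [2,1,2,1,0,1,0,0,0], [0,0,1,0,1,1,2,1], [3,2,3,0,0,0], [1,1,0,1,0,0,1,1], [1,2,1,0,0,1], [1,2,2,3,0,1], [3,2,2,2,1,0,3,0], [1,2,3,2,2,1,0,1], [1,1,2,1,1,1,2], [0,0,0,1,1,0,0,0], [3,2,2,1,0,1,0,0,0], [3,2,2,3,2,2,2], [1,2,2,3,0,1,0], [0,1,0,0,0,3], [1,2,2,3,3,0,1], [0,0,0,0,0,0,3], [2,3,2,1,1,2], [2,3,2,2,3,3,3], [3,3,2,1,1,2,1,0,0], [3,0,1,2,1,2,3,0], [3,2,2,2,3,0], [2,3,3,0,0,0,0,0,3], [3,0,1,1,2,2,2,3], [1,1,1,0,3,0,1,2], [2,3,0,0,3,0,1,0],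 [2,1,1,0,3,2,1,1], [2,3,3,3,2,1], [1,2,3,2,1,0,3], [2,3,2,2,3,2,1], [2,3,0,0,0,3], [2,1,0,0,1], [1,0,1,0,1], [1,2,1,2,2,2,3,0], [2,2,1,1,2,3,0], [0,3,3,2,2], [0,0,3,3,2,1], [1,2,1,1,1,1,0], [1,0,3,2,1], [0,1,1,1,2,3,0,1,1], [0,3,3,2,1,1], [1,1,0,3,0,0], [3,3,2,1,0,1], [0,1,1,2,2,3], [1,0,3,0,3,3,0], [3,3,0,0,3,2,1,0], [0,0,3,3,2,2], [3,2,2,1,1,0,3,0], [1,1,1,0,1,1,1,1], [3,0,0,1,2,1,2,3], [3,3,2,3,3,0], [3,0,1,0,1,1,1], [2,1,2,3,2,2,1,2], [3,2,3,2,1,2,2,3], [2,3,3,2,1,0,0], [3,2,2,1,1,0,0,0], [3,0,3,0,3], [0,0,1,2,2,2,3], [3,0,0,1], [1,2,1,2,3], [0,3,3,2,2,1], [2,1,2,1,0,1,2], [2,2,2,1,2,2,1,0,1], [0,1,2,1,2,2,2]]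

/-- Part of the paths. -/
def pathsDZero21 : List (List ℕ) := [
[0,3,3,3,0,3,3,0], [0,0,3,2,1,2], [2,3,0,3,3,0,0], [3,0,3,3,3,0,1], [2,1,0,1,0,3], [0,3,2,3,2,1,2,1], [2,1,1,1,1,0], [3,2,1,1,2,3,3,0], [2,3,0,0,3,0], [1,2,1,0,0,1,1], [0,1,0,1,2,1,1], [2,1,1,2,2,3,0,0], [0,1,1,0,3,3,2,2], [3,0,0], [0,3,3,0,1,0,0,0], [1,1,2,2,3,0,1,0], [0,0,3,0,3,0,1], [1,1,1,1,0,3,0], [3,3,0,1,1,2], [2,3,0,3,2,1], [0,1,2,3,3], [1,0,3,0,0,0,3], [0,0,0,3,3,2], [2,3,2,2,1,2], [0,1,1,0,0,0,0], [1,1,2,3,2,1], [1,1,2,1,2,3,0,0], [3,3,0,0,0,0,3], [3,0,1,1,0,0,0], [1,2,3,3,2,3,0,3], [3,2,1,0,0,0,3,0], [2,3,0,0,3,2,3], [0,3,0,3,2,2,3,0], [0,3,0,3,3,3,0], [0,1,2,2,1,2,1,0], [3,2,3,3,0], [1,2,1,1,2,3,0], [1,0,0,1,1,0,0,0],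 [3,0,0,1,2,2,3], [2,3,3,0,1,1,0,0], [1,1,1,2,3], [2,2,1,0,1,1,1,1], [3,0,1,2,2,2,2,1], [2,3,3,0,3], [1,1,0,0,3,2,2], [0,1,1,1,2,3,3,0], [3,0,0,3,2,2,2], [3,3,0,0,3,2], [3,2,1,0,0,0,0,0], [3,0,3,3,0,1], [3,2,2,1,1], [0,0,0,0,1,1,0], [0,3,0,3,0,0,0,1], [2,3,2,1,1,1,2,1], [1,2,2,1,0,1], [1,1,2,1,0,3,0,0], [1,1,2,2,3,3,3,0], [0,0,1,1,0,1,0,1], [2,1,0,1,2,2], [0,0,3,3,0,3,2,3], [2,1,0,3,0,1,0], [1,1,0,3,3,3], [3,3,3,0,0,3], [0,0,1,2,3,3,0], [2,3,3,3,3,2,2,1], [1,0,1,1,1,1], [2,3,2,1,2,1,0,3,0], [0,1,0,3,2,3,0,0], [0,3,0,1,1,0], [0,3,3,0,3,2], [1,0,1,0,3,3,0,0], [3,3,0,0], [1,1,1,1,1], [0,0,0,3,2,3,0,1], [3,2,2,2,2,3], [0,3,3,3,2,2,3], [2,1,1,2,3,2,3], [1,1,1,2,1,2,2], [3,2,3,3,2,1,1], [3,2,3,0,3,0],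 [3,2,3,2,1,2], [2,3,3,2,2,2,1,0], [0,0,3,0,0,1,0,1], [0,3,0,1,0,1], [0,0,1,1,0,1], [3,0,0,1,0,3,3,0], [2,3,0,1], [3,0,3,0,1,1,1,0], [0,3,3,3,3,2,1], [2,1,1,1,0,0,0,3], [3,3,2,1,2,1,1,0], [3,2,3,3,3,3,2], [3,2,2,1,2,2,3], [3,3,3,2,2,3,0], [2,2,3,2,2,2], [1,2,1,2,3,3,0], [3,2,3,3], [0,0,3,0,3,3,2], [0,1,2,3,0,0,0,1], [0,0,3,2,1,0]]

/-- Part of the paths. -/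
def pathsDZero22 : List (List ℕ) := [
[1,1,0,3,2,3,0,0], [1,0,1,0,1,1,1,1], [3,3,3,2,1,0], [3,0,0,1,1,2,3,0], [2,1,0,0,1,0], [1,2,3,2,3,0,0,0], [0,1,2,2,2,2,1], [2,3,2,3,3,3,0,0], [3,0,3,3,2,2,3], [0,3,2,1,1,2], [3,0,1,2,3,3,0,0], [3,0,0,1,1,0], [3,0,0,0,1,2,1], [3,0,3,0,3,2], [2,2,3,0,3,3,0,1], [1,1,1,2,2,2,1], [3,0,0,1,0,1,0], [2,2,1,2,1,0,1], [1,0,3,0,3,2,1,1], [1,2,3,3,0,3], [2,2,3,0,3,0,1,0], [0,3,3,2,1,1,1], [1,0,0,1,2,2,2,3,0], [1,0,3,3,3,2,3,0], [1,2,1,1,1,0,3,2], [1,2,1,0,3,3], [3,3,0,3,2,3,0], [0,0,3,3,3,2,1,1], [1,0,3,0,0,0,0], [1,1,0,3,0,3], [2,1,1,2,1,0,1,2], [1,1,0,1,1,1,0,1,0], [2,1,0,1,1,2,1,0,0], [0,0,0,3,0,0,0], [2,2,1,1,0,0,3], [2,3,2,3,3,0,1,0], [3,0,3,3,0,1,1,0], [3,0,1,2,1,2,1,1],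 [3,2,3,0,1,1,0,0], [0,3,3,3,3,0], [3,3,2,2,2,1,0], [2,2,1,1,1], [1,2,3,3,0,3,0,0], [3,0,0,3,0,1,0,3], [3,0,3,3,2,3,0,1], [2,1,0,0,0,0,0], [0,1,0,3,3,2,1], [2,2,1,2,3,3,0], [2,1,1,1,0,3,0,0], [0,1,1,2,2,3,0], [2,3,3,3,0,0,3], [2,1,2,2,3,3,0], [3,0,0,0,1,0,3], [1,2,2,3,3,2,3], [3,3,2,2,3,3,0,0], [2,3,2,1,0,1,0,1], [3,2,1,1,2,1,1,0,0], [1,2,2,1,2,1,1,0], [1,0,0,0,0,3,0,1], [1,2,1,1,2,2,3,0,0], [1,0,0,3,3,0,1,0], [2,2,2,2,3,2,3,0], [3,2,1,0,1,2,1,0], [1,1,0,0,0,0,0], [1,0,1,0,0,3], [0,3,3,3,0,1], [3,0,1,2,1,2,1], [3,2,1,0,1,1,2], [3,2,3,3,3], [0,0,3,3,0,3,3,0], [1,2,3,3,3,3,2], [0,0,3,2,2,1], [0,0,1,1,2,1], [2,3,2,3,3,0,0,0], [2,3,0,1,0,1,1], [3,3,2,1,1,0,0,0], [3,3,0,0,0,1], [1,2,3,0,3,0,1], [0,1,1,1,1,0,3,0],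 [2,2,2,3,0,3,0,1], [2,1,2,1,2,1,2,1], [0,0,0,3,2], [1,1,1,2,2], [0,1,1,0,1,2,2], [0,1,1,0,3,2,2,1], [2,3,3,0,0,0,1], [0,1,0,3,3,3,2,2], [0,1,1,1,1,1,2], [3,3,0,0,1,1,0,1], [3,0,3,3,3,3,2], [0,1,0,3,3], [1,2,2,2,2,2,2], [1,0,1,2,1,0,3], [0,1,2,2,2,3,2], [3,0,1,0,0,3,2], [0,0,1,2,1,1,1,0], [0,3,3,2,1,0], [1,1,1,0,0,0,0], [1,0,3,0,3,3,3], [3,0,0,3,2,1,0]]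

/-- Part of the paths. -/
def pathsDZero23 : List (List ℕ) := [
[3,0,0,0,1,1,0,3], [3,0,3,2,2,2,1,0], [2,1,1,1,2], [3,2,2,1,1,2,3,0], [3,2,3,3,2,3,0,0], [3,0,0,3,2,2,1], [0,1,2,3,0,1,1,1,1], [0,0,1,1,1,0,1,1], [1,2,2,1,1,2,2], [0,0,1,2,2,3,3,2], [2,1,0,1,2,1,1,0], [2,3,2,1,1,1,1], [0,3,0,0,3,2], [2,1,1], [2,1,1,0,1,0,1], [2,1,0,1,1,2,1], [3,3,2,1,2,1,0], [0,0,3,3,0,1], [1,0,0,0,0,0], [2,3,0,3,0,1], [2,1,2,1,2,3,2,1], [3,3,2,3,0], [3,3,0,3,2,3], [0,3,0,3,3,2,2], [2,1,2,1,0,0,1], [1,0,0,3,3,2,1,1], [3,2,1,2,2,3,2], [0,1,1,1,2,2,2,1], [1,2,1,1], [2,1,0,1,2,3,3], [0,3,3,3,0,1,1,0], [3,0,1,0,0,3,0,1], [0,0,1,1,0,0,3], [1,2,1,1,1,1,0,0], [0,1,2,2,2,1], [1,0,0,1,2,3,0], [2,1,0,1,1,1,1], [3,3,0],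 [1,0,0,0,3,0], [2,1,0,3,0,3], [3,0,0,3,2,3], [1,1,0,1,2,3,3,3], [2,3,3,0,0,3,2], [0,0,1,1,0,0,0], [1,1,2,3,0,3,2,1], [0,1,1,2], [2,3,3,2,1,2,2,3,0], [2,1,0,1,1,0,1], [1,1,0,0,1,1,0], [0,1,0,0,3,0], [0,3,3,3,0,1,0], [1,2,3,3,2,2,3,3,0], [3,2,1,0,3,2,3,0], [0,0,3,3,3,0,1,1], [2,2,3,0,1,0,1], [2,2,1,2,2,3,0,3], [0,1,0,0,0,3,3,2], [2,3,2,2,1,0,0], [3,2,3,2,2,1,0,1], [0,1,0,1,2,3,3], [0,0,1,0,1,1], [3,0,3,0,3,2,3,0,0], [0,0,0,1,2,2,1,1], [1,1,2,3,3,3,2,3], [1,2,2,3,2,1,1], [3,0,3,3,3,2,1], [0,3,3,3,0], [0,3,2,2,3,0], [3,0], [3,3,0,0,1,1], [1,1,1,0,1,1,1], [2,2,1,1,0,1], [0,0,3,3,0], [2,2,1,0,0,3,3,0], [0,3,2,3,2,1], [0,3,2,2,3,0,3], [3,0,1,2,1,2,3], [3,0,0,0,3,3], [2,2,1,2,1], [1,2,3,2,2,2], [1,0,3,3,0,1,1,1],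 [0,0,3,2,3,3,0,0], [2,2,2,1,1,1,2], [0,3,0,1,1,2,2], [0,3,0,3,2,3,0], [3,0,3,2,2,2,1], [2,2,1,2,1,2,3], [2,1,2,1,2,1,2], [3,2,2,3,2,2], [1,0,3,2,3,3,3], [3,2,1,1,0,3,2], [2,1,2,3,2,3,3], [2,3,0,3,2,1,2], [3,3,0,1,0,0,1,1], [1,1,1,0,0,1,2], [3,0,1,1,1,2], [3,0,3,3,0,1,0], [2,2,3,3,0,1,1,0], [1,2,1,1,0,3,0], [1,2,2,3,2,3,0,0]]

/-- Part of the paths. -/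
def pathsDZero24 : List (List ℕ) := [
[1,2,2,2,1,1,0,0], [0,3,2,1,0,0,0,0], [1,1,2,3,2,3,3], [1,2,1,1,0,1], [2,3,2,2,1,0,3], [3,2,1,1,1,1,1,0], [2,3,3,0,0,0,3,0], [1,2,2,3,0,1,0,0], [1,2,3,0,0,0,3], [1,0,0,0,0,1], [0,3,0,3,2,3,3,0], [2,3,3,2,1,2,2,1], [1,1,1,1,2,3,3,2], [2,1,0,1,1,2,3,2], [0,3,2,1,2,2], [2,3,0,3,3,0,0,3,0], [2,1,1,2,3,3,0], [1,0,3,2,2,2,1,0], [3,3,3,0,1,1,0,0], [0,3,2,2,3,3,0], [0,1,0,3,0,1,1,2], [1,1,0,1,2,3,3], [0,1,0,0,0], [1,0,1,2,1,1], [0,1,0,3,3,2], [0,0,0,0,1,1,1,0], [3,0,3,0,1,2,2,1], [3,2,2,2,1,2,3,0], [0,3,3,3,0,3,3], [2,3,0,3,3,3,0], [0,1,0,0,3,2,3], [0,0,3,0,1,2,3], [1,1,1,0,0,0,1,0], [3,0,0,0,1,0,0,1], [2,3,0,1,1,2,1], [3,0,1,2,1,1,0,0], [3,3,2,3,3,2,3], [2,3,2,2,3,0,3],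 [1,0,0,1,0], [0,1,1,0,0,3,0,3], [0,0,3,2,3], [0,1,1,1,0,0,1], [1,1,2,2,3,0,3], [0,3,3,2], [0,3,2,1,1,1,0], [3,3,3,3,0,3,3], [3,0,3,0,1,2,3], [0,3,0,0,3,2,1], [1,2,1,2,1,0,0,1], [2,1,1,1,1], [3,0,0,3,3,3,0], [0,3,0,1], [2,2,3,0,3,0], [0,1,0,1,2,1,2], [3,2,2,2,3,0,0,3], [0,0,1,2,2,1,0], [3,3,2,1,2,1,1], [3,2,1,2,2,1], [3,2,1,2,1,0,3,2], [2,1,2,3,0,3,0,1], [1,1,2,1,0,1,1,0], [3,3,0,0,0,1,2,3], [0,0,0,1,2,3], [1,2,1,2,2,1], [2,1,0,1,2,3,0], [3,2,2,2,2,1], [3,3,0,0,3,3,3,2], [1,2,3,3,2,2,2,1], [3,0,1,0,3,2,3,0], [3,0,0,1,0,0,0,0], [1,1,1,0,3,0,0,3], [3,3,0,1,2,2,3], [3,2,1,0,0,1,1,0], [0,0,3,2,3,0,1], [3,0,0,1,2,1], [0,1,0,0,3,0,1,2], [3,3,0,3,2], [2,3,3,0,0], [3,2,1,2,2,1,0], [0,1,1,2,1,2,1,1],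 [0,1,2,3,0,0,0], [3,2,3,2,1,2,1], [2,3,3,3,0,0], [0,0,3,3,2,1,0], [0,1,2,3,0,3,3], [3,2,2,1,2,1,0,0], [1,2,2,1,1,2,2,1], [2,2,1,2,2,2,2], [1,2,3,0,1,1,0,1], [1,1,2,3,0,1], [0,0,1,2,3,3,0,0], [0,0,3,0,3,2], [1,2,1,1,2,1,0,0], [0,0,0,0,1,2,1], [0,0,0,1,1,0], [0,0,3,3,2,2,3], [3,2,3,3,0,0,1], [3,3,0,1,2,3,3], [0,3,3,3,0,3,2], [2,2,1,0,0,0,0,0]]

/-- Part of the paths. -/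
def pathsDZero25 : List (List ℕ) := [
[3,3,0,3,0,3,0,0], [2,3,3,3,3,0], [3,2,2,2,1,0,1], [3,3,3,0,3,3,0], [2,1,2,3,0,3], [2,1,2,1,1,2,1,2], [1,0,1,1,1,2,2], [0,3,0,0,1,1,1,0], [1,1,1,2,2,1,0], [1,1,0,1,1,2,1], [3,2,1,2,1,1,0,1], [0,0,1,1,0,0], [1,1,1,1,2], [1,2,3,2,2,3,2,1], [2,1,2,2], [0,3,3,3,2,2], [2,3,0,3,0,3,3,0], [3,0,0,3,2], [1,0,1,2,2], [1,0,3,2,2,1], [2,2,1,1,0,3,2], [1,0,3,2,2,1,1], [3,0,1,1,0,0], [0,1,0,0,0,3,0,0,0], [0,0,3,3,0,1,1,0], [2,2,2,1,2,2,2], [1,1,2,1,2,1,1,0], [1,1,1,0,1,2,1,2], [2,3,0,0,3,0,1], [2,1,1,1], [1,0,1,1,1,1,1], [2,2,3,0,1,2,1,1], [2,3,3,2,1,2,1,0], [0,1,2,2,1,0,1], [0,0,3,3,2,3,0,0], [0,3,0,0,1], [2,1,1,2,2], [1,2,1,1,0,1,1], [3,2,3,0], [0,3,0,3,3,2,2,1], [0,3,0,1,2,2,3,0],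 [1,1,0,1,0,0], [3,3,2,3,2,1], [3,0,3,3,0], [3,3,0,3,3,2,2], [1,1,0,1,0,3,0,0], [1,2,2,3,0,3], [1,1,2,2,2,1], [1,1,2,3,2,2,2,1], [2,1,0,0,1,1,1], [3,2,3,3,2,3,0], [2,2,3,3,0,1], [0,0,3,0,1,0], [0,1,2,2,3,2,2], [3,3,2,1,1,1,0], [1,1,0,0,1], [3,3,0,0,3,2,1], [3,0,3,2,3], [0,0,1,1,2,1,0,0], [3,3,3,2], [0,1,0,3,0,1], [2,1,0,1,2,1,2], [2,2,1,1,2,1,2], [3,2,3,0,1,0], [2,2,3,0,0,3], [1,1,0,0,1,1], [2,1,2,2,1,2,3,0], [3,3,3,2,3,0,3], [3,0,0,1,1,2,3,2], [1,0,1,2,3,3,0,0], [0,3,0,0,0,0,3,2], [3,0,3,2,1,0,0], [0,3,3,2,3,2], [3,0,1,1,0,0,0,1], [1,0,1,2,1,0,0,1], [0,3,2,2,2,1,0], [1,1,1,0,3,0,1], [0,3,0,0,1,0,0,0], [0,0,1,0,1,1,0,3], [3,3,3,2,3], [3,3,2,3,3,2], [1,1,0,3], [3,2,1,2,1,1,0,0], [0,1,2,1,2,3,3],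 [0,1,2,1,1,1], [2,3,2,1,2,3,0], [0,1,0,3,0,0,1], [1,1,1,2,3,0,3,0,0], [2,2,1,1,0,1,1,1,0], [2,3,0,1,1,2,2], [3,3,3,0,3,2,3], [1,2,3,2,2,2,2], [0,3], [0,1,2,1,2,2,3], [3,0,1,1,1,2,1], [3,3,3,2,3,3], [0,0,0,1,1,1,1,0], [2,1,1,0,1,1,1,1], [1,1,1,2,1,1], [3,2,1,2,1,0]]

/-- Part of the paths. -/
def pathsDZero26 : List (List ℕ) := [
[0,0,1,2,2,2,2,1], [1,1,0,3,0,0,3], [0,0,0,1,2,2,3], [0,3,2,2,2,3,0,0,3], [1,1,2,2,1,0,3,2], [2,3,3,2,2,3,3,0], [0,1,1,1,1,2,3], [0,1,1,2,1,1,2,3,0], [0,3,3,2,3,0,3], [1,1,0,3,0,1], [3,0,1,0], [1,1,0,0,1,0,0,1], [3,3,3,2,3,3,2], [3,3,0,0,3,0,1,1], [3,3,3,3,2,3], [3,2,2,1,2], [2,1,1,0,3,0,1,2], [0,3,2,1,1], [1,2], [0,1,2,3,2,2,3,0], [0,0,3,0], [2,1,0,3,3,0,0], [0,3,2,1,2,3,2],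 [2,1,2,1,0,0,1,2,2], [2,1,1,1,1,1,0,0], [1,0,1,2,1,0,0,1,1], [0,3,3,0,0,3], [1,2,3,3,2,3,3,0], [0,1,1,0,1,1,1,1], [1,1,0,3,0,3,0,0], [2,3,0,1,1,1,1], [2,2,3,3,2,1], [2,2,2,1,2,2,2,1], [3,3,0,1,1,2,3,0], [3,3,2,3,3,2,1,0], [0,3,0,3,0,0,0], [3,0,0,1,2,3], [3,0,3,2,1,0,1,1,0], [2,3,3,0,3,2,1], [2,3,0,0,0,3,2], [0,0,1,2,1,0,0], [2,3,3,3,2,2,3], [2,3,2,1,2,2,3], [2,2,3,2,2,3,3,2], [1,2,1,2,3,3], [0,1,0,0,1,1,1,0], [0,1,0,0,3,0,1,0,0], [2,3,3,3,3,0,3], [1,2,2,2,3,2], [0,0,0,3,0,1,2], [0,3,2,1,0,0,1,1,0], [2,3,0,3,3,2,2,3], [3,0,0,1,1,0,1], [0,0,3,0,1,0,0], [3,2,3,3,2,2,1,0], [3,3,2,3,0,0,3,0,0], [3,3,2,2,1,0], [2,3,3,0,1,2,2,3], [3,3,2,3,0,1,2,2,1], [2,2,1,0], [0,0,3,3,0,3,0], [0,1,2,1,1,1,0], [1,1,1,2,2,2,2,2],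 [3,0,0,3,0,1,2], [2,1,0,0,1,1,0,1], [1,0,0,3,0,0,0,0], [2,3,3,3,2,3], [3,2,3,3,2,1,0], [3,2,3,3,2], [0,3,2,2,1,0], [3,0,0,1,0,0,3,0], [1,1,0,0,3,3,0], [1,2,3,3], [2,3,2,1,2], [0,3,0,1,1,0,1], [0,1,1,0,3], [1,0,1,1,2,2,1], [3,3,2,1,1,1,0,1], [1,1,2,2,1,0,1], [3,0,0,3,2,3,2,1], [2,3,2,2,2,1,0], [2,1,1,1,1,1,2], [1,2,2,1,2,2,3], [1,0,1,0,3,3], [3,0,3,0,1,0,3], [0,3,2,1,0,1,1,0], [3,2,1,2,3,3,0,0], [2,1,1,0,0], [2,1,1,0,0,1,1,0], [2,1,0,1,1,0], [2,1,0,0,1,2,1], [0,1,1,0,1,1,0,0], [1,2,3,2,1,0,1], [0,0,1,2,1,0,3], [1,2,1,0,1,2,2,1,0], [3,0,1,1,1,0], [2,1,1,1,2,3,3], [3,0,0,0,3,0,0], [1,0,1,2,3], [1,0,1,1,2,2,1,2]]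

/-- Part of the paths. -/
def pathsDZero27 : List (List ℕ) := [
[2,1,1,1,0], [2,2,1,2,1,1,0,0], [3,3,2,3,0,1,1], [0,3,0,3,0,1,2], [1,0,3], [1,1,0,1], [0,3,0,1,0,3], [3,2,1,2,2,1,2], [1,2,3,0,0,0,1], [0,1,0,1,1,2,3,3], [0,0,1,2,3], [0,3,2,1,1,0,0], [3,2,1,0,0,1,2,1], [0,0,1,1,1,0,3], [3,3,0,1,0,3,2], [0,1,0,1,1,0], [3,2,1,0], [3,3,0,0,3,3,0], [3], [2,1,2,2,2,2,3], [1,2,1,2,2,3], [2,1,2,1,1,1,1,0,0], [0,1,2,3,2,2,2,3], [0,3,2,1,0,1,0], [0], [2,1,1,2,3,0,0,3], [0,0,1,2,3,2,3], [0,0,1,1,2,2,1,0], [1,1,1,1,0,3], [0,3,3,0,0,1,1,0], [0,1,0,0,1,0,1], [3,3,2,1,0,3,2], [1,0,0], [3,3,3,0,1,0,0], [0,3,2,1,0,3,2], [0,3,3,3,0,3,0], [2,3,3,0,1,1,1], [3,3,0,0,1,0,3,0], [0,0,0,1,0,3], [1,1,1,0,3,3,3,2], [0,3,3,0,1,0,0],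 [2,1,2,1,1], [2,1,2,2,3,0,0,0], [2,1,2,2,3,0,3,3], [1,0,0,0,3,0,0,0], [3,0,1,2,3,3,2], [3,0,0,1,1], [3,2,3,0,1,0,1], [1,0,0,1,0,3,2,3,0], [0,1,1,0,0], [3,3,0,1,2,2,1], [3,3,2,2,1,0,3], [2,2,3,3,2,2,2,1,0], [0,1,2,2,1,2], [0,3,3,2,2,3], [3,0,0,1,0,3], [0,1,1,2,2,2,3,0], [2,1,1,1,2,2,1,0], [1,2,2,1,2,3,0,1,0], [3,2,3,2,1,0,0], [3,2,3,0,1,1,0], [2,3,2,2,2,3], [3,2,3], [2,3,2,1,2,1,0], [1,0,3,2,1,1,2], [2,3,3,3,2,3,3], [2,1,2,3,0,3,0], [3,3,3,2,2,1,0], [1,0,0,1,0,3,0], [1,0,1,0,3,0,3,0], [2,3,3,0,3,2], [0,0,1,1,1,0], [3,3,0,1,1,0,1], [1,0,3,0,0,1], [0,0,0,1,2,2,1], [1,2,3,3,0,0], [2,1,1,2,1,2,2], [3,3,2,2,3,3,2], [3,2,2,1,2,2,3,0,0], [1,1,2,2,1,2,1], [3,0,3,3,0,3,0], [0,0,0,0,3,0,0], [1,0,1,2,2,1,0,1],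 [1,1,0,1,2,2], [0,1,1,1,0,1], [1,1,0,3,2,2,1], [3,0,0,3,2,1,2,1], [2,2,3,3,2,3,0], [3,0,3,0,1,0,0], [0,0,1,0,3,3,3,2], [1,0,1,0,3,0,3], [2,1,0,3,3,0,1], [1,1,0,3,3,2,2], [2,1,0,0,3,2,2,2], [3,3,0,0,1,2,1,0], [0,1,2,1,1,0,0], [0,1,2,2,1,0], [1,2,1,1,1,0,3,0], [3,0,1,0,0,1,1], [0,3,2,1,1,0]]

/-- Part of the paths. -/
def pathsDZero28 : List (List ℕ) := [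
[2,1,2,3,2,2,2,2], [3,3,0,3,2,3,2,1], [2,1,2,2,3,0,0], [0,0,1,2,1,0], [3,3,2,1,1,0], [3,2,2,2,1,0], [2,3,2,1,1,2,1,0,0], [0,3,2,3,3,2,2,1,0], [1,0,0,0,1,1,0,0,3], [3,3,2,2,1,1,0,1], [0,1,0,1,0,3,2], [1,0,3,2,3,0,0,0], [0,0,1,1,0,3,2], [3,2,1,2,3,3], [3,0,1,2,1,0,0], [3,0,0,1,1,1,0,1], [3,3,2,3,2], [1,1,1,1,1,2], [2,1,2,3,0,0,0], [3,0,1], [0,3,2], [2,1,2,1,0,0,0,0,0], [0,0,1,0,1,1,0], [0,3,3,2,2,2,3,0,0], [2,3,2,1,1,1,1,0], [1,2,1,2,1,0,3,0], [2,3,2,1,1], [1,0,0,3,3,3,0,0], [3,3,2,1,0,1,0], [0,1,2,3,2,1,1], [3,2,1,0,0], [3,0,1,2,3,2,3], [2,3,3,3,2,3,0], [3,3,2,2,1,0,0], [0,3,2,2,1,0,3], [3,0,1,1,0,1,0], [0,1,0], [3,0,1,1,0], [3,3,2,3,2,1,1,0], [2,1,0,1,2,2,2,2], [0,3,2,2,1,0,0], [2,3,0,1,1,2],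 [2,1,0,3,3,2,1], [0,0,1,0,1], [2,1,0,3,0,0,0,1], [3,0,1,0,1,1,0], [1,2,3,2,3,3,0], [2,3,0,1,0,0,0,1,0], [2,1,1,1,1,1], [3,0,1,1,2,2,1,2], [3,2,3,3,2,1,1,0], [1,2,1,0,1,2,2], [1,0,0,0,1,0,0,1], [3,2,3,0,1], [2,3,0,1,1,0], [2,2,2,3,2,2,2], [1,1,2,2,1,2], [0,3,0,0,3,3,0], [2,2,3,2,2,1,2], [0,1,1,2,3,3], [0,3,0,1,0,3,2], [3,3,2], [0,1,0,3,2], [0,1,2,3,2,1,2], [0,1,0,3,2,2,1,0], [3,3,2,1,1,0,0], [3,3,2,2,3], [3,3,0,3,0,1,2], [0,3,0,0,3,0,0], [3,0,1,1,1,0,3], [1,2,3,3,2,1,0,0], [1,0], [1,0,3,2,2,1,0,3], [0,3,0,0,1,2,1,0], [0,1,0,1,1,0,3], [3,0,3,3,3,2], [1,1,2,2,3,2,1], [0,3,3,3,3,2], [3,0,1,0,1,2,3], [0,0,1], [1,2,2,1,2], [0,0,0,1,0,0,3,0], [3,3,0,1,1], [0,3,2,1,0], [1,0,1,1,0,0], [2,1,2,1,1,0,0],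 [0,1,1,0], [1,2,1,0,1,1,0,0], [0,1,0,0,1], [1,0,1,2,1,2,2,3], [1,1,1,2,1,1,2,3,0], [2,3,2,3,3,2], [2,2,3,3,3,2,2,3], [0,3,0,1,1], [3,2,3,2,2,2,1,0], [0,0,0,1,1,2,1,1], [3,3,3,2,2,1,2,3,0], [0,1,1,2,2,1,2], [2,1,1,2,3,2,1], [3,0,0,1,1,2,1,1]]

/-- Part of the paths. -/
def pathsDZero29 : List (List ℕ) := [
[1,1,1,0,1,0], [3,2,1,0,1,1,0,0], [3,0,1,0,1], [1,0,3,2,3,2,1], [1,0,3,3,2], [2,1,1,2,3,0,1], [1,0,0,3,2,3], [0,1,2,1,2,1,1], [2,1,1,1,0,0,1], [1,1,1,2,3,0,0,3], [1,0,1,2,1,2,3,0], [3,0,0,0,3,3,0], [3,2,2,1,1,1,1,1], [0,1,0,1,0], [1,2,3,2,2], [2,2,1,1,0,1,2], [1,1,2,1,1,2,2,1], [0,0,1,1,0], [3,3,3,2,1,2,2,3], [0,3,0,1,2,2,1], [1,0,0,3,3,0], [2,1,2,2,3,0,3,0], [1,2,3,2,2,1,1,0], [2,3,2,3,0,3,0],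 [1,0,1,2,2,1], [2,2,1,2,2,1,0,0], [2,1,0,1,0,0,3,0], [2,3,0,0,3,2,1], [2,3,0,3,2,3,0], [0,1,0,0,1,1,0], [0,1,2,3,3,3,2,3], [2,2,1,2,3,2,2], [1,1,2,1,2,1,1], [0,0,3,3,0,1,2], [2,3,0,0,1,2,1], [0,3,2,2,3,0,1], [3,2,2,1,1,1,0], [0,1,0,0,1,2,3], [2,1,0,3,3,2,1,0], [2,2,1,2,2,2,3,0], [3,2,2,1,1,0,0], [3,3,2,3,2,2,1,0], [2,1,1,1,0,0,1,1], [0,0,3,0,1,0,3], [1,0,0,1,2,1], [0,0,1,0,0,1,1], [0,0,0,3,2,3,2,1], [3,3,2,1,0], [1,0,1,2,1,2,1,0,0], [3,3,2,1,0,1,1,0], [3,2,1,0,3], [2,1,0,0,1,1,0], [0,0,3,3,3,2], [2,3,0,1,0,0,0], [3,3,2,3,2,1,1,0,0], [3,0,1,2,3], [2,3,3,0,1,1,2], [0,0,0,1,0,3,2], [0,0,1,1,0,1,0], [2,1,0,3,0,1], [0,1,0,0,0,1,0,3], [1,2,2,2,3,0], [2,2,1,2], [0,0,1,2,3,3,2], [1,1,1,2,1,2,2,1],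 [3,0,3,2,2,1,0], [0,3,0,1,0,0,3], [3,3,3,2,2,3], [3,0,0,3,0,1,1], [0,0,3,2,2,1,0], [3,0,3,2,2,2,2,2], [3,0,3,2,2,3,3,0], [1,2,3,2,2,3], [1,0,3,0,0,0,1], [3,2,1,0,3,3,0], [1,0,3,0,0], [2,2,2,1,0,0], [2,3,2,1,0,0,0], [3,0,3,0,3,0], [1,1,1,2,2,1,0,0], [2,1,0,0,3,0,0], [0,0,1,1,2,2,2], [0,1,0,3,0,3,0,3], [0,0,1,2,2,2,2], [3,3,3,3,2,3,3], [3,2,2,3,0,1,1], [0,3,3,3,0,3], [2,1,1,2,1,0,0,0], [1,0,0,3,2,3,0,0], [1,2,1,0,1,2,3], [2,1,1,2,2,1,2,1], [3,2,2,2,2,2,3], [2,2,1,1], [3,3,2,1,2,2,1,1], [3,2,3,3,3,3], [0,3,3,0,1], [0,3,0,3,3,0,0], [1,1,0,1,2,2,2,2], [0,1,2,1,0,1,2], [3,3,3,0,3,0,1,0,1]]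

/-- Part of the paths. -/
def pathsDZero30 : List (List ℕ) := [
[0,3,3,3,2,3,3], [1,1,0,1,1,1,1], [0,3,2,1,2,3,3,0], [0,0,3,0,3,0], [1,0,3,3,0], [2,3,0,1,1,1,2], [3,2,3,3,0,0,0], [0,0,3,3,2,1,1], [2,1,0,1,0,3,0,0], [3,2,1,2,2,3,3,0], [2,2,2,3,0], [2,1,1,2,1,0,0], [0,0,3,0,0,0,0,0], [0,3,0,3,2,2,1,1], [3,0,0,0,0,1,2,1], [0,3,0,3,0], [1,2,1,2,2,2], [0,3,2,1,2], [1,1,2,2,3,0,1,1], [0,1,2,2,2,2], [0,1,1,1,0,1,1,2], [0,3,0,0,0,3,3,0], [2,1,0,3,0,0], [1,2,3,3,2,2,1,0], [1,2,1,0,3,3,0,1], [2,2,1,1,1,1,0], [0,1,0,3,3,3], [0,3,0,3,0,0,1], [2,1,2,1,1,0], [3,0,3,2,2,1,1], [1,1,1,2,2,1], [2,1,0,3,0], [1,2,3,2,1], [2,1,0,1,0,1,1], [3,0,0,0,3,3,2], [3,0,0,1,1,1,1,1], [0,0,0,3,3,3,0,0], [2,2,3,3,3,0,1,0],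 [2,3,3,0,0,0], [3,0,0,0,3], [2,2,1,1,0,1,1], [3,3,0,0,0,0,0,3], [1,0,0,1], [3,3,0,1,1,0,1,0], [3,0,0,3,0,1,0], [2,3,0,1,2,1,0,0], [1,2,1,1,1,2], [2,1,2,1,2], [2,1,0,1,1,0,3], [1,1,0,1,0,3,0], [0,0,0,1,1,0,3], [2,1,0,3,0,3,0,3], [2,2,1,0,1,1,1,2], [0,0,1,0,3,3,0,0], [1,1,1,2,3,0,3], [0,0,3,3,3,0,0], [0,1,1,0,3,0,1,0], [1,1,2,3,3,3,2], [0,1,1,2,1,2,1,2], [0,0,1,1,1,1], [0,0,3,3,3,0,0,1], [1,0,1,1,1,1,2,3], [2,1,2,3,2,2], [0,1,2,1,1,1,1,2], [1,1,2,2,1,0], [2,2,3,3,0,0,0], [3,3,0,0,3,2,2,1], [3,3,3,3,0,3,0,0,1], [2,2,3,0,0,0,1,1,0], [3,3,2,2,3,2,2], [3,2,1,2,2,2], [0,3,0,1,2,2], [2,3,3,2,3,3,0], [2,1,1,1,0,3,2], [2,1,2,3,2,1], [1,2,1,2,1,0,3], [0,0,0,3,0,0], [2,3,3,2,3,0], [3,2,1,2,3,2,1], [3,0,0,3,3,3,0,0],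 [3,2,3,0,0,3,0,1,0], [2,3,0,1,0,3,2,3,0,0], [2,1,1,1,2,3,2], [3,2,2,3,3,0,0,0], [0,1,2,2,3,2,1], [0,1,1,2,2,3,0,0], [0,0,1,0,0,0,0,0], [3,2,2,1,0,3,0], [0,1,1,0,0,1,2,2], [1,1,0,3,3,3,0], [2,1,1,1,1,2], [3,0,1,0,0,0,1,0], [1,1,0,0,0,1,1,2], [2,2,1,0,0,3,0], [2,2,1,2,1,1,2,2], [3,2,1,1,2,2,1,0], [2,3,0,1,1,1,0], [2,2,1,1,0,1,1,0], [0,1,1,1,2,2,1], [2,3,0,1,2,2,1,1]]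

/-- Part of the paths. -/
def pathsDZero31 : List (List ℕ) := [
[2,2,2,1,1,0], [0,0,0,0,1,2,2,3], [2,1,1,2,1,0,1,0], [1,0,3,2,3,3,0,0], [0,1,0,0,0,0,1,0], [0,1,0,1,2,2,1], [0,0,0,1,0,3,2,3,0], [3,2,2,2,2], [3,3,0,1,2,1,1,1], [1,2,3,3,3], [2,2,1], [3,2,3,2,2,2,1], [3,2,2,2,1], [0,1,2,2,1], [1,2,3,3,3,0,1], [0,1,2,2,2], [2,1,2,1,0,0,0], [2,2,2], [1,1,1,1,1,0,3,2], [1,1,2,2,1,2,3,0], [1,2,1,0,1,2,2,2], [1,1,2,2,3,3,0,0], [2,2,2,3,0,1,0], [0,1,2,1,2,3,0,0,1], [0,0,3,2,2,2,2], [0,0,1,0,1,1,2], [2,1,0,0,0,3,0,3], [2,2,1,2,3,0,1], [0,0,3,0,3,3,3], [0,1,2,1,2,3,0], [0,3,0,1,1,1], [3,0,3,3], [1,0,1,1,0,1,2,2], [1,2,2,2,2,2], [2,3,0,0,3,3], [3,0,1,1,1,2,2], [2,2,3,3,2,2,3,0], [3,0,1,1,0,1,2], [3,3,0,0,1,1,0,0],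 [2,1,2,1,2,1], [2,3,0,1,1], [0,1,2,2,1,1], [2,2,1,0,0,1,1,0,1], [2,2,2,2,3], [3,2,3,3,0,3,0], [1,2,1,2,1,0], [0,3,2,2,3,3,3,3], [0,1,0,3,3,0,1], [3,2,2,2,2,2], [3,3,3,3], [1,1,1,0,0,1,1], [1,1,2,3,2,3,3,0,0], [1,2,1,0,3,0], [2,3,0,1,0], [2,1,1,2,2,3,2], [2,1,2,2,3,2], [1,1,1,2,3,0], [2,1,0,3], [2,3,2,3,0,1,1], [3,0,0,1,2,2], [2,1,0,0,3,3], [3,3,0,1,1,2,1,2], [3,2,2,2,2,2,1,0], [0,1,1,2,1,0,1,2], [3,2,1,2,3,0,0,0], [2,3,0,1,2,2,1,0], [0,0,1,2,1,1,1], [1,1,1,1,0,3,0,3], [0,3,2,2,2,2,2], [1,0,1,1,0,0,1], [1,0,0,3,3,0,1], [3,2,3,3,2,3,0,0,0], [2,3,0,0,0,1,1,0], [2,3,3,2,2,3,0], [3,0,0,0,1,1,1], [2,1,2,2,2,3,2,3], [3,2,1,2,3,3,0], [1,2,3,0,0,3,0], [1,0,3,3,2,1,1,1,0], [2,3,0,3,0,3,0], [2,2,3,0,1,1,1,0],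 [0,1,0,3,0,3,0,0], [3,0,0,0,0,1,0], [2,1,2,2,3,0,1], [1,0,1,2], [2,3,3,3,2,2], [2,2,2,3,0,1,0,0], [0,3,3,2,2,1,0,3], [3,2,2,3,3,0,0,3], [1,0,0,3,2,1,2], [1,0,3,2,1,0,1,0], [0,1,2,3,3,0], [1,2,3,0,3,3,0,0], [1,0,0,0,0,1,0], [1,0,0,3,2,1,1], [3,2,3,3,0,0,3], [2,3,0,1,0,3,3,0], [1,0,3,0,1,0,0], [3,0,1,2,1,0,3,0], [3,2,2,2,2,3,3,0]]

/-- Part of the paths. -/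
def pathsDZero32 : List (List ℕ) := [
[3,0,0,0,0,3,0,1], [1,2,2,2,3], [2,3,2,2,1,2,2,2], [3,0,0,0,0,1,0,3], [0,0,3,3], [1,2,2,2,3,3,2], [0,1,1,2,2,2,2,2], [3,2,2,2,2,2,2,1], [2,1,0,0,3,0,3], [3,0,3,2,3,3,0], [3,3,0,0,3,2,1,1], [2,2,3,0,0,3,2,1,0], [2,1,1,1,1,0,1], [1,1,2,3,0,0,0], [2,1,2,1,2,1,0,0], [1,0,1,0,0,1,1,1,0], [2,1,1,0,0,3,0], [1,1,1,1,2,3], [1,1,2,1,0,1,0,0,1], [2,1,0,1,1,1], [0,1,0,0,1,0,0,0,0], [0,1,1,1], [0,3,0,1,1,0,3], [0,0,3,3,3,2,2,1], [0,0,3,3,0,0], [0,3,3,2,3,3,0], [1,0,3,0], [3,2,2,3,3,2,1], [2,3,0,1,0,1,0,3], [2,2,2,1,1,0,0], [0,0,0,0,0,1,2,1], [0,1,2,2,2,3,0], [1,1,1,0,3,3,3], [3,3,0,3,0,1,1,0], [1,2,2,2,1,2,2,1], [3,0,0,1,0,1,1,2,1], [0,3,3,0,0,0,0,0,0], [1,2,2,3,3,0],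 [3,0,3,2,3,0,0], [3,3,0,0,0], [3,3,0,0,1,2,2], [2,2,2,2,1,0], [2,1,2,3,3,3,0], [0,0,0,1,2,2], [0,1,1,2,1,0,3,0], [1,2,3,0,0,0], [1,2,3,0,3,3], [0,3,0,1,1,2,1,2], [1,0,0,0,0,0,0,0], [0,1,2,1,0,3], [3,0,1,0,3,3], [0,1,2,3,0,1,0], [1,1,0,0,0,3,0], [1,2,2,1,0,3], [3,2,1,0,0,3,0,1], [3,3,3,3,0,0,1,0], [1,2,1,2,1,0,0], [2,1,2,1], [0,3,0,0,0,3,3], [0,3,0,0,0,0,0], [2,3,2,3,3,2,2], [3,3,0,0,0,0], [2,1,0,3,3,0], [3,2,1,0,3,3,3], [1,2,1,1,1,0], [0,1,1,0,0,0,1], [2,2,2,3,3,2,3], [2,3,2,1,2,1,2], [1,0,3,3,0,3,2,2], [2,1,2,1,0,1], [1,0,3,0,1,0], [2,2,3,0,0,3,0,1], [0,3,3,2,3,0,0], [3,0,1,1,1,1], [1,2,1,2,1,2], [3,0,0,3,2,3,3], [1,2,1,1,2,1,2], [3,0,3,3,3,0,0], [1,2,3,3,2,1], [0,3,2,3,0,0,0], [1,0,0,3,3,2,3,2],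 [3,2,2,1,2,1,2], [1,2,3,3,2,2], [2,1,0,1,0,3,0], [2,2,1,1,1,0,1], [1,1,0,3,0,3,0], [3,2,3,0,3,3], [3,0,0,1,1,0,1,2], [2,1,0,0,0,0,1], [3,0,3,0,3,3,3], [2,1,2,3,0], [0,1,2,2,3,0,0,0], [0,1,2,2,3,2,3,0], [2,2,3,0,3,3], [3,3,0,1,1,1], [3,0,3,3,3,0,3,0], [1,1,0,1,0,0,0], [2,1,2,3,0,0,1], [2,1,2,3,0,3,2], [2,1,0,1,1,2,2,3]]

/-- Part of the paths. -/
def pathsDZero33 : List (List ℕ) := [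
[3,0,1,0,0,0,0,0], [1,0,3,2,3,2,2], [1,1,1,1,2,2,1], [1,0,0,1,2,2], [3,0,0,3,0,0,3,2], [3,0,0,3,0,0], [1,2,2,3,0,0], [2,2,3,2,1], [1,2,3,3,2,1,1,0], [1,1,2,3,0,1,0], [0,1,1,2,1,0,1], [3,3,3,2,2,3,0,3,2], [1,2,1,2,3,3,0,1], [1,0,1,1,2,3,0,0], [2,3,3,0,0,0,1,0], [2,3,3,0], [3,2,1,0,1,2], [1,0,1,0,1,1,1], [2,2,1,0,3,0,3], [2,3,0,0,0,0], [0,3,0,3,0,0], [3,0,3,3,2,3,3], [2,2,2,3,2,2,1,2], [2,2,1,2,3,2], [1,2,2,2,1,0,1], [2,3,2,2,2,3,3,0], [0,0,0,0,0,0], [2,3,0,0,0,0,0,1], [1,2,3,2,2,1,1,2], [0,3,0,3,0,0,3,2], [3,3,2,1,0,1,2], [2,1,1,2,2,3,3,0], [1,2,3,2,1,1,1,1], [0,3,2,2,3,3,0,0,0], [0,0,0,0,0,0,0], [0,0,3,2,1,1,2], [1,1,1,2,3,3,0], [3,2,2,3,3,2,1,2], [3,3,0,0,0,0,0,0], [3,2,2,1,1,0,1], [3,2,3,2,1,1],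 [3,3,3,0,0,1,2], [3,3,3,0,0,1,1], [2,3,2,2,1,1,2], [2,2,1,0,1,2,3], [0,3,0,1,1,1,2], [0,1,2,3,3,2,1], [2,3,3,2,3,3,0,0], [1,1,1,0,3,3], [3,2,3,0,3,0,3,0], [1,0,0,1,1,2,2], [0,3,0,3,0,3], [2,2,2,3,3,3], [2,2,1,1,2], [2,2,2,1,0,1,0], [0,3,0,3,0,3,3,2], [1,1,0,3,2,3], [2,2,3,0,0,1,1,2], [0,3,0,1,1,1,1], [1,0,3,3,0,0,3,0], [3,2,1,0,0,3,2,2], [0,1,0,3,2,3,3,3], [3,0,1,2,1,2,2,2], [1,1,1,2,2,3,0], [1,0,0,1,2,3,3,0], [2,1,0,0,1,1], [3,0,0,3,3,3], [2,1,1,2,1,2,3,3], [3,2,1,2,3,2,3,3], [3,2,2,1,0,1,0,0], [2,2,2,3,0,0], [0,1,1,0,3,0,3], [1,1,0,1,1,0,1], [3,2,3,2,2], [2,1,1,1,0,0,0,1], [2,1,1,1,0,0,1,2], [0,1,1,0,0,3,2,2], [1,2,1,0,0,3,2,2], [0,3,0,0,0,3,0], [3,2,1,2,2], [2,3,2,3,0,3], [0,1,2,3,2,3,0,0],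 [3,0,0,3,0], [2], [2,1,2,3,0,1,0], [1,2,2,1,0,3,3], [1,2,3,2,3,0], [0,1,2,1,0,3,3], [1,1,0,1,2,1], [1,2,1,0,1,0,0,0], [1,2,3,3,3,2,3], [1,0,1,2,3,2,3,0], [1,1,0,1,0,3,0,1], [1,1,0,3,3,2,3,3], [0,1,1,2,3,0,0], [3,2,3,3,0,1,0], [3,2,1,0,3,0,1], [0,3,3,0,0,3,2], [3,0,3,0,1], [1,1,2,1,0,1,2]]

/-- Part of the paths. -/
def pathsDZero34 : List (List ℕ) := [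
[0,0,1,2,2], [1,2,3,2,3,3,0,0], [0,1,0,1,1,1,1], [3,2,1,1,1,1], [1,1,0,1,0,3], [2,3,3,0,3,2,2], [0,0,3,2,1,0,0,0,0], [1,0,3,3,3,0], [0,1,2,2,3,2,2,3], [2,2,2,1,0,1], [3,0,0,0,0,0,0,3], [0,0,1,2,1,1], [3,0,1,0,0,0,3], [0,3,2,3,3,2,3,0,0], [3,2,3,3,0,1,1,0,0], [2,3,2,1,0,0,3], [2,2,1,1,2,1,0,1], [1,1,1,1,2,3,0], [1,2,1,0,3,3,2,3,0], [1,1,2,3,0,0,3,0], [3,3,2,1,1,1], [0,3,0,1,2], [3,0,0,0,0,3,2,3], [1,2,2,3,3,2,1,1], [2,1,0,1,2,1,0], [3,3,3,3,0,0], [2,2,2,1,2,1,0,1], [0,0,0,1,0], [2,1,1,0,3,3,3,0], [3,3,0,3,3,3,2], [1,1,2,3,3,2,1,1,0], [0,0,3,3,0,3,0,0], [1,0,0,0,3], [0,1,2,1,1,0,0,0,1], [0,1,1,0,0,0,1,0], [1,1,1,2,1,0,1,0], [2,2,3,0,3,0,1,2], [2,3,0,1,0,0,1,1], [1,0,1,0,1,2,1,2], [1,1,1,1,0,1],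 [0,0,0,3,3,0,0], [0,0,3,0,1], [1,1,1,1], [1,2,1,2,2,2,1,0], [2,2,2,1,2,1,2], [3,2,3,2,1,1,1], [0,1,0,0,1,2,2], [1,0,3,0,1], [3,3,0,1,0], [0,3,0,1,2,3,2,3,0], [2,3,2,1,0,1,1,0,0], [1,1,0,3,3,3,3,0], [1,2,3,0,0], [1,0,1,1,0,0,3,0], [0,0,1,0,0,1,2,2], [1,0,3,3,0,1,1,0], [3,2,3,0,3,0,1], [3,3,3,0,0,3,2], [2,2,2,2,1,2,3,0], [3,2,3,2,1,1,1,1], [0,1,1,1,1], [2,3,2,2,3,3,3,3], [2,3,2,1,2,2,1,1], [1,1,2,3,3,2,1], [3,0,1,2,2], [2,1,2,3,2,3,0,0,0], [1,0,0,1,2,1,0,3], [2,1,0,0,1,2,2,1], [2,2,1,2,1,0,0], [2,1,1,1,0,1], [3,0,1,1,2,3,0,1,0], [3,2,3,0,1,2,2], [2,3,0,0,1,1,1], [1,1,1], [0,1,0,3,0,1,0], [1,0,0,3,3,2,1,0], [2,1,0,0,3,0], [2,2,1,1,1,1,0,1], [2,1,2,3,0,1,0,0], [1,1,0,3,3,2,1], [2,3,0,1,0,3,2,3],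 [3,2,1,1,0,0,3], [0,1,1,0,3,2], [0,3,0,3,2,2,2,1], [3,0,0,3,3,3,3,0], [1,1,0,1,1,2,1,0,0], [2,3,0,3,2], [1,1,2,2,3,0,0], [2,1,1,0,0,3], [0,1,1,1,1,1,0], [1,2,1,1,0,0,3], [0,0,3,0,0,3,2], [1,2,2,1,2,1], [3,3,3,0,3,2,1], [0,3,3,3,2,2,1], [2,2,1,0,0,1], [3,3,0,1,0,3,0,1], [0,1,0,3,0,1,2], [0,3,3,2,3,3,0,1], [3,2,1,2,3,3,0,1]]

/-- Part of the paths. -/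
def pathsDZero35 : List (List ℕ) := [
[2,2,3,0,0,0,3], [0,3,3,3,0,0], [0,3,3,3,3,2,2,1], [0,1,0,0,0,1,0], [0,3,0,3,3,3,2], [1,1,1,1,2,3,3,3,2], [2,2,2,1,0,3,0], [2,2,2,3,3,0,0,0], [2,2,1,1,1,2,2,1], [1,1,2,1,2,1,2], [2,2,1,1,2,2,1,2], [2,1,1,2,2,2,1], [2,1,0,3,3,0,1,0], [2,3,0,0,0,3,0,0], [0,1,1,0,3,3,3,0], [3,3,2,2,1,1], [3,0,1,0,3,2,3,0,0], [3,2,2,2,1,1,2,2], [3,0,0,0,0], [1,0,3,0,0,0,0,0], [0,0,0,1,1,0,1,0], [0,3,0,0,1,2,2,3], [1,2,2,1,2,2,2,1], [3,2,2,3,0,0,1,2], [3,3,0,1,1,0,0], [2,1,2,3,2,2,2], [3,2,3,3,0,1,2], [1,2,3,2,1,2], [2,3,3,2,1,2,2], [1,0,3,3,0,0,0,0], [1,1,2,1,0,1], [0,3,2,2,1,1,1], [2,3,0,1,2,2], [3,3,3,0,0,1,0], [1,2,2,3,2,2,3,0], [0,3,3,0,3,0,0,0], [1,2,1,1,1,0,1], [3,3,3,3,0,1,1],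 [2,1,2,1,1,1,1,2], [3,2,1,0,0,0,1,0], [3,0,3,3,0,0,3], [1,0,3,3,0,3,3], [1,2,1,0,0,1,2,1], [2,2,3,2,2,3], [2,1,1,2,1,2,3], [1,2,1,2,1,2,1,0], [1,0,3,0,0,1,0,1], [3,0,0,1,2,3,3,0], [2,3,2,1,2,2,2], [2,3,0,0,1,0,3,3,0], [0,1,2,1,1,2,2,1], [3,0,1,2,1,1], [2,1,0,3,2,3], [1,1,0,1,2,1,2], [1,1,2,2,1,1], [2,2,2,1,2,1,0], [2,1,2,3,0,1,1,0], [2,2,1,0,0,3], [2,2,3,3,3,2,3], [3,0,0,3,0,3], [1,2,1,1,0,3,2], [3,2,1,2,1,2,1], [2,2,1,0,0,3,0,1], [2,1,1,2,2,1,1], [1,1,2,3,0,3], [2,3,2,2,3,0,0], [0,0,0,1,1,1], [0,3,2,3,0,3,0], [3,0,0,1,1,1,2], [0,3,2,3,2,1,2], [3,2,2,1,0,3], [2,1,1,0,3,2], [2,1,2,1,2,3], [1,0,1,0,3], [3,3,0,1,0,0,0,3], [3,3,2,1,0,1,1,1], [2,3,2,2,1,1,0,0,0], [0,3,2,2,2], [0,3,0,3,3,0,1], [3,0,0,3,0,0,3],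 [2,1,0,3,3,2,3,0], [1,2,1,0,1,2], [0,0,0,3,3,0,3,2], [3,2,1,2,1,0,3,0], [3,3,0,0,1,1,1,2], [1,1,0,1,1,2], [0,3,3,3], [3,3,3,0,1,1,2,1], [2,2,1,0,3,2], [1,1,0,1,0,0,3,0], [1,2,2,3,0,3,3], [0,1,2,3,0,1,1], [1,0,1,2,2,2], [3,3,0,3,0], [0,1,2,2,2,2,3], [1,0,1,1,0,1,2], [2,2,2,2], [3,3,0,3,0,0,1], [3,3,2,1,2], [0,0,1,1,0,1,2]]

/-- Part of the paths. -/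
def pathsDZero36 : List (List ℕ) := [
[1,0,1,1,2,1,0,0], [0,1,2,1,1,0,1], [0,0,1,0,0,0,0], [1,1], [1,1,1,1,1,0,0], [2,1,2,1,0,0,0,1,0], [0,0,0,1,1,0,0], [0,0,3,2,1,2,1,0], [1,2,1,1,0,3,0,0], [3,0,0,3,3,3,2], [2,2,1,1,2,2,3,0], [3,3,0,3,2,3,3], [3,0,3,3,0,0], [0,3,3,3,0,0,3], [1,2,2,1,2,3,0,1], [1,1,0,0,3,0,0,0,0], [2,1,1,0,3,0,0], [1,0,0,3,3,0,0,0], [2,2,2,3,2,3], [3,0,0,1,2], [1,1,1,2,3,0,1,1], [3,3,3,3,0,3], [3,3,0,3,3,0,0], [3,3,3,0,1], [2,1,2,1,2,2,2], [2,1,0,1,2], [2,3,3,3,0,0,1,0], [1,1,2,3,3,0,1], [0,1,0,3,0,3,0], [2,3,0,3,2,2,1,1], [0,0,3,0,3,2,3,3,0], [1,2,3,3,3,2], [1,2,1,0,1,1,0], [0,0,1,0,0,0,0,1,0], [3,3,2,1,2,2,1], [3,3,2,2,2,2,2], [3,3,0,3,2,1,0,0], [1,1,2,3,3,3,0,1], [1,2,2,2,1,0,3,0],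 [1,1,2,3,0,3,0,0], [1,2,2,1,0,0,1], [3,0,1,2,1,1,1], [0,1,2,1,2,1,2], [2,2,1,2,3,2,3], [3,3,2,2,2,2,1], [1,2,3,2,2,3,0], [1,2,3,3,0,1,1,1,0], [2,1,1,0,1], [0,0,0,0,1,2,2], [2,3,0,1,2,1,0,1], [3,2,3,0,3,3,0,0], [3,2,1,1], [2,3,3,2,1,2], [3,0,3,2,1,2,1,0], [3,0,1,0,0,0,0], [3,3,3,3,0,0,3], [3,0,0,1,1,0,0], [3,2,1,1,1,1,1,0,0], [1,1,2,1,2,2,2,2], [0,3,2,1,0,1,2], [1,1,2,1,1,1,0,3], [0,1,1,0,0,1], [1,1,2,2,3,2,2,3], [0,0,0,3,0,1,0], [3,3,0,0,0,1,0], [2,1,0,0,0,1,0,0], [1,2,2,2,1,0,3], [0,0,0,0,3,0,1], [0,0,0,1,1,1,1,1], [0,1,1,2,3,2,1], [0,3,0,1,1,0,1,0], [0,0,0,0,3], [0,0,0,0,3,3,2], [0,1,2,1,0,3,0], [1,1,1,1,0,1,1], [0,3,0,0,3,2,2,1], [3,3,3,0,0,1,2,2], [2,2,1,2,3,0,0,0], [2,1,1,0,0,3,2], [0,3,2,2,3,2,2],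 [3,2,1,2,2,1,1,2], [3,3,2,3,0,1,0], [1,0,1,2,2,3,0,0,0], [3,0,1,0,3,0,1], [0,1,1,1,2,2,1,0], [1,0,1,0,0,0,1,0], [0,3,0,3,3,3], [0,3,0,0,3,2,2,2], [2,1,0,0,0,3,0,1], [1,2,2,2], [0,3,0,0,0,0], [2,3,2,3], [1,1,2,1,2,3,0], [3,2,2,2,1,2,2,1], [0,1,2,1,2,1], [2,2,3,3,2], [1,0,3,3,3], [1,0,3,0,3,0,0], [0,3,3,3,0,0,1,0], [2,1,0,3,0,3,2,1]]

/-- Part of the paths. -/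
def pathsDZero37 : List (List ℕ) := [
[0,3,0,3,3,0,3,0], [1,0,3,3,3,0,1], [1,1,0,1,2], [1,2,3,0,0,0,0], [1,0,0,1,1,0,1,2], [3,3,0,3,3,0,1], [0,0,1,1,2], [2,1,0,1,0,1,2,1,0], [0,0,1,0,0,3,0], [1,2,2,1,0,0,0], [0,1,1,1,2,2], [1,2,2,2,1,0,1,0,0], [3,3,0,1,0,0,3,3,0], [1,2,1,1,0,0,0,1], [2,3,3,2,1,1,1], [3,2,1,0,1,0,3], [2,1,1,0,3,0,3,0], [1,2,2,2,1,2,1], [0,1,1,2,2,1,1,0], [0,3,3,2,2,2,2], [1,1,2,2,1], [0,3,3,3,3,0,0,1], [2,2,3,0,0,3,0,0], [2,1,1,0,3,0,1,0,0], [2,3,2,2,1,0,1,0], [1,2,1,2,3,2,3], [0,0,0,0,1,0], [0,1,1,2,2,1,1,2], [1,2,2,1,0,3,2], [2,3,3,0,3,3,0,1,1], [2,1,0,1,2,3,2,2], [0,1,2,1,1,2,1,1], [1,2,2,2,2], [3,3,0,0,0,1,0,0], [1,1,0,0,3,2,1,1], [3,2,3,3,0,3,0,0], [3,2,3,2,2,3,3,0], [2,1,0,3,0,0,0,0],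 [0,0,3,3,2,2,3,0], [0,3,3,0,3,0], [0,1,0,1,1,0,1,2], [3,3,0,0,1,0], [2,2,2,2,1,0,3], [2,1,1,1,0,1,2], [1,2,2,2,3,3,0], [1,1,2,3,2,1,2], [2,3,0,0,0,0,3], [1,2,3,0,0,3,3], [0,3,3,3,2,1,1], [1,1,0,3,2,1,0,0], [0,1,1,2,3,2,1,2], [0,3,0,3,3,0,0,1], [0,3,3,3,0,1,1], [2,1,1,0,0,0,1], [1,1,2,1,1,2,1,1], [3,3,0,1,2], [1,0,1,1,0,0,0,0], [3,0,3,2,1,0,1,2], [3,2,3,3,2,1,1,1], [1,1,2,3,0,0,3], [2,3,2,2,3,3,0], [3,3,2,3,3,0,1], [1,0,0,0,1,0], [3,0,0,1,0], [2,2,3,0,0,0,0], [2,2,3,0,1,1], [2,1,2,1,2,1,0], [3,2,2,3,3,3,3], [3,3,0,3,0,0,3], [2,3,2,3,3,0,3,0], [0,3,2,2,2,1,0,3], [2,2,2,2,2,3], [3,2,1,2,2,1,1], [1,2,2,1,1], [2,3,3,3,3], [0,0,3,0,3,2,1], [1,0,3,3,0,1], [2,2,1,2,1,2,1], [2,3,2,2,2,2,2], [3,3,0,3,0,1,0,1],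 [2,1,0,1,2,3], [0,3,0,1,0], [0,1,1,0,3,0,1], [0,1,0,0,3,0,1], [1,2,2,3,3,3,0], [2,3,3,2,1,1,1,0], [2,2,1,0,1,0,1], [3,0,3,0,3,0,0,0], [2,3,3,3,0,1,2], [1,0,1,2,2,2,2], [2,1,1,2,1,2,1,2], [2,3,3,0,3,0,0], [0,1,1,1,1,1], [3,2,1,1,1], [2,2,2,2,3,2,3], [1,0,3,2], [2,3,3,0,0,1,1], [0,3,3,0,3,2,3,0], [3,2,2,3,0,3,2], [1,1,1,1,0]]

/-- Part of the paths. -/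
def pathsDZero38 : List (List ℕ) := [
[0,0,0,3,2,1,2], [2,2,1,0,3,2,1], [1,0,0,0,0,0,3], [1,1,1,2,3,3,0,0], [3,3,3,3,2,2,1], [0,0,0,0,0,1,1,0], [3,0,3,0,0,3,2], [0,1,1,2,1,2,1], [1,2,1,2,1,1,0], [3,0,1,2,3,0,3,0,1], [0,1,2,2,2,2,1,0], [1,2,1,1,0,0,1], [0,3,0,0,1,2,2], [1,1,2,2], [1,2,2,3,0,0,3,0,0], [3,0,1,0,0,3,0], [3,3,3,2,2,2,2], [0,0,1,0,3,3], [1,1,2,2,3,2], [3,0,3,0,1,2,2], [3,0,1,1,2], [0,1,1,2,2,1,0,3], [1,1,2,1,2,3,2,3], [1,2,2,1,1,0], [1,0,0,3,0,1], [2,3,0,3,3,0,1,0], [0,1,1,0,3,0], [3,0,1,2,1,0,1,2], [3,3,0,1,1,1,2], [2,3,3,2,1], [2,1,2,1,0,3,0,0], [3,3,0,1,1,1,1], [0,3,0,0,0], [0,0,3,2,3,0,0], [2,2,2,2,1,1,2], [3,0,3,2,2,1,0,3], [3,3,0,3,0,3,3,2], [1,2,1,0,0,3], [2,3,0,1,2,3,3],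 [0,1,1,2,2,3,3,0], [3,3,0,0,0,3,0], [1,2,3,2,3,3], [0,0,0,3,3,3], [0,1,2,1,0,0,1,1], [1,0,0,3,2,2], [3,2,3,0,0,3,0], [2,3,2,2,3,3,0,1], [2,1,0,3,3], [1,0,1,1,2,1], [3,2,2], [2,3,2,3,0,0], [1,0,1,2,1,1,0], [2,1,0,1,0,0], [1,2,2,1,1,0,0,0], [2,1,2,1,2,3,0,0], [1,2,1,1,1,1,1,0], [3,0,0,0,0,0,0], [1,2,3,2,2,2,1], [1,2,1,2,2,1,1,2], [2,2,1,1,2,1,1], [3,3,2,2,1,0,3,0], [3,3,0,0,0,1,2,1], [0,1,0,1,1,1], [3,0,3,2,1,1,2], [3,0,0,0,0,3,3], [2,1,2,2,1,1,2], [3,0,1,2,2,1,2,1], [2,2,2,2,2,2,2,1], [0,3,3,2,2,1,1], [0,3,0,0,0,0,1,1,0], [2,1,1,0,1,2,3,3], [1,1,2,1,0,3,2,2], [3,2,2,3,3,0], [0,0,1,1,1,1,1], [2,1,2,2,1,1,0], [1,1,1,2,3,3], [0,1,0,3,3,0,3,0], [1,0,0,0,0,0,1], [1,2,3,0,0,3], [2,3,0,0,1,1,1,0],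 [1,2,2,2,2,1,0], [1,2,1,0,1,0,1,1], [3,2,2,2,1,2,3,2], [3,3,0,3,0,0], [3,0,0,0,0,0], [3,0,0,0,1,0], [1,1,1,2,3,2], [3,3,2,3,0,1,2,2], [0,3,2,3,0,1,0], [1,2,2,1,1,2], [0,3,3,2,3,3,2,3,0], [0,1,1,2,2,2], [1,0,3,3,2,1], [3,2,1,2,2,2,2], [2,1,1,2,1,1], [1,0,0,1,2,1,0,0], [2,1,1,1,0,3,0], [1,0,1,0,3,2,2], [2,2,1,2,2,2,1,0], [1,1,1,1,2,3,2,3]]

/-- Part of the paths. -/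
def pathsDZero39 : List (List ℕ) := [
[1,1,1,1,0,3,0,0], [2,3,2,2,2,3,0,1], [2,2,2,3,3,0], [3,3,0,0,3], [0,0,1,2,1,0,3,0], [0,1,0,0,3,3], [1,0,1,2,2,1,0,0], [3,3,2,1,1,0,0,1], [2,3,0,1,2,2,3], [3,3,0,0,3,0,1], [0,1,1,2,2,2,3], [2,2,2,2,2,1], [3,2,2,2,3,0,0,0], [0,0,3,2,3,3,0], [1,1,2,1,0,3,3,0], [3,3,0,0,1,1,1], [0,0,3,0,3,2,3,0], [0,1,0,3,0,0,0,0], [0,1,2,2,3,3,2], [3,3,0,1,2,1,1], [0,1,1,2,3,0,0,0,0], [3,2,1,1,2,1,1,0], [2,2,1,2,2,1,0,1], [0,1,1,1,0,1,2], [3,2,1,0,1,1,1,0], [2,2,1,2,2,2], [2,1,2,1,1,2,2,1,0], [0,1,2,3,2,3], [2,2,1,2,2,1], [1,1,0,1,0,1], [2,2,1,1,0], [0,1,2], [0,0,0,3,0], [1,1,2,1,0,0,0], [1,2,1,1,2,2,1,0], [3,0,0,0,0,0,0,0], [3,3,0,1,2,1,2,1], [3,3,2,3,3,3], [3,2,2,2,3,0,1,0,0],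 [0,3,0,1,0,1,1,0], [0,3,3,0,1,2,1], [1,2,2], [2,2,1,2,1,0,3], [3,0,3,0,0,1,1], [2,1,2,1,1,2,2], [1,2,3,3,0,3,0], [1,0,3,3,0,0,0], [2,2,2,1,0,3], [0,3,2,1,1,0,0,1], [1,0,3,3,2,3,0], [3,3,2,3,0,0,3], [2,2,2,1,0,1,0,0], [0,3,0,0,3], [1,1,1,0,1,1], [0,3,0,0,3,3,2], [1,0,0,0,3,2,2], [3,2,2,1,2,3,0], [1,1,2,1,2,1,2,1], [2,2,3,2,3,0], [2,2,3,0,0,0], [2,2,1,1,1,0,0], [0,3,2,3,3,3], [2,2,3,0,1,0,0], [0,3,0,1,2,1,2,1], [0,0,0,0,0,0,0,0], [1,0,3,0,3], [1,2,1,2,2,3,2,1], [0,1,0,0,0,3,0], [0,1,0,1,2], [3,2,2,1,0,0,1,1], [1,2,2,3,3,2,2], [3,3,0,0,1,1,2,1,0], [0,0,3,0,0,1,1], [0,1,1,2,2], [1,1,0,1,1,0,1,0], [1,1,2,2,1,1,0], [1,2,2,1,0,0,3], [1,1,2,1,1,0], [2,1,1,1,2,2,1], [1,1,0,3,2,2,2], [1,1,2,1,2,1,0,3],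 [2,1,0,1,2,1,1,1], [0,3,0,1,2,1,1], [2,3,0,0,0,1,0,0], [1,0,1,1,1,0], [1,1,2,1,1,0,0,1], [1,0,0,3,2], [2,3,0,3,0,0,0], [2,1,0,1,0,3,3], [3,2,1,0,0,0,1], [3,0,0,3,2,1,2], [2,1,0,3,3,3], [0,0,0,3,0,3,3,2], [0,1,1,1,2,3,0,3], [3,0,0,0,0,1,1,0], [0,0,0,3,0,3], [3,2,1,0,3,2], [1,0,1,0,3,3,3,2], [0,0,0,1,1,1,1], [3,2,1,1,1,1,0]]

/-- Part of the paths. -/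
def pathsDZero40 : List (List ℕ) := [
[3,0,0,3,2,1,1], [2,1,0,0,1,2,2], [2,1,1,2,1,0,3], [2,3,3,3,3,2,2], [1,2,1,2,1], [1,2,3,0,1,0,0], [0,1,2,3,0,3,2], [1,2,2,3,0,1,1], [1,2,2,1,1,1,0,1], [3,0,0,3,3,2,1,0], [2,3,3,2,2,1,0], [0,0,0,3,3,3,3,0], [1,1,0,0,3], [3,2,2,2,1,0,0,3], [0,3,3,0,3,2,1], [2,1,2,2,2,1], [3,3,2,3,0,3,0], [3,0,0,1,1,1], [1,1,0,3,0,1,0], [1,1,0,3,3,0,1], [0,1,2,2,1,0,0,1], [3,2,3,3,3,0,0,1,0], [1,1,2,1,0,3,0], [0,0,3,2,3,2,2], [3,3,2,2,1,1,1], [3,0,0,0,1,2,1,1], [1,2,3,3,0,1], [2,2,2,1,0,1,1,0], [1,0,0,1,1,1,0], [0,0,1,2,1,0,0,1], [1,2,1,2,2,3,2], [2,3,0,0,1,2,2,3], [3,3,3,0,3,0,0,0], [1,1,0,0,0,3,0,1,0], [1,1,0,3,3,3,2], [1,2,3,0,3], [1,0,1,1,2,2,2], [3,0,3,2,2,3,2,1], [3,0,1,0,1,1,1,1],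 [0,0,3,3,3,3,0], [2,3,2,3,3,0,0], [1,1,0,3,0,0,1], [3,0,0,3,2,3,2,2], [1,2,3,0,1,2,3], [2,1,1,2,2,2], [3,2,1,1,2,2,1,1], [0,1,0,0,0,0,0], [1,2,1,2,3,2,2,3], [0,0,1,1,1,0,3,2], [2,1,1,2,2,1], [2,1,2,1,1,0,1], [0,1,1,0,1,2], [1,2,2,3,2,3,0], [3,0,3,0,3,2,1,2], [0,0,0,0,0,1,0], [3,3,3,0,0,0,0,0], [2,3,3,0,1,0,1], [3,3,3,0,3,0], [3,3,3,3,2,1,1], [2,3,3,0,0,3], [0,1,0,1,2,3,3,0], [1,1,2,3,3,0,3,0], [0,0,3,2,1,0,1,0], [3,3,0,1,2,3,3,2], [0,1,1,0,0,3,2,1,2], [2,1,2,2,2,1,0], [1,2,2,2,3,2,3], [0,3,3,3,3,0,0,1,0], [1,1,0,3,3,0,0,0,0], [2,2,2,3,2,3,0], [1,2,1,0,1], [3,2,3,0,0,3,0,0], [2,1,2,1,1,1,0,0], [0,3,0,1,2,1,1,0,0], [2,1,0,0,0,0], [2,1,2,3,3,0,3,0], [1,0,3,2,2,1,1,1], [1,2,1,0,1,0,1], [3,2,1,2,2,3,0,0],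 [2,3,2,3,3,3,3], [1,1,2,1,0,0,3,3], [1,1,0,0,0,0,1,0], [3,3,3,2,3,0,0], [1,0,0,0,0,0,0], [0,0,0,1,2,1,1], [2,3,0,0,0,1,0,3], [3,3,2,3,0,0,0], [0,1,1,2,3,0,0,3,0], [0,0,0,0,1,1,1], [1,2,1,0,0,0,3,0], [2,2,3,0,1,2,2], [1,2,3,3,0], [2,3,2,1,0,0,0,0], [1,1,0,0,0,1,0,3], [3,3,2,1,1,0,3,0], [0,1,1,0,0,3,2], [3,3,0,0,0,0,0], [3,2,2,1,2,1], [3,3,0,0,0,3,3], [2,1,2,3,3,0,1]]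

/-- Part of the paths. -/
def pathsDZero41 : List (List ℕ) := [
[1,2,3,0,1,0,0,1], [1,0,0,3,0,1,0,0], [1,0,0,0,1], [1,2,1,0,3,2,2], [0,3,0,3,2,1,1], [3,2,2,1,2,1,0,1], [2,1,2,2,2,2,2], [1,2,1,1,0,0,0], [3,0,3,3,0,1,1], [0,3,0,3,2,1,2], [2,2,1,1,2,2], [3,0,3,3,2,2,1], [1,2,1,0,3,0,0,0,0], [0,0,0,0,0], [0,3,2,2,1,1], [2,3,0,0,1,1], [1,0,1,1,1,0,1,0], [0,3,0,1,1,0,0], [1,2,1,2,1,1,1,0], [2,1,2,3,2,1,1], [2,2,3,0,1,2,1,2,1], [2,2,1,0,0,0,3,0], [2,3,0,0,1,2], [2,2,2,1,0,3,0,3], [2,2,1,2,2,1,1,0]]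

/-- The paths. -/
def pathsDZero : List (List ℕ) := ([pathsDZero0, pathsDZero1, pathsDZero2, pathsDZero3, pathsDZero4, pathsDZero5, pathsDZero6, pathsDZero7, pathsDZero8, pathsDZero9, pathsDZero10, pathsDZero11, pathsDZero12, pathsDZero13, pathsDZero14, pathsDZero15, pathsDZero16, pathsDZero17, pathsDZero18, pathsDZero19, pathsDZero20, pathsDZero21, pathsDZero22, pathsDZero23, pathsDZero24, pathsDZero25, pathsDZero26, pathsDZero27, pathsDZero28, pathsDZero29, pathsDZero30, pathsDZero31, pathsDZero32, pathsDZero33, pathsDZero34, pathsDZero35, pathsDZero36, pathsDZero37, pathsDZero38, pathsDZero39, pathsDZero40, pathsDZero41] : List (List (List ℕ))).flatten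

theorem testsOKDZero : testsOK (plain testsDZero) codeDZero = true := by decide +kernel

theorem certDZero : certAll hsMats (enc (repDZero : GolayPt → ℤ)) (chosen codeDZero) pathsDZero = true ∧
    Nat.beq (chosen codeDZero).length 4125 = true := by decide +kernel

theorem ncardDZero : (pickL testsDZero).ncard = 4125 := (ncard_pickL testsOKDZero).trans (Nat.eq_of_beq_eq_true certDZero.2)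

theorem reachDZero {S : Subgroup Co0} (hS : ∀ g ∈ hsElts, g ∈ S) :
    ∀ y ∈ pickL testsDZero, ∃ g ∈ S, g • repDZero = y :=
  transitive_of_cert isMat_hs hS testsOKDZero (by decide +kernel) certDZero.1

theorem memDZero : repDZero ∈ pickL testsDZero := by
  refine ⟨by decide +kernel, ?_⟩
  simp only [testsDZero, List.forall_mem_cons]
  exact ⟨by decide +kernel, by decide +kernel, fun _ h => absurd h List.not_mem_nil⟩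

end CfsgLib.Spor.Leech.Census32
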