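/-
Orbit certificate B.
-/
import Cfsg.Agent.Lib.Spor.Leech.Census.Data.Gens

set_option autoImplicit false
set_option maxRecDepth 20000
set_option maxHeartbeats 0

namespace CfsgLib.Spor.Leech.Census32

open Cfsg

/-- The tests. -/
def testsB : List (leechLattice × ℤ) := [(u3L, 24), (v1L, 16)]

/-- Their numbers. -/
def codeB : List (ℕ × ℕ) := [(84422585336595084411719813305156662600740575543670887098873042517394523179145638498894440270584955825472164, 4344), (112562520735956409447851611267016991984580410813578825706846029514451041733003352209561054719109825197491232, 4176)]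

/-- Part of the paths. -/
def pathsB0 : List (List ℕ) := [
[], [0,1,0,1,1,0], [2,1,2,2,2], [1,0,1,0], [0,1,1,0,1,0], [2,3,2,3,2], [3,0,3,2], [0,0], [0,0,3,2,2], [0,3,0,1,2], [3,3,2,3,2], [3,2,3,3,2,1,2], [2,2,1,1,0,0], [0,1,0,0], [0,3,0,0,3,0,0], [0,3,2,2], [1,1,0,0], [1,0,1,2], [3,2,2,1,0,0], [2,2,1,2,2,2], [2,1,0,1,2,2], [1,2,2,1,1,0], [0,3,2,3,0,0], [0,1,0,0,1,0,0], [2,2,1,2,1,0,0], [2,1,2,1,0], [3,3,2,2,1,0,0], [1,0,0,0,3,0,0], [3,0,1,2,2,2], [2,3,2,3,0,0], [3,3,0,1,1,0], [1,2,3,0,1,0], [1,2,1,2,2], [2,2,3,3,2,2], [2,3,3,0,1,1,0], [3,2,3,2], [0,3,3,2,3,2], [3,0,0,1,2], [3,0,3,0,1,1,0], [2,2,2], [2,1,0,0,1,2], [2,1,1,0,3,2], [0,1,2,1,1,0], [2,1,1,0,0], [1,0,0], [2,3,0,3,0,0], [2,3,2,3,0], [0,3,0,3,2], [0,1,2,3,2], [1,2,3,3,2], [0,1,0,3,0,1,0], [1,0,0,1,0,0], [1,1,2,1,0,0], [2,2,2,1,2],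 [2,3,3,2,3,0], [2,1,0], [0,0,3,0,0], [2,2,2,1,2,2], [2,1,2,3,0], [0,3,0,1,1,0], [1,0,3,2,2], [2,2,3,0,0], [1,2], [3,0,0,1,0,0], [0,0,1,2,1,2], [0,3,3,2], [2,2,1,1,2,2], [2,3,3,0], [1,2,2,2,1,1,0], [2,1,1,2,1,0], [3,3,2,2,2], [0,3,3,0], [1,1,2,3,0,0], [2,3,3,0,3,0], [2,1,2,1,2], [0,3,0,3,0], [0,1,2,2,1,0], [0,3,3,0,3,0,0], [0,0,1,1,0], [0,0,0,1,1,0], [2,3,3,2,2], [0,1,0,1,2], [2,2,1,0,1,2], [3,2,1,1,2,2], [2,2,3,0,1,2], [0,3,3,0,1,1,0], [3,2], [2,1,0,3,3,0], [0,0,1,0,0], [0,1,2,2,2], [2,1,0,0], [0,1,2,1,0], [3,2,1,1,0,1,0], [1,2,3,2], [3,3,2,1,0], [1,0,3,0,0], [3,0,1,2,1,1,0], [1,1,0,1,0,1,0], [0,0,3,2], [1,0,3,0,1,0]]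

/-- Part of the paths. -/
def pathsB1 : List (List ℕ) := [
[2,2,1,2,1,0], [2,2,3,0,1,0], [3,3,2,2], [2,1,2,3,0,1,0], [1,2,2,2], [2], [3,0,3,2,1,0], [1,0,1,2,2], [1,2,1,2], [0,3,0,0,1,0,0], [2,2,2,1,1,0], [0,1,1,0], [3,3,0,3,0,0], [2,3,0,0], [2,2,1,2,2], [3,2,2,1,0], [2,3,2,1,0], [3,3,2,3,0], [3,0,1,2,2], [2,1,2,2], [3,2,2,3,3,2,2], [1,0,0,1,1,0], [2,3,2], [0,1,2,1,2,2], [3,0,0,1,1,0], [0,3,0,1,0], [1,0,3,2], [1,0,3,3,0,1,0], [1,2,1,0,0], [1,1,0,0,1,0,0], [2,2,2,1,0,0], [3,3,0,3,2], [1,2,3,0,0], [0,0,0], [3,2,3,0], [3,3,0,1,2,2], [0,0,3,3,2,1,0], [3,3,2,3,0,0], [3,2,1,2], [1,2,1,0], [2,1,0,1,2], [0,0,0,1,0,0], [3,2,2,1,2,2], [1,0,1,1,0], [3,2,2], [1,1,0,3,0,0], [3,2,2,1,1,2,2], [3,0,0,3,0,0], [0,3,0,0,0,1,2], [1,1,0], [2,1,0,1,0,1,0], [3,2,2,2], [2,3,0,1,1,0], [0,3,2,2,2], [1,2,2], [1,0,1,2,1,2],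 [0,0,0,1,2,2], [3,0,3,3,2], [2,3,0,3,0], [0,1,1,2,2], [3,2,1,2,2], [1,2,3,3,2,1,2], [2,3,2,2], [3,0,1,0], [3,2,2,2,1,1,0], [3,3,0,3,3,2], [1,0,3,3,0], [0,3,3,2,1,0], [1,1,2,2,2], [2,1,2,1,0,0], [1,0,3,0,1,2], [1,1,2,2,1,0], [0,0,1,2,2], [0,0,0,3,0,0], [0,1,2,2], [0,1,2,1,2], [3,0,1,2,1,0], [2,2,1,2], [3,2,1,0], [2,1,1,2,2], [0,1,2,3,0], [1,0], [0,1,1,2,1,0], [1,1,2,2,1,2], [3,0,1,2,3,0], [2,2,1,1,0], [3,3,0], [1,1,2,1,0], [0,3,0], [1,0,0,3,2], [1,0,1,0,1,0], [2,2,2,3,0,0], [3,3,0,3,0], [2,2,3,2,2,2], [1,2,2,1,0], [3,0,0,0,1,2], [2,3,2,2,2], [3,0,0], [2,1,0,0,3,2], [3,0,3,0]]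

/-- Part of the paths. -/
def pathsB2 : List (List ℕ) := [
[2,3,3,2], [1,2,3,0], [3,0,1,1,0], [0,3,3,0,3,0], [0], [1,2,3,2,2,2], [1,1,2,1,2], [2,3,0,1,2], [3,0,0,1,2,2], [1,0,3,3,2], [0,1,0,1,0], [0,1,1,0,0], [1,1,2,3,0], [1,2,1,2,1,2], [1,0,0,1,2], [0,3,3,0,3,2], [0,3,3,2,1,2], [0,3,0,0], [2,2,1,0], [0,0,1,2], [2,1,1,0], [3,3,2], [2,3,3,0,1,0], [2,3,0,1,0,1,0], [2,1,2], [0,3,2,1,0], [0,1,0,0,3,2], [2,1,2,2,1,0], [1,1,0,1,0], [1,2,2,1,2], [2,1,2,2,1,2], [3,0,1,2], [1,1,0,3,3,2], [0,3,3,0,1,0], [0,3,3,2,3,0], [3,3,2,1,2], [3,2,3,2,2,2], [3,0], [2,3,3,2,1,2], [0,0,0,1,2], [0,1,2], [2,2,2,3,2,2,2], [1,1,2,2], [3,3,0,1,0], [3,2,3,0,0], [1,2,1,1,0], [3,2,3,0,1,2], [0,0,1,2,1,1,0], [0,1,0], [0,0,3,3,0,1,0], [2,3,0], [3,0,1,0,1,0], [3,2,1,0,0], [1,1,0,3,2], [3,2,1,2,2,2], [1,0,3,0,1,1,0], [0,1,1,0,3,0,0],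 [2,2,1,0,0], [3,0,1,2,3,2], [2,2], [0,3,2], [1,0,0,1,2,2], [1,2,2,1,0,0], [3,0,3,0,0], [0,0,0,3,2], [0,0,3,0,1,0], [2,3,0,1,0], [2,1,2,3,2], [1,0,3,0,3,0], [0,3,2,1,2,2], [0,0,3,2,1,2,2], [1,2,2,3,0,1,2], [2,1,1,0,1,0], [1,2,1,2,3,2], [3,3,0,0,1,0,0]]

/-- The paths. -/
def pathsB : List (List ℕ) := ([pathsB0, pathsB1, pathsB2] : List (List (List ℕ))).flatten

theorem testsOKB : testsOK (plain testsB) codeB = true := by decide +kernel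

theorem certB : certAll mclMats (enc (xBL : GolayPt → ℤ)) (chosen codeB) pathsB = true ∧
    Nat.beq (chosen codeB).length 275 = true := by decide +kernel

theorem ncardB : (pickL testsB).ncard = 275 := by
  rw [ncard_pickL testsOKB]; exact Nat.eq_of_beq_eq_true certB.2

theorem reachB {S : Subgroup Co0} (hS : ∀ g ∈ mclElts, g ∈ S) :
    ∀ y ∈ pickL testsB, ∃ g ∈ S, g • xBL = y :=
  transitive_of_cert isMat_mcl hS testsOKB (by decide +kernel) certB.1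

theorem memB : xBL ∈ pickL testsB := by
  refine ⟨by decide +kernel, ?_⟩
  simp only [testsB, List.forall_mem_cons]
  exact ⟨by decide +kernel, by decide +kernel, fun _ h => absurd h List.not_mem_nil⟩

end CfsgLib.Spor.Leech.Census32
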