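/-
Orbit certificate BEight.
-/
import Cfsg.Agent.Lib.Spor.Leech.Census.Data.Gens

set_option autoImplicit false
set_option maxRecDepth 20000
set_option maxHeartbeats 0

namespace CfsgLib.Spor.Leech.Census32

open Cfsg

/-- The tests. -/
def testsBEight : List (leechLattice × ℤ) := [(u3L, 24), (v1L, 16), (xBL, 8)]

/-- Their numbers. -/
def codeBEight : List (ℕ × ℕ) := [(84422585336595084411719813305156662600740575543670887098873042517394523179145638498894440270584955825472164, 4344), (112562520735956409447851611267016991984580410813578825706846029514451041733003352209561054719109825197491232, 4176), (84422585336595084411719813305156662600740575543670848115779524820498459006370988115632678966578471589974204, 4200)]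

/-- The representative. -/
def repBEight : leechLattice :=
  ⟨fun p => [1, 1, 1, 1, 1, 1, 1, 1, -1, 1, -1, 1, -1, -1, -1, 1, 1, 1, -1, -1, 1, 1, 1, 3].getD (ptIdx p) 0, leechTest_spec (by decide +kernel)⟩

/-- Part of the paths. -/
def pathsBEight0 : List (List ℕ) := [
[], [1,0,1,1,0,1], [0,1,0,0,0], [1,0,0,1], [1,1,0,0,1,0], [1,1,0,0,0], [0,1,0,0,0,1], [0,1,1,0,0,0,0], [0,0,1,1,0], [1,0,1,1,1,1,1,0], [0,1,1,0,1], [0,1,0,1,0,0,0,1], [1,1,1,1,1,0,1], [0,0,1], [1,1,1,0,1], [1,0], [0,1,0,1,1], [1,1], [1,0,0,1,0,1,0], [0,1,0,0,0,1,0], [1,0,1,0,1,1], [0,0,1,0,1,0], [0,1,0,0,1,0,1,0], [1,1,0], [1,1,1,1,0,1,0], [0,1,0,1], [0,0,0,1,1,0,1,0], [1,0,1,1], [1,0,0,1,1,1,1], [1,1,0,1,1], [1,1,0,0,1], [1,1,0,1,1,1,1], [0,0,0,1,0,1,1], [1,0,0,0,0], [0,1,0,1,1,1,1], [1,1,1,1,1,0], [1,1,0,1], [1,0,1,1,0,0,0,0], [1,1,1,1,0,1], [0,1,1,1,1,0], [1,0,0,0,1,0], [0,0,0,1,0,1,0], [1,0,1,1,0], [0,0,1,0,0,1,0], [1,1,1,0,1,0],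 [1,0,1], [1,0,1,1,1,1,0], [0,1,1,1,0,1,0], [0,1,0,0,0,0], [0,0,0], [0,0,0,1,0], [1,0,1,0], [0,1,0,0,1,0], [0,1,0,1,0,1], [0,1,0,1,0], [1,0,1,1,0,0,0], [0,1,1,0,0,1,1,0], [0,1,1,0,0,0], [0,0,0,1], [0,0,1,0,0,1,0,1,0], [0,0,0,0], [1,0,1,1,1], [0,0,0,0,1,0], [1,1,0,0,0,1], [0,0,0,0,1], [0,0,1,1,0,1,0], [0,1,1,1,0,1], [0,0], [1,0,1,0,0,0], [1,1,1,1,1,1,0], [0,0,1,1,0,0,0], [0,1,1,1,1], [1,1,1,0,0,1,1,0], [0,0,1,1,1,1,1], [0,0,1,0,1,1], [1,0,0,1,0], [0,1,1,0], [0,1,0,1,0,1,1], [1,1,0,1,0,1], [0,0,1,0], [0,1,1], [1,0,1,1,1,1], [1,1,0,1,0], [1,1,1,1,1], [1,1,0,0,0,0], [1,0,0,1,1,0], [1,0,0,0,1], [0,0,1,1,1,1], [0,1,1,1], [0,0,1,1], [1,0,1,1,1,0,1], [1,1,1,0,0,0,1], [1,1,0,0,0,1,0], [1,1,1], [0,1,1,1,1,1], [0,1,0], [0,1,1,0,1,0], [0,1,1,0,1,0,0,0], [1,1,1,1], [1,0,1,0,1,1,1,1]]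

/-- Part of the paths. -/
def pathsBEight1 : List (List ℕ) := [
[1,1,0,1,0,0,0], [0,1,1,1,1,1,0], [1,0,1,0,0,0,1], [1,0,0,0], [1,1,1,0], [1,0,1,0,1], [1,1,1,1,0], [0], [1,1,1,0,1,1], [1,1,0,0,1,1,0], [1], [0,1]]

/-- The paths. -/
def pathsBEight : List (List ℕ) := ([pathsBEight0, pathsBEight1] : List (List (List ℕ))).flatten

theorem testsOKBEight : testsOK (plain testsBEight) codeBEight = true := by decide +kernel

theorem certBEight : certAll uFourMats (enc (repBEight : GolayPt → ℤ)) (chosen codeBEight) pathsBEight = true ∧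
    Nat.beq (chosen codeBEight).length 112 = true := by decide +kernel

theorem ncardBEight : (pickL testsBEight).ncard = 112 := by
  rw [ncard_pickL testsOKBEight]; exact Nat.eq_of_beq_eq_true certBEight.2

theorem reachBEight {S : Subgroup Co0} (hS : ∀ g ∈ uFourElts, g ∈ S) :
    ∀ y ∈ pickL testsBEight, ∃ g ∈ S, g • repBEight = y :=
  transitive_of_cert isMat_uFour hS testsOKBEight (by decide +kernel) certBEight.1

theorem memBEight : repBEight ∈ pickL testsBEight := by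
  refine ⟨by decide +kernel, ?_⟩
  simp only [testsBEight, List.forall_mem_cons]
  exact ⟨by decide +kernel, by decide +kernel, by decide +kernel, fun _ h => absurd h List.not_mem_nil⟩

end CfsgLib.Spor.Leech.Census32
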