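/-
Orbit certificate C.
-/
import Cfsg.Agent.Lib.Spor.Leech.Census.Data.Gens

set_option autoImplicit false
set_option maxRecDepth 20000
set_option maxHeartbeats 0

namespace CfsgLib.Spor.Leech.Census32

open Cfsg

/-- The tests. -/
def testsC : List (leechLattice × ℤ) := [(v1L, 0), (w1L, 16)]

/-- Their numbers. -/
def codeC : List (ℕ × ℕ) := [(112562520735956409447851611267016991984580410813578825706846029514451041733003352209561054719109825197491232, 4160), (46902362677612083329841369420501148483485120768910627702136384129516390938716187177239554680883980250622852, 4272)]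

/-- Part of the paths. -/
def pathsC0 : List (List ℕ) := [
[], [3,2,3,3,0,1], [0,3,0,3,3,2,1], [2,2,2,1,0,1,0,0], [1,2,3,3,2,2,1], [3,0,3,0,0,3,2], [2,1,2,1,0], [1,0,1,0,1,0], [2,3,0,1,2,3,0], [2,2,3,0,1,2], [0,3,2,2,3,2,1], [0,3,2,2,1,0,0,0], [0,3,2,1,1,2,1], [2,1,0,1,0,0], [3,2,1,0,0], [0,0,3,3,0,1,2], [0,3,3,0,3,0,0], [0,1,2,1,1,0,0], [3,2,1,2,3], [1,2,3,0,3,2,1,0], [0,0,1,2,2], [0,1,1,0,0,3,0,0], [0,1,1,0,1,0,0], [2,3,2,2,1,1,0], [0,1,2,3,2,3], [1,0,1,2,3,0], [0,0,3,3,2,2,3], [3,2,3,2,1,2,3,0], [2,1,0,0,3,2], [3,2,2,1,0,0,0,1], [1,2,1,1,2,3,3], [0,0,0,1,1,2], [1,0,3,0,1,1,0], [2,3,2,1,2,1], [0,0,3,2,3,3,0,1], [1,2,2,2], [2,2,1,2,1], [3,2,2,2,1,0,1], [2,1,1,0,1,0,0,0], [2,2,3,2,1], [2,3,3,0,0,0],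 [3,3,2,1], [0,1,2,2,2,3,3,0], [2,3,3,2,2,3,3,0], [2,2,3,3], [3,0,1,0,3,2], [3,2,3,0,3,2,3], [0,3,0,0,3,3,2], [3,0,3,2,1,0], [2,1,2,1,1,2,3,0,0], [1,1,0,3,0,0], [3,3,2,2,1], [2,2,3,0,1,0,0], [0,3,0,3,0,1], [1,0,3,0,0,0], [2,1,2,2,3,3], [2,2,2,3,0,3,0], [1,1,2,3,2,1,1], [0,1,0,0,3,2], [1,2,1,0,1,2,2,3], [1,2,1,0,1,2,1], [1,2,2,2,3,3,0], [1,1,2,2,1,0], [3,0,0,1,1,0], [3,2,1,2,2], [0,0,0,3,2,1,1], [2,3,3,0,1,0,0], [3,3,0,0,1,0], [3,2,1,1], [2,1,2,3,2,3,0], [3,0,3,2,2,1,1], [0,1,2,1,1,2,3,0], [3,3,2,1,1,0,0,0], [2,1,0,1,0,3,0,0], [2,3,3,2,1,1,0,3], [2,1,0,3,2], [2,1,1,0,0,0], [3,2,3,2,3,0,1], [0,3,0,0,0], [1,2,1,0,0,1,1], [0,0,3,0,1,0,1], [0,0,0,3,2,3,0], [2,1,0,1,1,2], [3,2,3,0,3,0], [3,3,2,1,1,2,1], [0,1,2,2,1,0,1],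 [2,2,1,2,1,0], [3,3,0,0,3], [2,3,2,2,3,3], [0,0,3,2,3,0], [1,2,2,1,2,1,0], [1,0,3,0,1], [1,0,0,1,1,0,0], [3,3,2,2,2,1,1,0], [0,1,1,2,1,2], [2,1,1,2,1,0,1], [3,2,1,0,1,2,3,0], [2,1,0,3,3,0,1], [2,1,0,1,0,0,0], [3,0,1,0,1,0]]

/-- Part of the paths. -/
def pathsC1 : List (List ℕ) := [
[3,3,0,3,0,0,0], [1,2,1,1,0,3], [3,3,0,1,2], [1,0,3,0,0,1,0], [1,0,0,1,0,3], [3,2,3,3,0,0], [3,2,1], [1,1,2,2,2,1,0], [1,1,0,1,2,2,2], [3,0,0,1,2], [1,2,3,2,1], [0,0,0], [1,0,3,3,0], [3,3,2,3,0,3,3,0], [3,2,1,0,1], [3,0,0,3,3,2], [2,2,1,1,0,0,0], [0,3,0,1,0,0,1], [3,0,0,1], [2,1,0,1,1,0,0], [2,1,0,1,1,0], [2,2,2,1,2,3], [1,1,0,0,3,2,1,1], [0,1,0,1,0,3,0], [3,0,0,1,2,3,0,3,0], [1,0,0,1,2,2,2,3], [2,3,3,0,1,0], [3,2,1,0,0,1],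 [0,1,2,2], [1,2,1,0,1,0,1], [3,0,0,3,2,3], [0,3,0,1,0,1,0], [0,3,3,0,1,2], [2,1,0], [3,2,2,2,3], [0,3,2,1,0,0,1,0], [2,1,0,3,2,3], [0,1,1,2,1,0,0], [2,3,0,0,1,1,0], [3,0,3,0,1,0,0,0], [0,3,0,0,3,2], [2,1,2,3,3,0], [1,2,3,3,2,3,0], [2,1,0,0,3,3,0], [2,3,0,0,3,0,1], [2,1,2,2,3,3,0], [3,0,0,1,0,1,1], [1,2,1,2,1,1,0,0], [1,1,2,3,0,3,0], [2,1,2,3,0,1,2,2], [3,3,0,1,0,1,0], [2,3,0,3,3,2,3], [0,1,0,3,2,1,0], [0,3,0,1,2,1,0,0], [1,1,2,1,1,0,0,0], [3,3,0,0,0,1,0], [3,2,1,0,1,0,3,0,0], [3,0,3,2,1,0,3], [1,0,3,3,2,1], [3,2,1,0,3,2], [1,2,3,3,0,0,0], [1,1,2,2,1,2,3], [0,1,1,0,3,0,1], [1,2,3,2,3,0], [3,0,0,3,0,1,0,0], [0,3,2,1,2,2], [3,2,1,0,3], [3,3,0,1,0,0], [0,3,0,0,3], [0,3,3,0,0,0], [3,0,0,3,2,1], [0,0,3,2,1,1,2],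 [3,0,0,1,1,2], [0,3,2,3,3,2], [2,2,3,2,3,0], [2,3,2,2,2,1,1], [1,1,0,3,2,3,0], [2,2,3,3,2,2,3], [0,0,3,0,0,0], [3,3,0,0,3,2,3,3], [3,2,3,2,1,0,3], [2,3,0,3,2,1,1], [2,3,2,3,0,1,1,2], [1,2,1,1,2,2], [0,3,2,1,2,2,2], [3,3,0,3,0], [3,2,3,3,0,0,0,1], [3,2,1,1,2], [1,0,3,3,2,3], [2,1,2,2,2], [2,3,2,3,3,0,0,0], [3,2,1,2,2,2], [0,3,3,2,1,0], [0,0,3,2,1,0,0,3], [3,2,3,0,3,0,0], [0,1,2,3,0,0], [2,2,3,3,2,2,1,0], [0,0,1,2,2,1], [3,0,1,1,2,1,0], [2,3,2,2,3,3,0]]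

/-- Part of the paths. -/
def pathsC2 : List (List ℕ) := [
[1,0,0,0,3], [1,1,2,3,0,3,3,0], [2,3,0,1,2,1,1], [1,1,0,3,3,0,3,0,0], [1,0,3,0,1,2,2], [0,1,1,2,1,1,0,0], [0,0,0,3,3], [3,3,0,0,0,1], [2,3,2,1,1,2], [0,0,3,2,1,1], [0,1,2,1,2,2,1], [3,3,2,1,2,2,2], [3,0,1,1,0,1], [2,2,1,0], [3,3,0,3,3,0,1], [2,1,0,3,3,0,0,1], [3,2,3,2,1,1], [3,0,0,0,1], [0,3,3,2,1,0,3], [1,0,0,1,2,2,1], [1,0,1,0,3,3,0,1,0], [2,1,1,2,1,1], [3,2,2,1,2,3,0,3], [0,0,3,2,1,2,3,0], [2,3,3,0,1,2], [2,1,2,3,0,1], [2,2,3,0,3,0,0,0], [1,0,0,1,0,3,0,0], [3,0,1,2,1,0,0], [1,2,2,3,2,3,3], [1,0,3,3,0,3,0,0], [0,0,3,2,1,0,3], [0,1,1,0,0,0], [0,0,0,3,0,0,1], [1,0,1,0,0,1,2], [3,2,3,0,1,0], [0,1,1,2], [2,1,2,2,3,0,0,0], [2,1,0,0,3,0,0], [0,3,3,2,1],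 [2], [2,2,2,1,0], [1,1,0,0,1,2], [2,3,2,1], [2,1,2,1], [3,0,3,0,0,0], [3,2,3,3,2], [2,2,2,3,2,3,0], [3,0,3,2,3,0,3,0], [0,3,2,1,1,0,0], [0,1,0,1,1,0], [1,1,0,3], [0,0,0,1,2,1,0], [1,0,0,0,1,2,1,0], [2,1,0,0,0,3,0,1], [3,2,3,0,1,0,0], [0], [3,0,1,2,2,1,1,0], [0,1,0,1,0,0], [3,3,2,1,2,2,1,0], [3,0,1,1,2,1,1,0], [3,0,1,2,2,1,1], [1,2,2,1,0,1,1,0], [1,0,3,3,0,1,0], [1,0,0,0,1,1,2], [1,0,1,2,2], [0,3,3], [1,2,2,1,2,1], [2,1,0,1,2,2,1,1], [2,2,1,0,1,0,0], [3,2,3,3,0,0,0], [3,2,2,3,2,1], [2,1,0,1,0,1,0], [2,1,0,1,2,2,1], [0,1,1,2,3,2,1,1], [3,0,3,0,3,2,1,0], [2,1,2,2,2,1], [2,3,0,3,0,3,0,0], [2,1,1,2,3,2,3], [2,1,1,0,1,2,2], [0,0,3,0,0], [2,2,1,2,2,1,2,1], [1,0,0,3,0,0], [0,1,2,2,1,0,0,0], [0,1,2,2,1], [0,3,2,3,2,3,0,1],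 [1,1,2,2,2,3,3,0], [1,0,1,0,1,1,0], [0,0,3,3,2,1,0], [2,2,1,0,3,2,1], [0,3,0,3,0,0,3,2], [1,0,1,1,0,1,2,3], [2,2,2,3,3,0,1,0], [3,2,1,0,0,1,1], [2,3,2,1,1], [2,2,1,0,0,3,3,0], [2,3,2,3,0,0], [2,3,0,0,1,2,2], [0,1,0,3,3,2,2], [3,3]]

/-- Part of the paths. -/
def pathsC3 : List (List ℕ) := [
[2,2,3,0,3,0], [0,0,3,0,1,0,1,0,0], [0,0,0,3,0,0], [2,1,2,1,1,2,2,2], [0,3,2,1,2,3], [1,1,0,3,3,2], [1,0,3,2,1,2], [3,0,0,1,2,2,2,3], [1,0,3,3,0,3,2], [0,0,3,2,3,3,2], [0,0], [2,1,2,2,1], [3,3,2,1,0,0,1], [1,0,1,2,2,3,3], [2,3,0,3,0,0,0], [1,2,2,2,3,3,0,1], [1,1,2,1,2], [1,1,2,3], [1,1,0,0,0,1], [0,0,3,3,2,1,1,0], [2,2,2,1,0,3,2,1], [2,3,3,0,3,0], [0,0,3,2,3,2,2], [1,2,2,1,1,2], [1,1,2,3,0], [1,0,3,0,0,3], [0,0,3,2,1],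 [0,1,0,3,3,0], [2,1,1,0,3,0,0], [2,1,1,0,3,2,1,0], [1,2,2,3,0,0,1], [0,0,3,2,1,2,1,0], [1,2,2,3], [0,0,3,0,0,0,3], [2,2,3,2,3,3,0,0], [3,3,2,3,0,1,1], [0,1,1,2,1,1,0,1], [0,3,2,3,2,2], [0,3,2,1,0,0,3], [3,3,2,1,0,3], [3,2,2,2,1,2,1,0], [2,2,1,0,3,2,1,0], [0,1,2,1,2,3,0], [1,2,2,1], [0,3,3,0,0,3], [0,1,2,1], [3,3,2,1,0,1,0,0], [3,0,3,3,2,3], [1,0,0,1,0,1,2], [2,1,1,2,2,2,1,0], [3,0,0,1,2,2], [2,2,1,1,2,1], [3,0,3,2,1,2,2], [0,1,1,2,1,0,1], [2,2,3,2,1,2,1], [0,3,2,3,3,0,1], [2,3,2,2,1,0,0,0,1], [2,3,2,1,1,0], [3,3,2,2,1,0], [3,3,0,0,1,0,1], [2,2,2,3,0,0], [1,0,0,0,3,0,0,0], [0,1,1,2,3,0,0], [0,3,2,3,0,1,1,2], [3,0,1,0,1,1,0], [3,3,0,3,2,1,1], [2,3,3,2], [3,0,0,0,1,0,3], [2,1,0,0,3,0,3], [1,2,3,2,1,2,1],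 [1,0,3,0,0], [2,2,3,2,3], [3,0,1,1,0,3], [0,1,0,1,1,0,1,0,0], [0,1], [1,0,3,0,1,1], [3,3,2,1,1,2,3,0], [0,1,1,0,1], [0,3,0,3,0,0,1], [2,2,3,0,1,2,2], [2,2,2,3], [1,2,1,2,1,0,0], [0,1,2,3,2,1,1], [2,1,2], [1,0,0,0,3,0,3], [2,1,0,1,1,2,2], [1,2,3,2,3,2,2,1], [3,0,3,3,0,0,0], [0,3,2,3,0,1], [0,0,3,2,2], [0,0,1,1,0,0], [0,3,0,1,2,1,0], [3,2,1,0,1,2], [1,1,0,3,0,0,0,1], [1,2,3,0,1,1,2], [3,0,0,3,0,0,0], [1,0,0,1,2,1,0], [1,0,1,1], [2,3,2,3,0,3], [0,1,1,2,2,2]]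

/-- Part of the paths. -/
def pathsC4 : List (List ℕ) := [
[3,2,3,2,3,3], [2,3,3,2,3,3], [3,0,0,0,1,1], [3,2,2,2,3,0,3], [0,1,1,2,2], [0,1,1,0,0,0,1,0], [3,0,3], [1,0,3,0,1,0,1], [3,2,3,3,0,1,0], [0,1,2,3,2,2], [2,3,3,2,3,2,1], [1,2,2,1,1,0], [2,3,0,3,3,0,3,0], [0,3,2,1,2], [2,1,0,1,2,2,2], [3,0,3,0,3,2], [3,0], [3,0,3,0,3], [3,0,1,2,1,2], [1,0,0,3,2,1,1], [3,2,1,2], [1,1,2,3,0,0,0], [0,1,2,1,0,1,0,0], [3,2,2,1,2,3], [2,3,2,3,0,0,1], [3,0,0,0,1,2,1,0], [3,0,3,3,2], [1,2,1,0,0], [3,2,3,2,2,2,1], [1,0,1,0,1,0,0], [0,1,0,3,2,3,3], [2,1,2,3,0,3], [2,3,3,0,1,1,2], [0,0,0,3,3,2], [0,0,3,2,3], [0,3,3,2,1,2,3], [1,0,0,3,2,3], [1,1,0,3,2,1,1], [2,2,1], [3,3,0,3,3,0,3], [2,1,0,1,1], [0,1,1,2,1,0], [0,3,3,0,1,2,3,0],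 [1,2,2,2,1,1], [0,3,3,0,0,0,3], [0,1,1,2,2,3], [0,1,0,0,1,1,2], [2,3,3,0,3], [0,0,1,2,1,0,0], [1,2,1,2,1,0], [0,0,1,1,0,1,0], [3,0,3,0,0,3], [0,3,0,0,3,3,0,0], [2,1,0,3,0,0], [3,0,0,3,0,0], [0,0,3,0,0,1,0], [0,1,2], [3,2,1,0,0,0,1], [0,0,3,3,0,3], [1,1,2,3,0,0,1], [0,1,0,3,3,0,3,0], [1,0,1,2,2,2,1,0], [0,3,0,3], [0,3,0,1,0,0,0], [2,1,1,2,3,3,0], [2,1,0,1,0,1,2,1], [0,1,2,2,1,1,0], [0,1,2,1,0,0,1], [0,0,1,2,3,2,2], [1,2,3,3,2], [0,1,0,1,0], [2,3,2,3,0,1], [0,0,3,3,2,2], [0,1,1,2,3,3,0], [2,2,1,1,2,2], [2,2,1,2,3,0], [1,1,2,3,2,3,0,0], [1,2,3,2,1,1], [1,2,2,1,2,2,2], [3,0,1,0,0,3,2], [3,2,2,1,1,2], [2,2,2,3,3,0], [2,2,3,0,3,3,0,0], [2,1,2,1,1,0], [1,2,1,0,3], [2,2,3,3,0], [1,1,2,2,3,2,1,1], [0,1,0,0,1,2,2],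 [3,2,1,0,3,2,1], [0,0,3,3,2,3,3,0], [2,3,0,3], [0,3,3,2,3,0], [3,3,0,0,3,0,1], [3,0,0,3,0,3,0], [2,3,0,1,2,3,2,2], [3,0,1,0,0,0,1], [3,3,0,1,0,0,0], [3,0,1,0,1,1], [0,0,1,2,3,0], [2,3,0,3,3,0,0]]

/-- Part of the paths. -/
def pathsC5 : List (List ℕ) := [
[2,3,3,2,2], [1,0,1,0,0,0,1], [0,0,0,3,2,2], [0,3,2,2,3,2,3], [2,2,3,0,3], [1,2,3,3,0,3,0], [3,2,2,1,2,1,2], [2,3,0,3,2,2], [2,3,3,0,1,0,0,0], [1,1,2,3,0,1,0], [2,3,0,0,3,0,3,0], [2,2,2,3,2,3], [1,2,3,2,3,0,0], [3,3,0,0,1,1,2], [2,1,2,2,2,3,0,0], [2,1,0,1,0,3,2,1], [1,2,2,2,3,0,3], [3,2,3,2,1,1,0], [1,0,3,3,2], [0,3,3,2], [2,1,0,1,0], [2,1,2,2,1,2,2,2], [2,1,0,0], [0,3,3,2,2], [0,0,0,3], [1,1,0,3,2], [3,0,3,2,1], [1,2,2,3,0,0,1,0], [3,2,1,0,3,0,3],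 [0,0,3,0,1,2,2], [1,1,0,0,0,3,3,0], [0,3,0,3,3,0,0], [1,1,0,0,0,3], [0,3,0,0,3,2,1,0,0], [3,0,0,0,1,1,0], [3,2,2,3], [0,1,0,3,0,0], [1,0,0,3,0,3], [2,2,2,1,1,0,1], [2,1,1,0,3,0,0,0], [3], [2,2,3,3,2,2], [3,3,0,0,3,3,2,1], [1,0,1,0], [2,2,2,1], [2,3,0,3,3], [0,0,3,0,3], [3,2,1,2,2,2,1], [0,1,1,0,1,0], [0,3,2,1,2,1,2], [1,0,1,2,1,0,1,0], [0,1,0,1,1,2,3], [1,1,2,3,3,0], [0,3,0,0,1,0], [3,3,0,3], [0,3], [0,3,2,3,2,3], [1,0,3,3,0,3,0], [2,1,1,0,0], [3,3,0,1,2,3], [3,2,1,1,2,2,3], [3,2,1,1,2,3,3], [3,0,3,3,0,1,2,1], [1,1,2,1,1,2], [3,2,1,2,3,0], [3,3,2,2,1,0,3], [1,1,0,1,0,1,1,0], [1,2,3,0,0,3,0,1], [1,0,3,0,0,3,2], [2,2,2,3,0,0,1], [2,3,3,0,0,1], [3,3,0,3,0,1], [2,2,1,2,2,1], [3,3,0,3,0,0,3], [0,3,2,1,0,3,0,0],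 [0,1,1,0,1,2,3,0], [3,2,2,2,1,1], [0,3,0,3,2,1,0], [2,3,0,0], [1,2,3,0,3,3,0], [2,2,3,0,0,0,1], [0,1,2,1,1,2,2,1], [3,3,2,1,1,0,3], [1,1,2,1,0,1,0,0], [2,2,1,2,3,2,1], [0,0,3,2,1,0,0], [0,0,1,1,2,3,0], [3,2,1,1,0,0], [0,0,3,0,3,0,0], [1,2,2,3,3], [2,2,2,1,0,3,0], [2,1,1,2,2,2,3], [1,1,0,1,0,0,1,2], [2,1,0,3,3,0,0,0], [2,3,0,0,1,0,3], [2,1,0,3,0,1], [2,3,2,2,3,2,1], [3,3,0,3,2,3], [1,0,0,3,3,2,3], [0,3,0,3,2,2,1,1]]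

/-- Part of the paths. -/
def pathsC6 : List (List ℕ) := [
[0,3,2,2,1,1,0], [3,0,1,1,2,2], [1,2,3,0,3,2,1,1], [3,2,3,0,1,1,2], [3,0,3,2,3,0], [2,1,1,0,0,0,1], [0,0,3,2,1,1,2,1], [3,2,3,0,0,1,0], [3,0,0,3,2,3,3], [1,0,1,1,0,1], [3,2,3,0], [0,3,0,3,3,2,1,0], [2,2,2,1,0,0,1,0], [2,1,1,2,3,0,0], [1,0,0,1,0,1,1], [2,2,3,3,0,1], [0,1,0,1,1,2,1], [3,0,3,0,3,3,0], [1,0,0,0,3,3,2], [1,2,1,2,3], [0,1,2,2,3,2,2,1], [2,3,0,3,2,3], [1,2,2,2,1,2,3], [2,2,3,3,0,0,0], [2,1,2,1,1,2,3,0], [1,0,3,0,3,0,0,1], [0,1,2,3,3,2,1,0], [0,1,2,3,0,3,0,0], [0,0,0,3,3,0,1,0], [3,0,3,2,2,3], [3,2,1,0,3,3,0,1], [0,0,0,3,0,3,0,0], [3,2,1,0,0,1,0], [0,1,0], [3,2,2,1,0], [3,3,2,2,1,0,1,1], [0,0,1,0,1], [1,2,1,1,0,0,0], [0,3,2,1,2,1,0],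 [0,0,0,1,0,0,0,1], [2,3,2,3,3,0,1], [0,1,0,3,2,1,0,1], [3,0,0,0], [1,2,1,0,3,2], [1,0,0,1,0,3,0], [1,2,2,3,3,0], [2,1,0,1,2,1,1], [2,2,3,3,0,0,1], [2,3,0,3,3,0,1], [1,0,1,2,1,1], [3,0,1,0,0], [3,2,1,0,1,0,0,0], [0,1,2,3,2,1], [3,2,3,0,1,2,2,2], [1,2,1,2,3,0], [3,2,2,1,0,3,0], [3,2,3,2,1,2,1], [2,3,3,2,1,0,3], [0,3,2,3,2,1], [0,3,0,0,3,0,0,1], [2,2,1,2,3,3], [3,2,3,3,2,1,0,0], [3,3,0,0,3,2,2], [1,2,1,0,3,0,1,1], [3,0,1,2,3,0], [1,0,1,1,2,1,0,1,0], [2,1,1,0,3,3,2], [3,0,1,2,3,3,0], [2,1,0,0,0,1,1], [0,0,0,1,2,2,2], [3,2,3,2,1,1,2], [0,3,3,2,1,1,0], [0,1,0,1,1,0,3], [1,1,2,1,0,0,1], [0,1,2,1,0], [1,0,1,2], [1,0,3,3,0,3], [0,1,2,2,3,3], [2,3,2,2,2,1,0], [2,3,0,3,2,1,0], [2,1,0,0,1,0,3], [2,1,1,0,1,1,0,0],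 [2,2,3,0,1,0,3], [3,0,3,0,0,3,2,1], [2,3,2,3,0,3,0,0], [0,1,0,1,2,2,1], [1,1,0,1,2,2], [0,3,2,2,3,3], [1,2,1,1,0,1], [0,1,1,0,3,3,0], [0,3,2,1,1,0], [3,0,3,0,0], [2,3,3,0,3,2,3], [2,1,2,3,0,3,3], [2,1,0,1,0,3,0], [2,1,0,3,2,3,3,0], [0,1,0,3,0,1], [3,2,2,3,3,0,3], [1,1,2,2,2,3], [0,1,2,3,2,3,0]]

/-- Part of the paths. -/
def pathsC7 : List (List ℕ) := [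
[1,1,0,1,1,2,2], [3,3,0,1,1,2,2], [3,2,3,2,2,1,2,1], [1,1,0,1,2,3,0], [3,2,2,1,2,1,0,1], [0,1,0,0,1,0], [3,3,2,1,2,1,0], [2,1,1,2], [2,1,0,0,3,0,0,0], [1,0,0,3,3,0], [2,1,1,2,1,0,1,0], [2,1,0,0,3], [2,3,3,0,0,0,1], [1,1,2,1,1,0,0], [2,3,2,2,2,1,0,1], [2,1,0,3,2,1], [2,1,0,0,1,0,3,0,0], [0,1,1,2,1,2,2,1], [0,1,0,1,0,1,0], [1,0,0,0,1,1,0], [0,1,2,2,3,0,0,0], [3,2,3,2,2,1], [2,1,0,3,0,3], [2,3,3], [3,2,1,1,2,2,2], [0,1,1,0,3,2,3,0], [0,1,2,3,0,0,0], [0,0,0,3,3,0,1], [0,1,1,2,3,2,2], [1,2,2,3,3,2], [2,1,1,2,3,0], [0,3,2,1,2,3,0], [2,3,0,1,0,1,0], [1,2,1,1,2,3,0,0], [1,0,1,2,3,0,3,0], [1,2,2,1,2,1,0,0], [0,1,0,0,1,2,1,2], [2,1,2,1,0,1,0], [1,1,2,1,0,0], [3,2,1,2,3,0,3], [3,3,2,2,2,3,3], [1,2,2,1,0,1], [2,3,2,3,3,0,0],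 [1,0,1,0,1,1], [0,1,0,3,2,3,0], [1,1,0,0,1,1,0,1], [2,3,2,2,1,1,0,0], [2,3,2,3,3,2], [2,3,3,2,3,0,0], [1,2,2,1,2,3], [3,0,3,2,3,2,2], [0,1,2,3,0,3,3], [2,2,2,3,2,1,2,1], [3,2,2,3,2,1,1], [0,3,0,3,3,0], [1,2,3,0,1,1,0], [1,0,0,0], [2,1,0,3,3,2], [3,3,2,2], [3,3,2,2,2,1,0], [0,3,3,2,1,2,3,0], [0,0,1,2], [1,1,2,1,0,3,0], [0,3,0,1], [2,2,2,3,0,3], [0,1,0,3,0,1,1], [3,2,3,3,2,2,3], [2,2,3,0,0,3,0,3,0], [2,3,2,2,1,2,1], [3,2,3,3,2,3,3], [3,3,2,1,2,3,0], [1,1,0,1,2,1], [3,0,1,2,3,3], [0,1,0,1,2,1,0,0], [3,3,2,3,0,1], [2,3,2,2,1,1], [3,0,1,1,2,3,0], [0,3,0,0,3,2,2], [1,2,1,1,2,2,3], [3,2,2,3,0,1,1], [3,0,1,2,3,3,2], [3,2,2,1,0,3], [3,3,2,1,1,2], [3,0,1,2,2], [0,1,2,2,1,0], [1,0,1,2,2,1,0], [0,0,1,2,2,1,0],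 [1,2,1,0,1,2,3], [2,1,2,1,0,1,1,0], [0,3,2,1,0], [2,1,0,1,0,3,3,2], [2,3,3,0,3,3,0,3], [3,2,3], [3,3,2,3,3], [0,0,0,1], [3,3,2,1,0,1,0], [0,3,3,2,3,3,0], [3,0,0,3,3,0,0], [3,2,2,3,2,3], [1,1]]

/-- Part of the paths. -/
def pathsC8 : List (List ℕ) := [
[0,1,2,2,3,0,3,0], [2,1,0,3,2,3,3], [0,0,3,2,1,0], [2,1,0,3,3,0,3,0], [0,1,2,1,2,1,0,0], [0,3,2,3,0,1,2], [0,1,2,1,1,0], [3,3,0,1,1,2], [3,3,0], [0,3,3,0,1,2,2,1], [2,3,2,2,1,0,1], [3,2,3,0,1,1], [3,3,2,1,2,3], [2,1,0,3,0,1,0,0], [0,1,0,0], [1,2,3,2,2,1,0,3], [3,0,3,3,0,0], [0,3,0,1,2,3,3], [3,3,0,0,3,3,2], [0,3,2], [0,1,0,3], [1,1,2,3,2,2,1], [2,2,2,1,1,2,2], [2,3,2,2,1,1,2], [1,2,3,0,1,1], [0,1,0,1,2,3], [2,1,1,2,3,2,1], [3,2,2,1], [2,1,0,0,1,1], [2,2,3,0],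 [2,3,0,3,3,2], [3,0,0,1,0,1,2], [3,3,0,1,2,1], [1,0,1,2,2,3], [2,3,2,2,2,1], [2,2,3,3,2,1,0,0], [0,3,0,1,1,0,3], [2,3,3,0], [2,1,0,1,2,1,0], [3,0,3,0,0,3,3,0], [2,2,1,1,0,3,0,0], [1,0,0,0,1], [1,0,3,3,2,2], [0,3,0,1,0,3,0], [1,2,3,0,0], [2,2,1,0,3,2], [3,0,0,1,0,0,1,0], [2,1,1,0,0,1], [1,0,3,0], [3,0,3,3,0,3], [0,3,2,3,0,3,0], [3,3,0,1,1,0], [1,2,1,1,2], [3,0,0,1,2,3,0,0], [1,0,3,3,2,1,0], [0,1,1,0,3,2,2], [1,1,2,1,2,2,2], [3,0,3,0,1,1,2], [3,0,3,0,1,1], [0,1,0,3,0,1,1,0], [2,1,1,2,3,2,1,1], [3,2,3,0,0], [0,0,3,2,2,1,1,0], [0,1,1,2,3], [1,2,3,0,3,2,2], [3,3,0,3,3,0], [3,2,2,3,2,3,3,2], [2,3,2,1,1,0,3,2], [3,0,0,1,1,0,1], [1,0,0,3,0,3,2,2], [1,0,3,3,2,3,0], [3,2,3,0,3,3,0,0], [1,0,0,0,3,0,1], [1,2,1,2,1,0,0,1],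 [0,1,0,0,0,1], [3,2,3,3,0,1,2], [3,2,2,3,0,1,2,2], [0,1,1,2,1,2,3], [2,1,2,2,2,1,1,0,1], [0,1,2,3,3,0], [2,2,3,0,0,1], [2,3,0,1,0,3], [1,2,1,0,3,0,1], [2,3,3,2,2,1,0], [0,3,3,0,1,1,0,1], [1,2,1,2,2,1,1], [3,0,0,1,2,1,2], [1,1,0,0,3,0,0], [2,3,3,2,2,1], [2,2,1,0,1], [0,3,0,3,2,1,1], [2,1,2,1,0,1,1], [1,0,0,1], [3,0,1,2,3,3,2,1], [2,3,0,1,1], [2,2,1,0,1,2,3,0], [2,3,0,3,0], [3,0,0,3,3,2,1,0], [2,3,0,0,1], [3,3,2,3,2,3,0,1]]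

/-- Part of the paths. -/
def pathsC9 : List (List ℕ) := [
[3,0,1,0,0,1], [0,3,3,0,0,0,1], [3,0,1,2], [1,1,0,3,3,0,0,0], [2,3,3,0,0,3,2], [2,2,2,1,0,1,2], [2,3,2,3,2,3,0], [1,0,0,3,2,1], [1,1,0,1,1,0,3], [1,0,1,0,3,3,0], [2,1,2,3,0,3,3,0], [3,0,1,2,1,1], [0,1,0,1,1,0,0,0], [1,0,3,2,1,2,3], [2,2,1,0,0,1,0,3], [1,2,3,2,2,1], [2,1,2,3,2,1,2,3,0], [2,1,0,1,2,2], [2,3,2,2,2,3,0,0], [1,2,1,0,1,2,2], [3,2,1,0,1,0], [1,1,2,2,1,0,1], [3,2,1,0,1,1,0], [0,0,1,2,2,1,0,1], [2,2,1,0,1,0,0,0], [0,3,2,2,1,1,0,0], [2,2,1,2,2,2], [2,2,1,0,1,2,2,1], [0,3,0,3,2,3,0,1], [1,2,2,3,2,3,0,1], [2,1,0,0,1,0], [0,1,0,0,3,0,0], [0,1,2,1,2,2,1,1], [1,2,1,0,1,0], [1,0,0,3,3,2], [2,2,3,3,2,1,0], [2,1,2,3,0,1,2], [1,0,1,0,3,3,0,0],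 [2,2,1,0,0,0,1], [1,2,3,0,3,0], [2,2,3,0,1,1], [0,3,2,3,0,3,0,0], [1,2,2,3,2,2], [0,3,3,0,3,2,3], [2,1,0,0,1], [3,3,0,3,0,3,2], [2,2,2,3,2,1], [1,0,0,3,3,0,1], [0,3,2,2,2,1,0], [3,2,2,1,1,0,0], [1,2,3,0,1,2,2], [1,2,3,0,1,0,0], [1,2,1], [3,0,3,3,2,1], [1,2,2,1,0,0,0], [3,2,2,2,1,0], [1,0,0,1,2], [2,1,0,3,0], [2,2,1,0,1,1,0,0], [2,1,1,0,3], [1,2,1,2,2,1], [3,3,2,2,1,2,2,1,0], [0,3,2,3,0,0,1,0], [0,0,0,3,2,1], [3,0,0,1,1,0,0,0], [0,3,0,1,0,1], [1,2,3,0,1,2,1,1], [0,3,0,1,0,1,0,0], [2,1,0,0,3,3,2], [0,0,1,0,0,3,2], [3,0,1,1,0,1,0], [0,3,0,3,3,0,1], [3,3,0,0,1], [0,0,3,3,2,1], [0,3,2,1,1,0,3], [0,1,0,1,2], [2,2,1,1,0,3,3,0], [1,0,0,3,2,2], [0,3,0,0,1,0,3], [2,1,0,1,1,0,1], [2,1,2,2,1,2,1], [3,0,0,3,3,2,1],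 [3,0,1,2,3,2,3], [2,2,2,1,2,2,2], [3,2,2,2,3,0,0], [2,2,2,1,2,1], [3,0,0,3,2], [0,3,2,1,0,1], [2,1,1,0,0,3,0,0], [1,0,3,0,3], [2,3,2,1,2,1,0], [1,2,3,2,3], [0,3,0,0,3,2,1], [2,2,2,1,2,1,0], [1,0,3,3,0,0,1], [0,3,3,0,0,1], [1,2,3,0,0,1], [3,2,1,1,0,3], [2,2,1,0,1,1,0], [1,1,2,1,0,1,1]]

/-- Part of the paths. -/
def pathsC10 : List (List ℕ) := [
[3,3,0,0,0,1,0,3], [1,2,1,0], [3,0,1,0,3], [1,0], [3,2,3,3], [1,0,3,2,1], [3,0,3,3,2,1,1,0], [2,1,2,3], [2,1,2,1,1,0,3], [3,0,1,0,1,0,0], [0,0,1,1,0,3], [2,3,0,0,0,1], [2,2,3,2,1,1], [3,2,2,3,0,3,3], [1,0,0,0,3,3], [3,0,3,0,0,0,1], [1,2,1,0,1,2], [0,1,0,1,0,1,1], [0,0,0,3,2,1,0,0], [0,0,1,2,1,0], [0,3,3,2,3,3,2], [2,1,0,1,0,1,1,0], [0,1,2,3,3,2,2,1], [0,0,1,2,3,3,0],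 [1,1,2,1,0,1,2,1], [3,2,1,0,3,0,1,1], [2,2,1,1,2,1,1], [1,2,1,1,2,3,0], [0,3,0,1,1], [3,2,2,1,2,2,1,0], [2,1,0,3,2,1,0], [0,3,0,0,1,1,2], [0,0,0,1,0,3,0], [1,2,3,0,1], [1,1,0,1,1,0,0], [1,1,2,1,2,3,0], [3,0,3,3], [1,1,2,2,2], [2,3,2,1,1,2,3,0], [2,3,3,0,1,2,3,0], [1,1,0,0,0,1,0], [1,2,1,2,1], [1,1,2,2,3,2,1], [2,3,2,3,0,1,1], [2,3,0,1,2,3], [0,3,2,2,1,0,1], [3,2,1,0,0,0,1,1], [3,3,2,3,3,0], [3,0,1,0,0,1,2], [2,1,0,1,2,3], [1,0,3,0,3,0,0], [0,0,3,2,1,2], [2,1,0,0,1,0,1], [1,0,3,3,0,0,3], [2,2,1,2,1,0,3], [0,3,0], [0,3,3,2,3], [3,2,3,2,3], [0,3,0,3,2], [2,2,3,0,3,3], [1,0,0,1,2,2], [0,0,3,3,0,0], [2,1,1,0,0,0,1,0], [0,3,3,2,1,0,0], [2,1,2,2,1,1], [1,2,1,0,3,0,0], [1,1,0,0,1,0,1], [2,2,1,0,1,1], [3,2,2,3,2,3,0],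 [2,1,2,1,0,3], [1,0,0,1,0,1], [2,3,3,2,2,2,1,0], [1,1,0,3,0,3,0,0], [0,3,2,2,1,1,2], [1,0,0], [3,3,2,1,1,0,0], [1,0,0,1,1,0,0,0], [0,3,3,2,1,0,1,0], [2,2,1,1,0,0], [0,1,2,1,1,2,2,3], [2,2,1,0,3,0,0], [0,3,0,1,2,2], [0,3,3,0,0], [0,0,0,3,3,0], [0,3,2,2,1,0,3], [0,0,3,2], [0,1,0,3,0,1,0,0], [1,2,2,3,0,3,0], [2,1,2,1,0,1,2,3], [3,2,2,3,0,3,2,2], [2,1,0,1,0,3,2], [0,0,3,2,3,0,1], [3,0,3,2,1,2], [0,0,1,2,1,1,0], [2,1,0,0,1,1,2], [3,0,3,3,2,1,0,3], [3,0,0,3,0,3], [0,3,3,0], [3,2,2,1,0,1], [1,2,2,1,1]]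

/-- Part of the paths. -/
def pathsC11 : List (List ℕ) := [
[2,1,2,1,0,0], [0,0,1,1,2,2,3], [1,0,3,2,3,3], [0,0,3,3,2], [0,0,0,1,0,3,0,0], [1,0,1,2,1,2], [2,2,3,2,2], [0,1,2,3,3,2], [3,0,1,2,1], [1,0,0,1,1,2,3,0], [0,1,1,0,0], [2,1,1,2,2], [0,0,0,3,3,2,2], [2,2,2,1,2,3,0], [2,2,2,1,1], [3,3,2,1,0,0], [2,3], [1,0,1,1,0,3,0,0], [0,3,3,2,3,3], [2,3,0,3,2,1], [0,1,1,0,1,1,2,2], [3,0,0,3,0,0,1], [1,2,3,0,3,3,0,0], [0,3,0,1,2,1,1], [1,0,0,3,0,1], [1,0,1,2,1,2,1], [0,1,0,1,1,2], [1,1,2,1,0,1], [1,0,3,0,3,2,3,0], [3,2,2,3,2,3,3], [2,3,0,1,0,0,1], [0,3,0,1,0,3], [1,0,0,3,2,1,2,1,0], [1,0,3,2,1,2,2], [0,0,0,1,0,3,2,1], [2,1,0,1,2,3,0], [1,1,0,0,1,1,2], [3,2,2,2,1,1,0], [3,3,0,1,1,0,1], [1,2,1,0,3,0,3,0,0],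 [3,2,2,2,3,3,0], [0,3,2,1], [0,1,0,0,3], [0,1,1,0,3,0,0], [3,2,2,3,2,3,3,0,0], [1,0,3,2,1,0], [2,1,0,0,3,2,1], [0,3,0,3,0,3,0,0], [1,2,1,2,2,3,3], [3,2,1,1,0,0,1], [0,1,1,2,2,2,1,1,0], [2,1,2,2,2,3], [0,1,2,3,3], [3,3,0,3,3,2,3], [3,0,1,0,3,0], [1,0,1,1,2,1,1,0], [0,3,0,0], [0,3,3,0,3,0], [0,1,2,2,2,1,0], [1,1,2,1,0,0,0,1], [1,0,3,2,1,1,0], [1,0,3,2,1,1], [0,3,2,3,0,1,0], [1,2,1,0,1,2,1,0], [0,0,1,1,2,3], [0,1,2,2,3,3,0], [2,2,3,2,1,2,1,0], [1,2,3,3,0], [3,3,2,2,3], [0,1,2,1,1], [1,2,1,0,1], [3,2,2,3,3,0,3,0], [1,1,0], [0,0,0,1,2,1,1], [0,0,0,1,1,0], [2,1,2,1,0,1], [0,1,0,3,0,3,2], [0,1,1,2,2,2,3], [2,2,3,3,0,1,2], [2,3,2,3,3], [3,0,3,2,3,0,1], [3,3,0,1], [2,3,2,1,2,2], [0,1,2,1,2,2,2], [0,1,0,0,1,0,1,1],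 [3,3,2,3,3,2], [2,3,2,1,0,1,0], [1,0,0,3,3], [3,0,3,2,3,3,0], [0,3,3,2,1,2], [0,1,2,3,3,2,1], [1,2,3,0,1,2], [1,1,0,0,3,0,3], [3,2,3,3,0], [0,1,0,3,2], [0,1,0,1,0,1], [0,1,2,2,2,1], [1,1,0,0,1], [1,1,0,1,0,0], [1,0,1,0,3,0,0]]

/-- Part of the paths. -/
def pathsC12 : List (List ℕ) := [
[2,2,3,2,2,3,3], [0,1,2,1,1,0,1], [1,0,1,1,0,0,0], [3,0,0,0,3,3,0], [2,2,1,0,1,2,1,0], [3,3,0,3,0,3,3,0], [2,2,2,1,0,3], [2,3,0,3,3,0,1,0], [2,2,2,3,3,0,3], [0,3,3,2,3,0,1], [2,3,2,2,1,0,3], [0,0,1,0,3,0,0], [0,3,0,0,0,3,3], [1,1,0,1,0,1,0,0], [1,2,1,0,1,1,0], [1,0,1,0,3,2], [2,2,3], [3,2,1,1,2,3,3,0], [3,3,0,3,2], [1,2,1,2,3,3,2], [1,1,2,1,0], [2,3,0,1,0], [2,2,3,3,0,3], [3,0,3,2,2,2,1,0], [3,3,0,0,0,3], [2,2,3,2,3,0,1],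 [0,1,2,3,0], [2,1,2,1,2], [2,1,0,0,1,2,2], [2,3,0,3,0,0,3], [3,0,0,3,2,1,1,2], [2,3,3,2,1,0,0], [3,0,0,0,3,3], [3,0,0,3,2,2], [3,2,3,0,1], [2,1,2,1,0,0,1], [3,0,1,0], [2,1,1,2,3,3], [3,0,3,2,3,3], [3,0,1,0,1,2,1], [1,1,2,3,0,1], [1,1,2,2,3], [3,3,0,1,2,2,2], [2,3,3,2,1,2,3], [2,3,0], [0,1,1,2,3,0,0,0], [0,0,3,2,2,3], [1,0,1,0,1,2,1], [1,2,3,0,1,1,0,0], [3,0,1,2,3,0,0], [0,3,3,0,3], [2,2,1,1,2,3,3,0], [2,3,0,1], [1,1,0,0,3,2,2], [1,1,0,0,3,0,1], [3,0,0,3,3,0], [1,0,3,2,2], [1,0,1,2,2,2], [2,1,2,2,2,1,1], [2,1,2,3,3,0,3,0], [3,3,2], [1,0,0,1,1], [3,3,2,2,2,3,0,0], [1,2,1,0,1,0,0], [2,2,1,2,3,0,3], [2,2,1,0,0,0], [0,0,1,2,2,1,1], [1,2,3,2,3,2,3,0], [0,1,0,1,1], [0,3,0,1,2,1], [2,1,2,3,0], [3,2,3,2,3,3,2],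 [1,0,3,2,3,2,1], [3,2,2,1,2,1], [0,3,0,3,0,3], [2,3,3,2,3,0], [1,2,2,3,3,2,1,0], [3,0,1,2,3,2,2], [3,3,0,1,2,3,0], [0,3,0,0,3,3,0], [3,2], [2,2,2,1,0,1,1], [1,0,0,3,3,2,1], [0,3,2,2,1,1], [1,2,2,2,3,0,0], [1,2,2,1,0,3,2,1], [3,0,3,2,2], [3,0,3,3,0,3,0], [0,1,0,1,2,1], [0,0,3,2,3,0,1,2], [0,0,3,3,0], [3,3,0,3,2,3,0], [3,3,2,3,2,1], [0,1,0,0,3,0,0,1], [0,0,3,0,0,3,2,2], [1,2,3,0], [1,1,0,0], [1,2,2,2,1,0,1], [2,2,1,2,2,1,0], [3,3,2,3,0,0,0,1]]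

/-- Part of the paths. -/
def pathsC13 : List (List ℕ) := [
[2,2,2,1,0,3,0,0], [2,1,2,2,1,0], [0,0,3,3,2,3], [1,0,1,1,2,3,0,0], [1,1,2,2], [1,0,0,1,1,2], [3,3,2,2,3,2,1,1], [2,1], [3,2,1,1,2,3,0], [0,3,0,0,0,1,0], [0,0,3,0,1,0,0], [2,1,2,3,2,3,0,1], [3,0,0], [1,0,1], [1,0,0,3,0,0,0], [1,0,1,0,0,0], [1,1,2,1,1,0,1], [1,1,0,1,0,0,0], [1,1,0,1,1,0,1,0], [2,3,3,2,2,3,3], [1,2,2], [3,0,0,1,1,0,0], [2,1,0,0,0,1], [0,3,0,3,0,0,0], [3,2,3,3,0,1,0,0,0], [3,0,0,0,3,0,1], [1,1,0,3,0,1], [1,1,0,3,2,2], [3,3,0,1,0], [1,1,0,1,0,1,0], [2,2,2,1,1,0,3,0,0], [0,1,2,2,3,2,2], [3,2,2,1,0,1,0,1,0], [2,3,0,1,0,1,0,0], [1,0,1,1,2,1], [3,3,0,1,0,1,2,1], [2,2,2,1,1,0,0,0], [1,0,0,0,1,0], [0,3,0,0,1,2,2], [0,0,3,3], [3,3,2,3,0,3],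 [1,2,1,0,0,3,3,0], [1,1,2,3,2,2], [0,3,0,3,0,1,1,2], [0,1,1,2,1,1,0], [1,0,0,3,2], [1,0,0,3], [1,2,2,2,3], [1,0,1,2,2,1,1], [2,3,2,3,2,2,1], [3,2,3,2,2], [3,2,1,2,1], [3,2,2,3,2,3,0,1], [0,3,3,0,0,1,0], [2,2,2,3,2,1,1], [0,1,2,3,0,3,0], [0,1,2,1,1,0,3], [3,0,0,0,3,2,2], [1,0,0,1,1,2,2], [3,3,0,1,2,2], [3,0,1,2,1,2,1], [1,0,0,1,1,0,1], [3,3,0,1,0,3,2], [1,2], [1,0,1,2,1,0], [3,2,2,2,3,0,3,0], [3,0,3,0,1,0,3], [1,2,1,0,3,3,2], [0,1,2,2,2,1,0,1], [1,2,3,2,3,3,2], [3,0,1], [3,0,1,2,1,0], [2,3,0,1,0,0,0], [1,0,1,0,3,3,2], [2,3,0,1,2,2,2], [3,3,2,1,2,1,2], [1,0,3,3,0,0], [3,2,2], [1,0,1,2,1], [2,1,0,3,0,1,1], [1,0,3,2,3,3,2], [0,3,2,3,0,3], [2,1,2,3,2,3,0,0], [0,3,2,1,0,1,0,0], [0,3,0,3,2,2], [0,0,1,1,0,1],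 [3,0,0,3,2,1,0,0], [1,2,3,0,3], [3,3,2,3,0], [2,2,1,2,2,1,1], [2,3,2,3,2,3,3], [1,1,2,2,1], [1], [2,1,1,0,1], [0,3,2,2], [1,2,1,1,0,3,0,0], [0,3,0,3,2,3,3], [1,2,2,1,0], [3,3,2,1,2,2,1], [1,2,3,2,2]]

/-- Part of the paths. -/
def pathsC14 : List (List ℕ) := [
[3,2,1,0,1,0,0], [1,1,0,1,0], [1,1,2,3,3], [3,0,1,2,2,2], [2,2,1,0,3,0,1,1], [2,3,3,2,3,3,0], [1,1,2,2,1,2,1], [2,1,2,2,2,3,0,1], [1,1,2,1,1,0,3], [3,0,1,0,0,0], [0,3,3,0,1,0,3,2], [1,0,0,3,2,3,0], [1,2,2,2,3,0,1], [2,3,2,1,2,1,2], [1,2,1,1,2,2,1], [1,0,0,0,3,3,2,1], [0,1,1,0,1,0,1,0], [0,3,0,3,0,0], [0,3,2,1,0,3], [2,1,2,1,0,3,0], [2,2,2,1,0,1], [1,0,0,3,3,2,2], [1,0,3,3,0,0,0], [3,0,3,2,1,1], [3,0,0,3,0,1], [3,2,3,2,1], [0,3,2,1,1,2], [2,2,1,0,0,3,0,0],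 [1,1,2,1], [2,3,2,1,2,1,0,0], [0,0,1,2,1,1,0,3], [3,0,0,3], [3,0,1,0,0,1,0], [1,2,1,1,0,0], [2,1,0,3,3,0], [2,1,2,1,1,0,0], [0,1,0,3,2,1], [1,1,0,3,0,0,3], [1,1,0,0,0], [0,0,3,0,3,0], [1,2,3,2,1,2,3,0], [1,2,3,2,3,0,1], [1,2,1,0,0,0,1], [1,2,2,3,3,0,1], [3,2,3,0,1,2], [3,2,1,1,2,2,1], [0,3,3,0,3,2], [1,0,1,1,0,1,0,0], [3,0,0,1,1,2,3], [0,0,3,0,1,0,0,0], [0,1,2,2,1,1], [3,3,0,3,2,2], [2,3,0,3,2,1,2], [0,0,0,3,0,1], [0,0,1,2,1,0,0,1], [3,2,3,0,3], [2,3,3,0,0], [3,3,0,0], [2,1,0,1,2,2,3], [2,3,2,2], [1,0,1,1,2,3], [2,2,3,0,3,2,2], [3,2,3,0,0,1], [2,2,3,3,2], [2,1,1,2,3,3,2], [1,1,0,3,3,2,3], [0,1,2,1,2,1], [1,1,0,1], [3,3,0,3,0,3,0,0], [1,0,1,0,3,2,1], [0,1,1,2,3,2,1], [0,1,0,0,0], [1,2,1,0,3,2,1,0],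 [0,0,3,0,1], [3,2,1,0,3,0], [2,1,1,2,2,1], [0,1,0,0,3,2,3], [1,1,2,2,2,3,0,0], [0,3,3,0,1,2,1], [1,0,0,3,0,0,1], [0,1,0,1,2,1,2], [2,3,3,0,1,0,3,2], [0,0,3], [2,1,0,1,2,1], [1,0,3,2,3,0,3], [3,2,1,2,1,2], [2,3,0,1,2,3,0,0], [1,0,3,2,1,0,3], [0,0,3,3,2,3,0], [0,0,1,0,1,1], [1,1,2,3,2,1], [1,1,0,1,2,1,0], [1,0,3,2,2,1,1], [2,1,1,2,2,3], [3,0,0,1,0,1], [3,0,3,3,2,3,0], [1,0,1,1,0,3], [3,2,1,2,2,1,0], [0,1,2,2,2], [3,0,3,0]]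

/-- Part of the paths. -/
def pathsC15 : List (List ℕ) := [
[1,1,2,1,0,1,0], [3,2,3,0,1,0,0,0], [0,3,2,1,1], [3,2,1,2,1,0,0,1], [3,2,1,0,0,3], [0,1,0,3,3,2,1,0], [0,0,3,0,0,1], [3,2,1,0,3,0,0], [3,3,0,3,0,0], [3,2,2,1,0,0,0], [1,1,0,1,1,0,1], [3,2,3,0,1,0,1,0], [3,3,0,0,0], [0,0,0,1,0], [3,3,2,3,0,0,1], [3,2,1,1,0,0,0], [1,1,2], [3,2,1,2,2,1], [0,1,1,0,3], [3,3,2,2,1,2,1], [2,3,2,1,0,3], [2,1,1,2,1], [1,0,0,0,1,0,3], [2,1,0,3,0,1,0,1], [0,3,2,1,0,3,0], [3,0,0,3,2,1,2], [2,2,2,3,0,1], [1,0,0,0,3,2,1], [2,3,0,0,0,1,0], [2,2,2,3,2,2], [0,0,0,3,0,3,2,2], [1,2,3,2,3,3], [0,0,1,1,2,2], [1,2,2,3,0,1,1], [3,0,3,3,0,0,1,0], [2,1,0,3,0,3,0,0], [2,1,0,0,0], [3,3,2,2,2,1,1], [3,3,2,3,2,3,0,0], [1,1,2,3,3,2],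 [3,0,0,0,1,0], [3,3,2,3], [2,2,1,1,0,1], [1,2,1,0,0,1], [0,0,3,0,3,2,2], [1,2,3,2,3,3,0,0], [2,2,3,0,1], [2,3,0,0,0,1,1,0], [0,1,2,3,0,3], [1,0,1,1,2,2,2,3], [0,3,0,3,0], [3,3,2,1,0,0,1,0], [3,2,1,1,2,1], [0,0,1,1,2], [1,2,3,2,3,3,0], [2,2], [2,3,2,1,0,0,1], [1,2,1,0,3,0], [2,2,2], [2,2,3,3,0,1,0], [2,2,1,1,2], [0,1,1,2,1], [1,2,1,2,3,3], [0,3,2,1,1,2,3,3], [1,2,2,2,1,0], [3,0,0,1,0,3,2], [0,1,2,1,0,1,1], [0,0,1,0,0,1], [1,0,1,1,0,1,0], [1,0,1,0,0], [3,2,3,0,3,2,1,0], [1,2,2,1,0,1,2], [1,0,3,2,3,2,2], [2,3,0,1,2], [3,0,1,0,1], [0,0,3,0,1,1,0], [1,2,2,2,1,1,0], [0,0,1,1,0,3,3,0], [3,0,3,0,1], [1,1,2,1,1,0], [3,2,2,1,0,3,2], [0,3,3,0,1,0,0], [0,0,0,1,0,0,1,0], [1,2,1,1], [3,0,3,3,2,1,0,0], [3,0,1,2,1,0,0,1],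 [2,2,2,1,1,0], [1,0,3,2,3,0,1], [1,0,3,0,1,1,2], [3,3,0,0,3,2], [1,0,1,2,2,1], [2,3,3,2,1,0], [3,3,2,2,3,3,0], [0,0,1,0,0,1,2], [2,2,3,2,3,0,0], [3,3,2,1,0], [1,2,2,1,1,0,0,0], [0,0,3,2,3,3], [0,3,2,3,3,0], [1,1,0,0,3,3]]

/-- Part of the paths. -/
def pathsC16 : List (List ℕ) := [
[1,0,3,2,3,3,0], [1,2,2,1,2,1,1], [3,2,2,1,1,0], [0,1,1,0], [2,3,0,1,0,0], [0,1,1,2,2,1,1,0], [0,3,3,2,2,1], [3,3,0,3,2,1], [1,2,2,3,2,1,1], [2,1,1,0,3,2,3], [2,3,3,2,2,3], [0,0,0,3,0,0,0], [3,3,0,0,0,1,1], [2,1,2,2,1,0,3,0,0], [0,3,0,1,1,2], [3,2,2,1,0,1,1], [3,3,2,2,1,0,3,0], [3,0,0,1,0,3], [1,0,1,2,3,2,1], [0,3,0,0,0,3], [2,2,1,0,3,0], [2,3,2,3,0,3,0], [0,3,0,0,1,0,1,1], [1,2,2,1,0,3,0,0], [3,3,0,3,2,1,2], [1,0,0,0,3,3,0],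 [1,0,0,1,0,3,2,1], [3,3,0,0,3,0,0,0], [3,0,0,1,2,1,1], [1,0,1,0,1], [0,1,1,0,1,0,3,0], [2,2,3,2,1,2,2], [2,1,1,0], [2,3,0,3,2,2,3], [2,3,0,1,1,0,0], [1,1,2,3,0,0], [2,1,0,1], [0,1,2,2,3], [3,3,2,3,2,2,1], [0,0,1,0,3,0,1], [1,0,1,2,1,0,1,1], [2,2,3,2,3,2,2,1], [1,0,0,1,0,3,2], [1,1,2,1,0,3,2], [2,3,2,3,2,1,1], [3,0,1,2,2,2,3], [3,2,1,1,0,3,2], [3,0,1,1,2,1,1,0,0], [3,0,3,3,0,1,0,0], [0,1,2,2,3,2,1,1], [1,1,0,0,3,0,0,0], [3,0,0,3,2,1,1], [0,0,1,0,1,1,2], [0,0,0,1,0,0,1], [3,2,2,3,0,0,0], [1,2,2,3,2,2,1], [2,2,3,0,0,0], [0,3,0,1,1,0], [0,1,0,3,3,0,1,0], [3,0,3,0,1,2,2], [0,0,3,3,0,1,0], [2,3,0,0,0], [3,3,2,1,0,1], [1,2,3,3], [2,3,3,0,1], [3,2,1,1,0], [3,0,3,3,2,1,0], [2,3,3,0,1,1,0,1], [1,0,0,1,2,1,2],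 [0,0,1,2,1,1], [0,1,0,1,1,0,1], [0,1,0,0,1], [0,0,1,1,0,1,0,0], [1,1,2,2,1,1,0], [3,2,2,2,3,0,0,0], [1,0,1,1,0,0], [1,0,1,0,1,2,3], [3,0,0,0,3], [1,1,2,2,2,1,1], [2,1,2,1,1], [0,0,1,2,2,2,3], [2,1,2,3,0,0,0], [3,0,3,0,3,0,0], [1,2,1,0,1,1], [3,2,1,0,1,1,2], [3,2,1,2,1,2,2], [0,0,1,0,1,2], [0,3,0,3,0,3,3,0], [0,3,0,1,0,0], [1,1,0,3,2,3], [3,2,1,0,3,0,1], [3,0,3,3,0,1], [2,1,2,3,2,3], [0,3,0,0,1,2,1,0], [1,2,2,2,1], [2,3,0,1,0,3,0], [1,2,3,0,3,3], [1,1,0,0,0,1,1], [3,0,1,2,2,1], [1,2,3,3,2,1,0]]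

/-- Part of the paths. -/
def pathsC17 : List (List ℕ) := [
[1,2,3], [1,2,3,0,0,0], [0,3,2,3,3], [0,0,3,3,0,1], [3,0,1,1,2], [1,0,0,1,1,2,3], [3,0,1,1], [2,3,0,1,1,0], [2,2,1,2,3], [1,1,2,1,1], [3,2,2,2,3,3], [1,1,0,3,2,1,0], [1,0,3,2], [1,2,3,2,3,0,3], [0,0,1,1,0], [2,1,0,0,3,3], [1,0,3,2,1,0,1], [1,1,0,3,3,0], [3,0,3,0,0,0,3], [1,1,0,0,1,0,3], [3,2,1,0,1,0,1], [0,3,3,2,2,2,3], [2,2,1,1,0], [0,1,2,3], [0,0,3,0,0,1,0,3], [0,0,1,0,1,0,1], [3,2,3,2,3,0], [0,3,0,0,0,1], [1,2,3,2,2,1,1,2], [0,3,2,3,0], [2,1,2,1,2,2,1,0], [0,0,3,0,3,0,0,1], [0,1,2,3,3,0,1], [0,1,2,1,2], [3,2,3,2,3,0,3], [2,3,0,1,2,2], [2,2,1,0,3], [3,3,0,0,1,0,1,2], [1,2,1,2,2,1,0], [2,1,2,1,2,2], [1,1,2,1,0,1,0,1], [3,0,3,3,0,1,0], [2,2,2,1,1,2,2,2],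 [3,2,3,0,0,0,1,0], [1,2,3,3,0,1], [3,2,2,2,1], [1,1,0,3,3,0,1], [3,3,0,0,3,2,1], [1,0,0,0,3,0,0], [0,1,1,0,1,2,1], [3,2,2,3,3,0,0,0], [0,3,0,1,2,3], [2,1,1,2,2,2], [3,2,2,1,1], [2,3,2,1,0,1,1], [0,3,2,2,1,1,2,1], [1,2,2,3,2,1], [2,2,1,1,2,2,2], [3,2,3,2,3,2,1,1], [3,3,2,1,2,3,3], [0,1,1,0,1,2,3], [1,1,0,1,2,3], [0,0,0,1,0,3], [2,1,0,0,0,3,0,0], [3,2,1,0,1,1], [0,0,0,3,3,0,3], [2,3,2,3], [3,0,3,3,0,0,0,3], [0,3,2,3,2,3,0,0], [3,0,1,0,3,0,0], [1,1,0,0,1,2,1,0], [0,0,1], [1,2,3,3,0,1,2], [1,0,0,1,0,0,0,1], [0,1,2,1,0,0], [3,0,3,0,0,1], [2,1,1,0,3,2], [2,2,2,3,3,2], [2,1,2,2,3,2,1], [1,1,2,3,3,0,3,0], [2,1,1], [2,3,0,0,1,0], [1,2,3,0,1,0], [1,1,0,3,2,1,2,2], [1,0,3], [3,0,1,2,1,2,3], [3,0,3,2,1,1,0,0],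 [3,0,1,2,3], [3,3,2,2,1,1,0], [1,0,1,2,3], [2,2,1,2,1,2], [2,3,3,2,2,1,1,0], [3,3,0,3,0,0,0,1], [3,3,0,3,3,2], [1,1,0,3,3,2,2], [0,0,0,3,0,1,2,2], [0,1,1,0,3,0,3,0,0], [2,1,1,2,1,0], [3,2,3,2,3,0,0], [2,1,1,0,1,2,2,1]]

/-- Part of the paths. -/
def pathsC18 : List (List ℕ) := [
[1,0,1,0,0,3,2], [2,3,3,0,0,0,3], [0,1,1,2,1,0,1,0], [0,0,1,0,1,0,1,0], [0,1,1,0,0,0,1], [2,2,2,3,3], [1,0,1,1,0,1,2,1], [1,1,2,1,2,3], [3,2,3,2,1,0,1,1], [2,2,3,0,0,1,0,3], [0,0,1,0,1,2,2,1], [3,3,2,1,0,3,2], [0,1,2,2,2,3], [0,1,1,0,3,2,3], [0,3,3,0,1,0], [0,1,1,2,3,0], [2,2,1,0,0,3,3], [1,2,2,1,0,3,0], [0,3,2,1,0,0], [3,0,1,1,0,0], [2,2,2,3,3,0,1], [1,2,3,3,2,1], [2,2,3,2,3,3,0,1], [1,0,3,2,3,0], [3,3,2,1,0,1,2], [3,3,2,2,1,1,0,0],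 [0,3,0,0,0,3,0,1], [0,1,0,0,1,2], [3,3,2,3,0,0], [1,0,1,1,2], [3,3,2,2,2,3], [2,2,3,0,1,1,2], [1,0,3,0,0,0,3], [0,0,1,2,3,0,0], [3,2,2,3,0,1,0,0], [1,1,0,1,0,3,0], [0,0,3,0,1,0,3], [3,0,1,1,0], [0,0,1,0,0,0,1], [0,0,1,0,3,2,1], [1,0,3,0,1,2,3], [3,2,2,3,3], [3,3,0,3,2,1,0], [0,1,2,1,2,3,2,1], [2,3,0,0,1,2,1,0], [0,0,1,2,3,0,3,0], [0,0,1,0], [2,3,3,2,1], [0,3,0,3,2,3,0], [1,2,3,2,1,0,3], [0,1,0,1], [2,1,2,1,2,2,2], [1,0,3,2,3], [0,3,3,0,1], [1,2,2,1,0,0,1,0], [1,1,0,0,3,2,1], [0,0,0,3,0,1,0,0], [3,3,2,3,3,0,1], [3,3,2,1,1,0], [3,2,1,2,1,0], [1,0,0,0,1,1], [2,2,1,2,1,0,1], [1,2,1,2,3,2,1], [1,2,3,2,3,0,3,0], [3,3,2,1,1,2,2,3], [2,1,2,1,1,2], [2,1,2,3,2,1], [3,2,2,1,0,0,3,3], [1,0,0,1,0], [0,0,1,1,0,1,0,1,0],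 [0,1,0,0,0,3,3], [2,3,2,3,3,0], [2,3,2,3,0], [1,1,2,1,0,3], [1,2,1,2,2], [1,0,0,1,2,3,0,3,0], [1,0,3,0,0,0,1], [2,1,0,3], [1,0,1,2,1,0,0], [2,1,2,3,3,0,1], [0,1,0,3,3,2], [0,0,0,3,0,3], [1,1,0,3,2,1], [2,2,3,3,2,2,1,1,0], [0,1,0,3,3,0,0], [3,2,3,0,3,2,1], [2,3,2,3,0,3,2,1], [1,0,3,0,1,0,0], [1,0,1,1,2,2], [0,3,2,3], [2,3,0,1,0,1,2,1], [0,0,0,1,1], [1,2,1,2], [1,0,3,0,0,1], [2,2,1,1], [0,1,1], [3,2,1,0], [1,1,2,1,2,1,0,0], [0,3,3,0,1,1,0], [0,1,0,3,0]]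

/-- Part of the paths. -/
def pathsC19 : List (List ℕ) := [
[0,1,2,2,1,0,3,0], [2,1,2,2,2,1,0], [0,1,2,2,1,2,1,1], [2,2,1,2,1,1], [1,2,1,0,1,1,2], [3,3,0,1,0,3,0], [2,3,2,1,2,2,1,0], [0,1,2,1,2,3], [1,0,1,1,0], [1,0,1,0,3,0], [2,2,3,2,2,2,1,0], [0,0,1,0,0,1,0], [0,3,3,0,0,3,2], [2,1,0,1,2], [3,2,3,2,3,0,0,1], [2,3,0,1,1,2], [2,1,1,2,1,2,3], [3,0,0,1,2,2,3,3], [1,1,2,3,3,0,1], [2,2,1,0,1,0,1,0], [3,0,3,2,3], [2,2,1,0,0,1,0], [1,2,2,3,0,0,0], [1,1,2,1,2,2,1], [3,3,2,1,0,1,1,2], [0,0,1,1,0,0,0], [2,1,0,1,0,1], [2,2,2,3,0,0,0], [2,2,3,2,3,3], [0,0,0,3,3,2,1], [0,0,3,2,3,2,1], [1,0,1,0,1,0,1,1], [1,0,0,0,3,3,0,1], [1,1,2,3,0,1,1], [1,0,3,3,0,1], [3,0,3,0,1,0,0], [1,2,1,2,2,2], [2,3,0,3,0,0], [3,3,0,3,0,1,1,2],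 [1,2,3,0,3,0,0], [3,2,3,0,0,0,1], [2,2,3,0,0], [2,2,1,0,1,2], [1,2,3,0,0,1,1,0], [1,1,0,1,0,3,2], [0,1,2,1,0,1,0], [2,1,2,2], [3,2,2,3,3,0,0,1], [1,1,2,1,0,1,2], [1,0,1,1,2,1,0], [0,0,1,0,3,0], [3,2,3,0,3,3,0], [3,3,2,1,2], [2,2,1,2,1,0,1,0], [3,0,0,0,3,2,1,1], [2,2,1,2,2,2,3], [3,3,0,0,1,2,2], [1,1,0,3,0,3,2], [0,0,1,1,2,3,0,0], [2,1,1,0,3,3,0], [2,1,0,1,1,0,0,0], [0,0,1,0,3,2], [2,1,2,3,3], [3,2,1,2,3,3], [0,3,3,2,2,1,0], [0,1,2,3,0,1,2], [3,3,0,3,0,0,1], [1,1,2,3,2,3], [1,0,3,0,3,2], [1,1,0,3,2,1,2], [1,2,1,1,0], [0,0,1,2,1,2], [2,1,1,0,3,3,0,1], [3,3,0,0,3,0,0], [3,3,0,1,2,2,1], [1,1,0,1,2,2,1], [0,3,0,1,0,1,1], [0,3,3,2,2,1,1,0], [2,3,2,2,1], [3,2,2,1,1,2,1], [3,0,1,1,2,3], [2,2,3,0,0,1,0], [1,1,0,0,1,0],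 [0,0,1,1,2,2,2], [0,1,0,3,0,0,0,1], [0,0,3,2,3,2,3,0,0], [1,2,2,2,3,2,1], [1,0,3,0,1,0,0,0], [0,0,1,1], [2,2,1,2,1,0,0], [3,0,0,1,0], [2,1,2,3,3,2], [0,3,2,2,3], [3,0,3,2], [2,3,0,3,3,0], [1,0,0,1,0,1,0,1], [3,3,2,2,3,3], [0,3,0,0,1], [2,2,3,3,0,3,0], [0,3,3,2,2,3]]

/-- Part of the paths. -/
def pathsC20 : List (List ℕ) := [
[0,0,1,2,2,2], [2,3,2,1,2,3,0], [3,2,1,1,2,1,0], [1,1,2,2,2,1,1,0], [1,2,3,2,2,1,1,0], [0,0,1,2,2,3,3], [2,2,3,2,3,3,2], [1,0,3,3,2,2,3], [3,3,2,1,1], [1,2,1,1,2,2,2], [3,0,3,3,0], [3,2,2,3,3,0], [3,2,1,2,1,0,0], [0,0,3,3,2,3,3,2], [3,2,3,2,2,2,1,1], [2,1,1,2,1,2,2,1], [3,0,0,1,2,1,0], [1,2,2,2,1,1,0,1], [1,1,0,3,0,0,0], [2,2,3,2,2,1], [0,0,1,0,3], [1,2,1,2,1,2,2], [1,2,2,3,0,1,0,0],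 [2,3,2,3,2,3,0,0], [2,2,1,2,3,3,0,1]]

/-- The paths. -/
def pathsC : List (List ℕ) := ([pathsC0, pathsC1, pathsC2, pathsC3, pathsC4, pathsC5, pathsC6, pathsC7, pathsC8, pathsC9, pathsC10, pathsC11, pathsC12, pathsC13, pathsC14, pathsC15, pathsC16, pathsC17, pathsC18, pathsC19, pathsC20] : List (List (List ℕ))).flatten

theorem testsOKC : testsOK (plain testsC) codeC = true := by decide +kernel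

theorem certC : certAll mclMats (enc (xCL : GolayPt → ℤ)) (chosen codeC) pathsC = true ∧
    Nat.beq (chosen codeC).length 2025 = true := by decide +kernel

theorem ncardC : (pickL testsC).ncard = 2025 := by
  rw [ncard_pickL testsOKC]; exact Nat.eq_of_beq_eq_true certC.2

theorem reachC {S : Subgroup Co0} (hS : ∀ g ∈ mclElts, g ∈ S) :
    ∀ y ∈ pickL testsC, ∃ g ∈ S, g • xCL = y :=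
  transitive_of_cert isMat_mcl hS testsOKC (by decide +kernel) certC.1

theorem memC : xCL ∈ pickL testsC := by
  refine ⟨by decide +kernel, ?_⟩
  simp only [testsC, List.forall_mem_cons]
  exact ⟨by decide +kernel, by decide +kernel, fun _ h => absurd h List.not_mem_nil⟩

end CfsgLib.Spor.Leech.Census32
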