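/-
Orbit certificate CEight.
-/
import Cfsg.Agent.Lib.Spor.Leech.Census.Data.Gens

set_option autoImplicit false
set_option maxRecDepth 20000
set_option maxHeartbeats 0

namespace CfsgLib.Spor.Leech.Census32

open Cfsg

/-- The tests. -/
def testsCEight : List (leechLattice × ℤ) := [(v1L, 0), (w1L, 16), (xCL, 8)]

/-- Their numbers. -/
def codeCEight : List (ℕ × ℕ) := [(112562520735956409447851611267016991984580410813578825706846029514451041733003352209561054719109825197491232, 4160), (46902362677612083329841369420501148483485120768910627702136384129516390938716187177239554680883980250622852, 4272), (65662474007103583870780591362828905542112848156290796382635709269712160369254433284269702560940545210644004,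 4200)]

/-- The representative. -/
def repCEight : leechLattice :=
  ⟨fun p => [-1, 1, 1, 1, 1, 1, 1, 1, 1, 1, -1, 1, 1, 1, 1, 3, 1, -1, -1, 1, -1, -1, -1, 1].getD (ptIdx p) 0, leechTest_spec (by decide +kernel)⟩

/-- Part of the paths. -/
def pathsCEight0 : List (List ℕ) := [
[], [0,0,0,1,1,0,1,1,0,0], [1,1,0,1,1,0,1,0,1,0,1,1,0], [1,1], [1,1,1,0,0,1,1,1,0,0,1], [1,0,1,0,1,0,1,0,0], [0,1,0,0,1,1,1,0,0], [0,1,0,1,1,1,1,1,1], [1,0,0,1,1,1,1,1,1,0], [0,1,0,1,1,0,1,0], [1,1,1,0,0,1,1,0,1], [0,1,1,1,0,1,1], [1,1,0,0,0,1,1,1,1,0,0,0], [0,1,1,1,1,0,1,1,0,0,1], [0,0,0,1,0,1,1,0], [0,1,0,0,1,1,0,0,1,1], [1,0,1,1,0,0], [1,0,0,1,1,0,1,1,0,1], [1,0,0,1,0,1,1,0,0], [1,1,1,1,0,1,1,0], [1,0,1,0,0],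 [0,0,1,1,0,0,0,1,1,0], [0,1,1,1,0,1,1,0,1,0], [1,1,1,0,0,1,0,1,1,0], [0,0,0,1,0,0,0,1,1,0,0,0], [0,1,0,1], [0,1,0,1,0,0,1,0], [0,0,1,0,1,0,0,1,0], [1,1,1,1,1,1,0,1,0], [0,1,1,1,0,1,1,0,0,1], [0,0,1,1,0,1,0,1,1,0,1,0], [1,0,0,1,0,0,1,1,1,1,1], [1,1,0,0,0,1,0,1,0,0,1], [1,1,0,0,1,1,0,1,0,1], [1,1,1,0,1,1,1,1,0], [0,0,0,1,0,1,1,0,1,0,1], [0,0,0,1,0,1,1,0,1], [1,1,0,1,1,0,0,1,1], [1,1,0,1,1,0,1,1,0,1], [0,0,1,0,0,1,1,0], [0,0,0,1,1,0,1], [0,0,1,0,1,0,1,0,1,0], [0,1,0,1,1,1,0,1,0], [1,1,0,1,0,1,1,0,0], [1,0,0,0,1,1,1,1,0], [1,1,0,0,1,0,0,1,1,0,1], [1,1,0,1,1,0,0,1,0,1,1,0], [1,0,1,0,0,1,1,1,0,1,1,1], [0,1,1,1,0,0,1,0], [0,0,1,1,1,1,1,0,0], [1,1,0,1,0,1,0,1,0,1], [1,1,1,0,1,1,1,1,1,1],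 [1,0,1,1,1,0,1,1,0,0,1,0], [0,0,1,1,1,1,0,1,1,0,0], [1,0,1,0,1,0,1,1,0,0,1], [1,0,1,1,0,0,1,0], [0,1,1,0,0,1], [1,1,1,0,0], [0,1,0,1,0,0,0,1,1,0,1,0], [1,1,0,1,1,1,1,0,1,0,1], [1,0,0,1,1], [1,1,1,0,1,0,0], [0,0,1,1,0,0,1,1,0], [1,1,1,0,1,0,1,1,1], [0,0,0,1,0,1,1,1,0], [1,1,0,0,0,1,0,1,1,0], [1,1,0,0,1,1,1,0,1,1,1], [0,0,0,1,1,1,0,1,1,0], [0,0,1,0,1,0,0,1,1,1,0,0], [1,0,1,0,1,0,1,0,1], [1,1,0,1,0,1,1,1,0,0,0], [1,1,1,1,0,1,1,0,0,1,1], [1,1,0,1,1,1,1,0,0,0], [1,0,0,0,1,0,1,1,0,0,1], [0,0,0,1,0,1,1], [1,1,1,0,0,0,1,1], [0,1,1,0,0,0,1,1,1,1,1], [0,1,0,0,1,1,1,1,0,1,0,0], [1,1,0,1,0,1,0], [0,1,1,1,0,0,1,0,1,1,0], [0,1,1,0,0,1,1,1,0,1,0,0], [1,1,0,0,1,1,1,1,0], [1,0,1,0,0,0,1,1,0,1,0],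 [0,0,0,1,0,1,0,1,0,1,0], [1,1,1,1,1,1,0,1,0,0], [0,1,0,1,0,1,0,1,0], [1,0,1,0,1,1,1,0,0], [1,1,1,0,0,1,0], [0,0,0,1,1,1,0,1,1,0,0,0], [1,1,0,0,1,0,1,0,1,0,0,1,0], [1,0,1,1,0,1,0,1,1,1], [1,1,1,1,1,1,0,1,1,0,1], [1,0,0,1,1,0,1,0,1,1,1], [1,1,0,1,1,0,1,1], [0,1,1,0,1,1,1,1,1,0,0], [0,1,0,0,1,1,0,1], [1,1,0,1,1,1,1,1,1,0], [0,0,1,1,1,1,1,1], [1,1,0,1,1,0,1], [0,1,1,1,1,0,1,0,1,0,1]]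

/-- Part of the paths. -/
def pathsCEight1 : List (List ℕ) := [
[1,0,0,0,1,1,0,1,0], [0,0,1,1,1,0,1,0], [0,0,1,1,0,1,1,1,0], [1,1,1,0,0,1,0,1,1], [1,1,1,0,1,1,0,0,1,1,0], [1,1,1,1,0,0,1,0,1,1,1], [1,0,0,1,1,0,1,0,1,1], [1,0,1,0,1,0,0,1,1], [1,1,1,0,1,1,0,1,1,1], [0,0,1,1,1,0,1,1,0,0,0], [1,0,0,0,1,1,1,0,1,1,0], [0,1,1,0,0,1,0,0,0,1,1], [0,0,1,1,1,0,0,1,0], [0,0,1,0,0,1,1,0,1], [1,1,1,1,1,1,0,1], [1,0,0,1,1,1,1,0,1,0,1,1], [0,1,1,0,1,1,1], [1,1,0,0,0,1,1,0,1,1], [0,1,0,1,0,1,1,1,1,0], [0,1,1,1,0,1,1,0,0,1,1,0], [1,1,1], [1,0,1,1,1,0,1], [1,0,0,1,1,0,0], [0,1,1,0,1,1,0,1], [0,0,1,0,1,0,1,1,0,1,1], [0,0,0,1,1,1,0,1,1], [0,1,1,0,1,0,1,1,1,1,1], [1,0,1,0,0,1,1,0,0,0], [1,0,1,0,1,1,0,0],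 [0,1,0,0,1,1,0,0,1,1,0], [1,0,1,0,0,1,1,1,0,1], [0,1,0,0,1,1,0,0,1,1,0,0], [1,1,1,0,1,1,1,1,0,0,0], [0,1,1,0,0,1,0,1,1,1], [1,1,1,1,0,1,0,1,1,0,0], [1,0,1,0,1,1,0,1,0], [0,1,1,1,1,0,1,1,0,0], [0,1,1,1,0,0,0,1,0,1,1], [1,0,1,0,1,1,1,1,0], [0,0,0,1,1,0], [0,1,1,1,0,1,1,1], [1,0,1,0,1,0,0,1,0], [1,0,1,0,0,1,1,0,0,1,1], [1,0,1,1,1,0,0,0], [1,1,1,0,1,0,1,1,1,1,1,1], [0,0,1,1,0], [0,1,1,1,0,0,1], [0,1,0,1,1,1,1,1,1,0,0], [1,0,1,1,0,1,0,1,1,1,1,1], [1,1,0,1,0,0,0,1,1], [0,1,0,1,0,0,1,1,1,0,0], [1,1,1,0,0,0,1,1,1,1,0,0], [0,1,1,0,1,1,1,1,1,1,0,0], [1,0,1,0,1,1,0,0,1], [0,1,1,1,1,0,1,0,1,1,1,1,0], [0,1,0,1,1,0,1,0,1], [0,0,1,0,0,0,1,1,0,0,0], [1,0,0,0,1,0,1,1,1,0], [0,1,0,1,0,1,0,0,1,1], [0,0,0,1,1,0,0,0,1,1,0],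 [0,1,0,1,1,1,1,1,0], [0,0,1,0,1,0,1], [1,1,1,1,1,1,0,1,0,1,0], [1,1,1,1,0,0,1], [1,0,1,1,1,1,1,0], [1,1,1,1,1,0,0,1,0], [0,1,1,1,0,0,0], [0,0,1,0,1,0,1,0,0,1], [0,0,1,1,1,0,1,0,1], [1,1,0,1,1,0,1,0,0,1,1], [1,0,0,1,1,1,1], [0,1,1,1,1,0,1,0,0,1], [1,0,0,1,0,0,0,1,1,0,0,0], [0,1,0,0,0,1,0,0,1,1,1], [0,1,1,1,1,0,1,1,0,0,0], [0,0,1,0,1,1], [0,1,0], [1,1,1,0,0,0,1,0,1,1], [1,1,0,0,1,0,1,1,0,1], [0,1,1,0,0,1,0,1,1,0,1,1], [0,1,0,1,0,1,1,0,0], [0,0,0,1,0,1,1,1,0,0,0], [1,1,0,1,1,1,1,1,1,0,0], [1,1,0,1,0,1,0,0,1,1], [0,0,1,0,1,1,0,1,0,1], [1,0,0,1,1,1,1,0,0], [0,0,1,1,0,1,1,0,1,1], [1,0,1,1,0,1,1,0,1,1,1], [1,1,0,0,0,1,1,0,1,0], [0,1,1], [0,1,1,1,0,1,0,1,0], [0,0,0,1,0,0,1,1,0,1], [0,1,1,0,0,0,1,0,1,0,1],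 [1,1,1,1,0,1,0,0,1,1,0], [1,1,0,0,1,1,1,1,0,1,0,1], [1,1,0,0,1,0,0,0,1,1], [0,1,1,1,1,0,1,0], [0,0,1,0,0,1,1,1,0,1,1], [0,1,1,1,0,1,1,1,0,1,0,0], [1,1,0,1,0,0,1,1,1]]

/-- Part of the paths. -/
def pathsCEight2 : List (List ℕ) := [
[1,1,1,0,1,1,0,0,1,0,1,1,0], [1,1,1,1,0,1,1,0,0,1], [1,1,0,1,1,0], [1,0,1,0,0,1,1,0,1,0,1,0], [0,1,1,1,0,0,1,1,0,0,1,1], [1,1,0,0,1,0,1,0,0,1,0], [0,1,1,1,0,1,0], [0,0,0,1,0,0,1,0,1,1,0,0], [0,1,0,1,1,1,0,0], [1,0,0,1,1,0,0,1,1,0,0], [0,0,1,1,1,1,0,1,1,1], [0,0,1,0,0,1,1,1,1,1], [0,1,1,0,1,0,1,0,1,0], [1,0,0,0,1,0,0,1,1,0], [1,1,0,0,1,0,0,0,1,1,0], [1,1,1,1,1,0,1,0,0,1,1,0], [0,0,0,1,1,1,0,0,1,0], [1,0,1,0,0,1,0,1,1,1], [0,0,1,0,1,1,1,0], [1,0,1,1,1,1,1,1,0],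 [1,0,1,1,0,1,0,0,1,0], [0,0,1,0,0,1,0,0,0,1,1,0], [1,1,1,1,0,1,1,0,1,0], [0,0,1,0,1,1,1,0,1,0], [0,1,0,1,1,1,1,0,1,1], [1,0,1,1,1,0], [1,1,0,0,1,1,1,0,0,1,0], [1,0,0,1,0,1,0,1,0,0,1], [0,1,0,1,1,0,1,0,1,1,1], [0,1,1,0,0,1,1,1,1,0,1,0,1], [1,0,1,0,1,1,0], [1,0,1,0,1,1,1,1,1], [0,1,0,0,1,1,0,0], [1,0,1,1,1,0,0], [0,0,0,1,1,0,1,1,1,0], [1,1,1,1,0,0,1,1,0,0,0], [1,0,1,0,0,1,0], [0,0,0,1,1,0,0,1,1,0], [1,0,0,1,0,1,0,1,0,1,0,0], [0,1,0,1,1,1,1,0,0,0], [1,1,1,0,0,1,1,0,0,1,1], [1,0,0,1,1,0,0,1,1], [1,1,0,1,0,1,0,0,1], [1,1,0,0,0,1,1], [1,1,1,0,1,1,0,0,1,0], [0,1,0,0,0,1,1,0,1,0], [1,0,0,0,1,0,1,1,1], [0,1,1,0,1,0,0,1,1,0], [1,0,0,0,1,0,1,0,1,0,0,1], [1,0,0,0,1,0,1,0,0,1], [1,1,1,1,0,1,1,1,1,1,0],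 [0,0,1,0,0,1,1,1,0,0], [0,1,1,1,0,1,1,0,1,1], [1,0,1,0,1,0,1,0,0,1,0], [0,0,0,1,0,1,1,0,0], [1,0,0,1,0,0,0,1,1], [1,0,0,1,0,1,1,1,1,0], [0,0,1], [1,1,0,0,0,1,1,1,1,1], [0,1,0,1,0,0,1], [1,0,0,1,0,1,0,0,1], [0,0,1,1,0,1,1,0,1], [1,1,1,0,0,0,1,1,0,0], [0,0,0,1,1,0,1,1,1], [1,0,1,0,0,1,1,1,1,1], [1,1,1,0,1,0,0,1,1,0], [1,0,1,1,0,0,1,0,1,1,0], [0,1,1,0,1,0,1,0,0,1,1], [0,1,1,0,0,1,0,1,1,0], [1,1,1,0,1,1,1,1,0,0,1], [1,1,0,1,0,1,1,1,1,1], [1,0,1,1,1,0,0,1,0,1,0,1], [1,1,0,1,1,1,1,1,1], [0,1,1,1,1,0,1,1,1], [0,1,1,1,1,1,1,0,1,0,1,1], [0,1,0,0,1,1,1,1,1], [0,1,1,1,1,1,0,0,1], [1,1,0,0,0,1,1,0,1,1,1], [0,1,0,1,1,1,1,0,1,0,0], [1,1,1,0,1,1,0,0,1,1], [0,1,0,1,1,0,1,0,1,0,1], [0,1,0,1,1,0,0,1,1,1,0,1],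 [1,0,1,1,1,1,0,1,0,1], [0,1,0,1,1,1,0], [0,0,0,1,0,1,1,1,1,1,0,1], [0,0,0,1,0,1,0,1,1,0], [1,0,0,1,0,1,0,1,0,0], [0,0,0,1,0,1,0,0,1,0], [1,0,0,0,1,1,1,1,0,0], [0,1,0,0,1,1], [1,1,0,1,0,1,1,1,1,1,1], [0,1,1,1,1,1,0,0,0], [1,0,1,1,1,0,1,1,0,1,0], [1,0,1,1,0,1,0,0,1], [1,1,1,0,1,1,1,1,1,1,0], [1,1,1,1,0,1,0], [1,0,1,1,0,1], [0,0,1,0,1,1,1,1,1,0,1], [0,1,1,1,0,1,0,0,1], [1,0,0,0,1,1,1,0,1,1]]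

/-- Part of the paths. -/
def pathsCEight3 : List (List ℕ) := [
[0,0,1,0,1,1,0,1,0,0,1,0], [1,1,1,0,1,1,1,0], [1,1,0,1,0,1,0,1,0], [1,0,0,1,1,1,0,1,1,0], [1,0,1,0,1,0,1,0], [1,1,0,0,1,1,0,1,1], [0,1,0,1,0,1,0,0,1], [0,1,1,1,1,0,1,1,0,1,0], [0,1,1,1,0,0,1,1,0,1], [1,1,0,1,0,1,0,1,1,1], [0,1,0,1,0,0,1,1,0,1], [1,1,0,0,1,0,1,1,0], [1,1,1,0,1,0,0,1,0], [0,1,1,1,1,0,1,0,1,1], [0,1,1,0,1,1,1,0,1,0], [1,0,1,0,1,0,1,1,0,1,1], [0,1,0,1,1,1], [1,1,0,1,1], [1,0,0,1,1,1,0,0,1,0], [0,1,1,1], [1,1,0,1,0,0,1,1], [0,1,1,0,0,1,1,1,0,1], [1,0,1,0,0,0,1,1,1,0,1], [0,1,1,1,0,0,1,1,0,0], [1,1,1,0,1,0,1,0,0], [1,1,1,1,1,0,0], [1,0,1,0,0,1,1,1,0,0,1,0], [1,0,0,1,1,1,0,0,1], [1,1,1,1,0,0,0,1,1,0,1,0], [1,0,1,1,0,1,1,0,0],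 [1,1,1,0,1,1,1,0,0], [0,0,1,0,1,1,0,1,0], [1,1,0,0], [0,1,0,1,1,0,0,0], [1,0,0,1,0,0,1,1,1], [1,0,1,0,1,0,1,1], [0,1,1,1,1,0,0,1,1], [0,1,0,0,1,0,1,1,0,0], [0,1,1,1,1,0,1,0,1,0,1,1], [1,1,0,0,0,1,1,0], [0,1,1,1,1,0,0,0], [1,0,1,1,1,0,0,1,1,0,1], [1,1,1,1,0,1,0,0,1,1], [0,1,1,0,0,0,1,1,0,0,0], [1,0,0,1,1,1,0,1], [1,1,0,0,1,1,0], [0,1,1,0,1,1,1,0,0,0], [0,0,0,1,1,1,0,1,0], [0,1,1,1,0,0,1,1,1,0,1,1], [1,0,1,1,0,1,0,0,1,1], [1,0,1,0,0,1,0,1,1,0,0], [0,1,1,0,1,0,1,0,1], [0,1,0,0,1,1,1,1,0,0], [0,1,0,0,0,1,0,0], [0,0,1,1,1,0,1,1,1], [1,0,0,1,0,0,1,1,0,1,0], [1,0,0,0,1,1,1,1,1,1,0], [1,1,1,0,1,0,1,1,1,1,1], [0,0,1,1,1,1,0,1,0,1,0], [1,1,1,1,1,1,0,0,0], [0,0,1,0,1,0,1,0,0], [0,0,1,0,0,1,1,1,0,0,1],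 [0,1,1,1,1,1,0,1], [0,1,0,1,0,1,0,0,1,0], [1,0,0,1,1,1,0,1,1,1,0,0], [0,1,0,0,0,1,1,1,1], [0,0,1,0,1,1,1,0,1,1,1,0,1], [1,0,0], [1,1,1,0,1,1,1,0,1,1,1], [0,0,1,0,1,0,0,1,1,1,1], [1,1,0,1,1,1,1,1,0,1,0], [1,0,1,0,0,0,1,1,0], [1,1,0,0,1,1,0,0,0], [1,1,0,1,0,0,1,1,0,0,0], [0,1,0,0,1,1,0,1,0,1,0], [0,1,0,0,1], [1,0,0,1,1,1,0,1,1], [0,0,1,1,0,1,1,1,1,1,0,0], [1,1,0,0,0,1,1,0,1,0,1,0], [1,1,1,0,1,0,1], [1,1,0,1,0,1,0,1,1], [1,0,0,1,1,0,1,1,1], [0,1,0,0,0,1,0,0,0,1,1], [0,0,1,0,1,1,1,1,0], [1,1,0,1,1,0,1,1,0,0], [1,1,1,1,1,0,0,1,1,0], [1,0,1,0,1,1,1,1,0,1,0,1,0], [1,0,1,1,0,1,0,1,0,1,1,0], [0,1,1,1,0,1,0,0], [1,0,1,1,0,0,0,1,0,1,1], [1,1,1,0,0,1,0,1,0,1], [1,0,0,1,0,0,1,0,1,1,0,1], [1,0,1,1,1,1,1,0,1,0],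 [1,0,0,0,1,1,0,1,0,1,0], [0,1,1,0,0,1,1,1,1,1], [1,1,0,1,0,0,1,1,0,0], [1,1,1,0,0,0,1,1,0,1,0], [1,1,1,1,0,0,1,0,1,0,1], [1,1,1,0,0,0,1,1,0,0,0], [1,1,1,1,1,0,1,0,0]]

/-- Part of the paths. -/
def pathsCEight4 : List (List ℕ) := [
[0,1,0,1,1,0,1], [0,0,1,0,0,0,1,1,0], [1,0,1,1,1,0,1,1,0,0,0], [0,0,1,0,1,1,1,1,0,1,1], [1,0,1,1,0,1,0,1,0,0], [1,0,0,0,1,1,1,0,0,1], [1,1,1,1,0], [1,0,1,1,1,0,1,1], [1,1,0,1,0,1,0,1,1,0,0], [1,0,1,1,0], [1,0,1,0,1,1,1,0,1], [1,1,1,0,0,0,1,1,0], [1,1,1,1,1,0,1,1,0], [1,0,1,1,0,1,1,1,0,0,0], [0,1,1,0,0,1,0,0,1,1,1], [0,1,0,0,1,1,1,1], [1,0,1,0,0,0,1,1,0,1,1], [1,0,1,1,0,1,1,0,0,1], [1,1,0,1,1,1,1,0,0,1], [0,1,1,1,0,0], [0,1,1,1,1,1,1,0,1], [1,0,0,1,1,1,1,1,1],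 [0,0,0,1,0,1,1,1,0,1,0], [0,0,1,1,1,0,1,0,0,1], [1,1,1,0], [0,0,1,0,1,0,0,1,1,0,1], [1,0,0,1,1,0,1,1,0,1,1], [1,0,1,0,0,0,1,1,0,0,0], [0,0,1,1,1,0,0,1], [0,0,1,1,1,1,1,0,0,1], [0,1,0,0,0,1,1,1,0,1], [0,0,0,1,0,1,0,0,1], [0,1,1,1,0,1,0,1,1,0,0], [1,0,1,1,1,1,1,0,1], [0,1,1,0,1,0], [0,1,0,1,0,1,1,1,0,1,0], [1,0,1,0,1,1,1], [1,0,1,0,1,0,0], [1,0,1,1,1,1,1], [1,1,1,0,0,1,1], [0,0,1,0], [1,1,1,1,0,0,1,1,0], [1,0,1,1,1,1,0,1,0,1,1], [0,1,0,0,0,1,0,1,1,1,0], [1,0,0,0,1,1,1,1,0,0,0], [1,1,1,1,1,0,1,0,1,0,0], [0,1,1,0,0,0,1,1,1,1], [1,1,0,1,1,1,0,1,1], [0,0,1,1,0,1,0,1], [1,1,1,1,0,1,0,1,0,1,1,1], [0,1,0,1,0,1,0,1,1,1], [1,1,0,1,1,1,0,1,0,0], [1,1,0,1,1,0,1,1,1], [1,1,1,1,0,1,0,1,1,1,1,1],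 [1,1,0,1,1,1,0], [0,1,0,1,1,1,0,1], [0,1,0,0,1,0,0,0,1,1], [1,0,1,1,1,0,0,1,0], [0,1,0,0,0,1,0,1,0,0,1], [1,1,0,1], [0,0,1,0,1,1,1,1,0,0,0], [1,0,0,1,1,1,0,1,1,1], [0,1,0,1,1,0,1,1], [0,0,0,1,0,0,0,1,1], [1,1,0,1,0,1,1,0,1,1,1], [0,1,1,1,0,1,1,1,0], [1,1,0,1,1,1,0,1,1,0,0,0], [0,1,0,0,0,1,1], [1,0,1,0,0,1,1,1,1], [1,0,0,1,0,0,1,1,1,0,0,1], [1,0,1,1,1,0,1,1,0,0,1], [0,0,0,1,1,1,1,1,1], [1,1,0,1,0,0,0,1,1,0,1,1], [1,1,0,1,0,1,1,0,1,1], [0,1,1,1,0,1,1,0,0,1,0], [0,0,1,0,1,0,1,1,1,1,0], [1,1,0,1,1,0,0,1], [1,1,0,1,1,0,0,0,1,1], [0,1,0,1,0,1,0,1,0,0], [1,0,1,1,0,0,1], [0,0,0,1,0,0,1,1,1], [1,0,0,1,1,1,0,1,0], [0,0,1,0,0], [1,0,1,1,1,0,1,1,1,0,1], [1,1,0,0,0], [1,0,1,1,1,1,0,1,0,1,0], [0,1,1,0,1,1,1,0],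 [1,1,1,1,0,1], [1,0,1,1,0,0,1,1,1,0,0], [0,0,1,0,0,0,1,1,0,1,1], [1,0,1,0,0,1,1,0,1,0], [0,0,0,1,1,1,1,1,1,0,1], [1,0,1,1,0,1,1,0,1], [0,1,0,1,0,1,0,0], [0,0,1,0,1,0,1,1,1], [1,0,0,1,0,1,1,1,0,1], [1,0,1,1,0,0,0,1,1,0], [0,0,0,1,1,1,1,1,0,1], [0,0,0,1,0,1,1,1], [1,1,1,1,0,1,1,0,1]]

/-- Part of the paths. -/
def pathsCEight5 : List (List ℕ) := [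
[0,0,0,1,1,1,1,1], [1,0,0,1,1,1,0,1,0,1,0], [1,1,0,0,1,1,0,0], [0,1,0,1,1,0,0,1], [1,0,0,1,1,0,1,1,1,0,1], [1,1,1,1,0,1,1,1], [1,1,0,0,1,1], [0,0,1,1,1,0,1,1,0], [0,0,0,1,0,0], [0,1,1,1,1,1,0,0,1,1,0], [1,1,0,1,1,1,0,0,1,1,0,1], [0,1,0,0,1,0,0,1,1,0,1,0], [1,0,0,1,1,1,1,1,0,0,1], [0,0,1,0,0,1,1,1], [1,0,0,1,1,0,1,1,0,0,1], [1,1,1,0,1,1,1], [1,0,1,1,1,1,0,0,1,1], [0,0,1,0,0,0,1,1,1,0,1], [0,0,0,1,1,0,1,0,1,0], [1,1,0,0,1,1,0,0,1,1], [0,0,1,1,1,0,1,0,0], [1,1,1,1,0,0,1,0], [1,0,0,0,1,0,0,1,1,1], [1,0,0,1,0,1,0,1,1], [1,1,1,0,1,1,0,1,0,1,1,1], [1,1,1,0,1,0,0,0,1,1], [1,0,1,0,1,0,0,1,1,0,1], [1,0,1,1,1,1,0,1,1,1], [0,1,1,1,0,1,1,1,0,0], [1,0,1,0,1,0,1], [1,0,1], [1,1,1,0,0,1,1,1,0,1,1],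 [0,0,1,1,1,1,0,0,0], [0,0,1,1,1,1,1,1,0,0,0], [1,1,1,0,1,0,1,1,0,0], [0,1,0,1,1,1,1,0,1,0,1,0], [0,1,1,1,0,1,0,0,1,1], [1,0,1,1,1,0,1,0], [0,0,1,0,0,1,1,1,1,1,0,1], [1,1,0,0,1,1,1,1], [1,1,1,0,1,0], [1,1,0,1,1,0,0,0], [1,1,0,1,0,1,0,1], [0,0,1,0,0,0,1,1], [1,0,1,0,1,0,1,1,1,1,0], [0,0,0,1,1,0,1,1], [1,1,0,0,0,1,1,1,0,1], [0,1,0,0,1,1,1,0,0,1], [1,1,1,1,0,1,0,1,1], [0,1,0,0,0,1,1,0,0], [1,0,1,0,1,1,0,1,0,0,1], [0,0,1,1,0,1,1,0,0], [1,1,1,1,1,0,1,0,1,0], [0,1,0,1,0,0,0,1,1,0,1,1], [1,1,1,1,0,0,1,1,0,0], [1,0,0,1,0,1,1,0,1,1], [0,1,0,1,1,0,0,0,1,1], [1,0,0,1,1,1,1,0,1,0,1,0,1], [0,0,1,1,1,1,0,1,0,1,1], [1,1,1,1,0,1,1,1,0,1], [1,1,0,1,1,1,1,0], [0,1,0,0,1,0,1,1,0,1], [1,1,1,0,1,1,0,1,1],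 [1,1,1,0,0,1,1,0,0,0], [1,0,0,1,0,1,0,1], [1,1,1,1], [1,0,1,1,0,1,1,1,1,0,1,1], [0,0,0,1,0,1,1,0,0,1], [0,1,0,1,0,1,1,1,0,1,1], [0,1,1,0,1,0,1,0,0], [0,1,0,0,1,1,1,0,1,1,1], [0,0,1,0,1,0,1,0,0,1,0], [1,1,1,1,0,0], [1,1,1,1,1,0,1,1], [0,1,0,0,1,0,0,1,1,1], [0,0,1,0,0,1,0,1,1,0,0], [0,1,1,1,1,1,0,1,0], [0,1], [1,0,0,0,1,0,0,1,1,1,1], [0,0,1,1,1,1,0,1,1,0], [0,1,0,0,1,1,1,0,1,1], [0,1,1,1,0,1,0,1], [0,0,0,1,1,0,0,0], [1,1,0,0,1,0,0,1,1,0], [0,1,0,1,1,0,0,1,1,0], [1,1,1,0,1,0,1,0], [0,1,0,1,1,0,1,0,0,1,1], [0,0,1,0,0,0,1,0,0], [0,0,0,1,1,0,1,0], [1,0,1,1,1,1,0,0,1], [0,0,0,1,1,0,0], [0,0,1,1,0,0,0,1,1,1,0,1], [1,0,0,0,1,1], [1,0,1,1,1,0,1,1,0], [1,1,1,1,0,1,0,1,1,1,1,0], [1,1,1,0,0,1],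 [1,0,1,0,0,1,1,0,1], [0,1,1,0,0,0,1,0,1,1], [1,1,0,1,0,0], [0,0,0,1,1,1,1,0]]

/-- Part of the paths. -/
def pathsCEight6 : List (List ℕ) := [
[0,1,1,0,0,0,1,1,0,1], [0,1,0,1,0,0,1,1,1,1], [0,0,0,1,1,1,0,0], [0,1,1,0,1,1,1,0,1,1], [0,0,1,0,1,0,1,1,0], [1,1,1,1,1,0,1,0,1,1], [1,1,0,1,0,1,1,0,1,0], [1,1,1,1,0,1,0,0,1,0], [0,1,1,0,1,1,0,0,0,1,1], [1,1,1,1,1,0,0,0], [0,1,1,1,0,0,1,1], [0,0,1,1,1,1], [0,1,0,0,0,1,0,1,1,0], [0,0,1,0,0,0,1,0,1,1,1,0], [1,0,1,1,1,1,0,1,0,0], [0,1,0,1,0,0,1,1], [0,1,1,0,1,1,1,1,0,1,1], [1,1,1,1,0,1,0,1,0,1,1], [1,1,0,1,1,1,0,0,0], [0,1,1,0,1,0,0,1,1], [1,1,1,1,1,0], [1,0,0,0,1,1,1,1], [0,1,1,1,0,1,1,1,1,1,0], [0,1,0,1,0,1,0,0,1,1,0], [0,0,1,1,1,0,1,1,1,0],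 [1,0,1,1,1,1,0,1,1], [0,1,1,1,1,1,1], [1,0,1,1,1,0,0,1], [1,1,1,1,0,1,1,1,1,1,1], [1,0,1,1,0,1,0,1,0,1], [0,0,1,1,0,1,1,1,0,1], [1,1,1,0,0,1,1,1,0,0], [0,1,0,1,1,1,1,0,0,1,0], [0,1,1,1,0,1,1,0,0,0], [1,1,0,0,0,1,1,0,0,0], [1,0,1,0,1,1,1,1,1,1,0,0], [0,1,0,1,0,0,1,1,1,0,0,1,0], [0,0,1,1,0,1], [0,1,0,1,1,1,0,1,1,1,0,1], [0,1,0,0,1,1,0,0,0], [0,1,0,0,1,1,1,0,1], [1,0,0,1,0,1,1,0,0,1], [1,0,0,0,1,0,1,0,1], [1,0,0,1,0,0,1,1,0,1], [0,0,0,1,0,1,1,1,1,0], [0,0,0,1,0,1,0,1,0,0], [1,1,0,1,0,1,0,1,1,0], [1,1,0,1,1,0,1,0,1,1,1], [0,1,0,0,1,1,0], [1,1,1,1,0,0,1,0,1,1], [1,1,0,0,1,1,1,1,1,1], [0,0,1,0,1,0,0,1,1,1], [1,0,1,1,0,1,0,1,0], [0,0,1,0,1,1,0], [1,1,0,1,1,0,0,0,1,1,0], [0,1,0,1,1,1,1,0,1,0,0,1],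 [1,0,1,0,1,1,0,0,1,1,0], [1,0,0,1,1,1,0,0,1,1,0], [1,0,0,1,0,1,1,1,0,1,0], [1,0,0,0,1,1,0,1,1,0,0], [1,0,1,0,1,1,0,1,1], [1,1,0,0,1,0,1,0,0,1], [1,0,1,1,1,1,0,0,1,0], [1,0,1,1,0,1,1,1], [0,1,1,0,0,0], [1,1,0,1,0,0,1,0,1,0,0,1], [0,0,0,1,1,1,1,0,0], [0,1,1,0,1,1,0,0,1], [1,0,1,0,0,1,1,0], [1,1,0,1,1,0,0,1,0], [0,0,1,1,0,1,1,1,0,0,0], [1,0,1,0,0,1,0,1,1], [0,1,0,1,0,0,0,1,0,0], [0,0,1,1,0,1,1], [1,1,0,0,1,1,1,0,0,1], [1,0,0,0,1,1,0,1], [1,0,1,1,0,0,0,1,1], [1,0,1,1,0,1,1,1,1,0,0,0], [1,1,0,1,1,1,1,1,0], [0,1,0,1,1,0,1,1,0,0], [0,0,1,1,1,1,1,0,1,1,0], [0,1,1,0,1,0,0,1,1,0,0,0], [0,0,0,1,1,1,0,1,0,0,1], [1,1,1,1,1,0,1,1,1,0,1], [1,0,1,1,1,0,1,1,1,0], [0,0,0,1,1,1,0,0,1], [0,1,1,1,0,0,1,1,0],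 [1,1,0,0,0,1,0,1,1], [1,1,0,1,0,0,1,0,1,1], [1,1,0,0,1,1,0,1,1,1,0,1], [1,0,1,0,0,0,1,0,1,1], [0,0,1,1,0,1,0,1,1], [0,1,0,0,0,1,0,1,0,1,1], [1,0,0,1,0,0,1,0,1,1], [1,1,1,1,1,1], [0,1,0,1,0], [1,1,0,1,1,1,0,1], [0,0,1,1,1,1,1,1,0,1], [1,1,0,1,0,0,0,1,1,0,1,0], [1,1,0,0,1,1,1,0,1,1]]

/-- Part of the paths. -/
def pathsCEight7 : List (List ℕ) := [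
[1,1,1,0,1,0,1,0,0,1,1], [1,0,0,0,1,0,1,0,1,1], [0,1,0,0,1,1,1,1,1,0,1], [1,0,0,1,0,1,0,1,0,1], [0,0,1,1,1,1,1], [0,1,1,0,1,1,0,0,1,0], [0,1,1,0,1], [0,1,1,1,1,1,0,1,1,0], [1,1,1,0,1,0,0,1,1], [1,0,0,1,0,1,0,0,1,0], [0,0,1,0,1,1,1], [0,0,1,1,1,1,0,1,0,1], [1,1,1,0,1,0,0,1,0,1,1], [1,0,1,0,0,1,1,0,0], [0,1,1,1,1,1,1,0,0], [1,0,1,1,1,0,1,1,1], [0,0,1,0,1,0,0,0,1,0,0], [0,0,0,1,0,1,0,1,0,1], [0,0,0,1,1,0,1,0,1], [1,0,1,0], [1,0,1,1,0,0,1,1,0,0], [0,1,0,0,0,1,1,0,1], [1,1,1,1,0,1,1,1,0], [0,0,1,1,1,0,0], [1,0,0,1,0,0,0,1,1,0], [1,0,0,1,1,0], [0,0,1,1,0,0,1,1,0,0], [0,1,0,1,1,1,0,1,1], [1,0,0,0,1,0,0,1,0,1,1], [1,0,0,0,1,1,1,1,1,0,1], [0,0,1,1,0,1,0,1,0], [1,0,0,1,1,1,0,1,0,0], [0,0,0,1,1,0,0,1,1,0,0],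 [1,0,0,0,1,0,1,1,0], [1,1,0,0,0,1,1,0,1,0,1], [1,0,1,1,0,1,0,1,0,0,1,1], [0,0,1,1,1,1,0,1,0,0], [0,1,0,1,0,0,0,1,0,1,1], [0,1,1,1,1,0], [0,1,0,1,0,0,1,1,1], [1,0,0,1,0], [1,0,1,0,0,1,0,0,1,1,1], [1,0,0,1,1,1,1,1,1,0,0,0], [0,1,0,1,1,1,0,1,1,1,0], [1,1,1,0,1,0,1,0,1], [1,0,1,0,1], [0,1,0,1,1,0], [1,0,0,0,1,1,0,1,1,1], [1,0,1,1,0,1,1,1,1,1,1], [0,1,1,0,1,1,0,0,1,1,1,0,0], [0,0,0,1,1,1,1,0,1,0,0], [0,0,1,1,1,1,0], [1,0,0,0,1,1,0,0], [0,0,0,1,0,1,0,0,1,1], [1,0,1,0,0,1,1], [1,1,0,1,0,0,1,1,0,1,0], [0,1,0,0,1,0], [0,0,1,1,1,1,0,0,1,1,0], [1,1,0,0,1,1,0,1], [0,1,0,1,0,0,0,1,1,1,1], [0,0,1,0,0,1,1,1,1], [0,0,0,1,0], [0,0,1,1,1], [1,0,1,0,1,0,0,1,0,1,1,0], [0,1,1,1,0,1,0,0,1,0], [0,1,0,1,0,0,1,0,1,1],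 [0,1,0,0,1,1,0,1,1,0,1,1], [0,1,0,1,1,0,1,1,1,0,1], [1,1,1,1,1,0,1,0], [0,0,1,1,0,0,0], [0,1,0,1,1,0,1,1,1], [1,1,0,1,0,1,1], [0,1,1,1,1,0,0,1,1,0], [0,0,1,1,1,0,0,1,1,0,0], [0,0,0,1,1,1,1,1,0,0,1], [0,0,1,1,0,1,0], [1,0,1,1,1,1,0,1,0], [0,1,1,1,0,0,1,0,1,0,1], [1,0,0,0,1,1,1,1,1,1], [0,1,0,1,0,1,1,1], [1,1,1,0,0,1,1,0], [1], [0,1,0,1,0,1,1], [0,1,0,0,1,1,1,0,0,1,0], [1,0,0,0,1,0,1,1], [1,0,1,1,1,0,1,0,0], [1,1,0,1,1,1,0,1,0,0,1,1], [1,0,1,1,0,0,1,1,0], [0,1,1,0,1,1], [0,1,0,0,0,1,0,1,1], [1,1,1,1,1,1,0,0], [1,1,1,1,1,0,0,1,0,1,1,1], [0,1,1,0,1,0,1,1], [0,0,0,1,1,1,0,1,1,1], [0,1,1,1,0,1,1,1,0,0,1], [0,1,1,0,1,1,0,0], [1,0,1,0,1,1,1,1,0,1,0], [1,0,1,0,0,0,1,1,1,1], [0,1,0,0,1,1,0,1,1,1],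 [1,0,0,1,1,1,0,1,0,0,1]]

/-- Part of the paths. -/
def pathsCEight8 : List (List ℕ) := [
[0,1,1,1,1,0,1,0,0], [0,0,1,0,1,1,0,1,1,1], [1,1,0,1,1,0,0,1,1,1,0,0], [0,0,1,0,1,1,1,0,1], [0,0,1,0,0,0,1,0,1,1], [0,1,1,0,1,1,1,0,1], [1,1,1,1,0,1,0,0], [1,0,0,1,0,1,1,0,1], [1,1,0,1,0,0,1,1,1,0,1], [1,0,0,1,0,1,1], [0,1,0,1,0,0,0,1,1,0,0,0], [1,0,1,1,1,0,1,1,0,1,1], [0,1,1,1,0], [1,0,1,0,1,0,1,1,0,0], [1,0,1,1,0,0,0,1,1,1,1,1], [1,1,0,0,1,1,1,1,1,0,1], [0,1,1,1,1,0,0,1,0,1,0,1], [1,1,1,1,1,1,0,1,0,1,1], [0,0,0], [1,0,0,1,0,1,0,1,1,0], [1,0,0,1,1,0,0,1,1,0], [0,1,1,1,0,1], [1,1,0,1,1,0,1,0,1,0,0], [1,1,0,0,1,0,1,1,1], [1,1,0,0,1,0,1,1,0,1,1], [0,1,0,0,1,0,0,0,1,1,0], [0,1,0,1,0,1], [0,1,0,1,1,1,1,1],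 [1,0], [0,1,0,1,1,1,0,1,1,1,0,0], [0,1,1,0,1,1,0,1,1,1], [0,0,1,0,1,1,0,0], [0,0,1,0,1,1,1,0,1,1], [1,1,1,1,0,1,1,0,0,0], [0,1,0,1,0,1,1,0,1,1], [0,1,1,0,0], [0,0,1,0,1,0,1,1], [1,1,1,1,1,0,0,1], [0,1,1,0,1,0,0,1,0,1,0,0,1], [0,1,1,1,1,0,0,0,1,1], [1,1,1,0,0,1,0,1,1,0,1], [0,0,1,1,1,1,1,1,0,0], [0,1,1,0,0,0,1,1,0], [1,1,1,1,1,1,0,1,1], [1,0,0,1,0,1,0,1,0,1,0], [0,1,0,1,1,1,1,1,0,1], [0,1,0,0,1,0,1,1], [0,1,1,0,0,1,1,1,0,0], [0,0,1,0,0,1,1,1,1,0,0], [1,1,1,0,1,0,0,1], [1,1,1,1,0,0,1,1], [0,1,1,0,1,1,1,1,1,0,1,0], [1,1,0,0,1,0,0,1,1,1], [0,0,1,1,1,1,0,0,1,1], [0,0,1,1,1,0,0,1,1,0], [0,0,0,1,1,1,0,1], [0,1,0,1,1,1,1,0,1,0], [0,0,1,0,1,1,1,0,0,0], [1,0,0,0,1,1,1,0,1], [0,1,0,1,0,0,0,1,1,1,0,1],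 [1,1,0,1,1,1,0,1,0,1], [0,1,0,1,1], [1,1,0,1,1,1,0,1,1,0,0,1], [0,0,0,1,0,0,1,1,1,1], [1,1,1,0,1,0,1,1,1,1,1,1,0,0], [0,1,0,0,1,0,1,1,1], [0,0,0,1,1,1,1], [1,1,0,1,1,0,0], [0,1,0,0,1,1,0,1,1,1,0,1], [1,0,0,1,1,1,1,1,0,0], [0,0,1,1,1,0,1], [0,0,1,1,0,0,0,1,1,1,1,1], [0,1,0,0,1,0,1,1,1,0,1], [1,1,1,0,1], [0,1,1,1,1,0,0,1,0], [0,0,0,1,0,1,0,1], [0,1,0,1,0,0], [1,0,1,1,0,0,0,1,1,0,1], [0,0,0,1,0,0,1,1,0], [1,1,1,1,0,0,0,1,1], [0,0], [0,0,0,1,1,1,1,0,1,1,1], [0,1,0,0,1,0,1,0,1,0,1,0], [0,0,1,0,1,1,0,0,1], [0,0,1,0,1,0,0,1,1], [1,0,1,0,0,1,1,1], [0,1,0,1,1,1,0,0,0], [0,1,0,1,0,1,1,1,1,0,0,1,0], [0,1,1,1,1], [1,0,1,1,1,0,1,1,1,0,0], [0,1,0,0,0,1,1,0,1,1], [1,0,1,1], [0,1,1,1,1,0,1,0,1],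 [1,0,1,1,1,1,1,0,0], [0,1,0,1,1,0,0], [0,1,1,0,0,1,1,1,1,0], [0,1,1,1,1,1,0,1,0,1,0], [0,1,0,0,1,1,0,1,1], [1,1,1,0,1,1,1,0,0,1], [1,0,1,0,1,1]]

/-- Part of the paths. -/
def pathsCEight9 : List (List ℕ) := [
[1,1,0,0,1,1,1,0,0], [0,1,1,0,0,1,1,0,0], [1,0,1,1,1,1,0,1,0,0,1], [1,0,1,0,1,0,1,1,1,0], [0,1,0,0,1,0,1,0,1,1], [0,1,1,1,0,1,1,1,0,1], [0,1,1,0,1,0,1,0], [0,1,0,1,1,1,0,1,0,0,1,1], [0,0,0,1,0,0,1,0,1,1], [1,1,1,0,1,1,1,0,1,0], [0,1,0,0,1,1,1], [0,1,0,0,1,1,0,1,1,0,1], [0,1,1,1,1,0,1,1,0], [1,0,0,0], [0,1,1,1,1,0,0,1], [0,1,1,1,1,1,1,0,1,0], [1,0,1,1,0,1,0,1], [1,0,0,1,1,1,0,0,1,1], [0,0,1,1,0,0,1,0,1,1,0], [1,1,1,0,1,1,0,1,1,0,1], [0], [1,0,0,1,0,0,1,1,0], [1,0,1,0,0,1,1,1,0,0],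 [1,1,1,0,1,1,0,1], [0,0,1,1,1,0,0,1,1], [1,1,1,1,0,1,0,0,1], [0,1,0,1,1,0,1,0,0,1,0], [1,1,0,0,1,1,1,1,1], [1,0,1,1,1,0,1,0,0,1,1], [0,1,0,1,0,1,0], [0,0,0,1,1], [0,1,0,0,0,1,0,1,1,1], [0,1,1,1,0,1,1,0,1], [0,0,0,1,1,1,0,1,0,0], [0,1,0,0,1,1,0,1,0,1,1], [1,1,1,1,0,0,1,1,1,0,0,1], [0,0,0,1,0,1,0,1,1], [1,0,1,0,1,0,1,1,0], [0,1,1,0,1,1,1,1,1,1], [0,1,0,1,1,0,0,1,0], [1,1,1,1,1,0,0,1,0,1,0,1], [0,1,0,0,1,0,1,1,0], [1,0,0,0,1,0,0,1,0,1,1,0,0], [1,1,1,0,1,0,1,0,0,1,0], [1,1,1,1,1,0,1,1,0,1], [1,1,1,1,0,1,0,1,0,0,1,1], [1,1,1,0,0,1,1,0,0], [1,0,1,0,0,1,1,1,1,0,0], [0,0,1,1,0,0,1,1], [0,1,0,0,1,1,0,1,0], [1,0,0,1,1,1,1,1], [1,0,0,1,0,0,1,0,1,1,0], [0,0,1,0,0,1,1,1,0,1], [0,1,0,1,0,1,0,1],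 [0,0,1,1], [0,1,1,0,1,0,1,0,1,1,0], [0,0,1,1,1,0,1,1,1,0,0], [0,1,0,1,0,1,1,1,1,1], [1,1,0,1,1,1,0,1,0], [1,0,1,1,0,1,1,1,1,0], [1,0,0,1,1,1,1,0,1,0,0], [1,1,1,0,1,1,0,0], [1,1,0,1,0,1,1,1], [1,0,0,0,1,1,0,1,1], [0,1,1,1,0,0,0,1,1], [1,1,1,0,1,0,1,0,0,1], [1,1,0,1,0], [1,0,1,1,1,1,0,1,1,0,1], [1,1,0,0,1], [1,0,0,0,1,1,0], [0,1,1,0,1,0,0,1,1,1], [0,1,0,1,1,0,1,0,1,0], [1,1,0,0,1,0,1,1], [1,1,0], [1,0,0,0,1,0,1,0,1,0,1], [0,1,1,0,1,0,1,1,1], [0,1,1,0,0,1,1,0,0,1,1], [0,1,1,0,0,0,1,1,0,0], [1,1,0,1,1,0,1,0], [0,0,1,1,0,1,1,1,0,1,1], [1,1,0,1,0,1,0,0,1,0], [1,1,0,0,1,0,1,0,1,0,0,1], [1,0,1,0,1,1,1,0,0,0], [1,0,1,1,0,1,1,0,0,1,0], [1,0,0,1,1,1,1,1,0,1,1,0], [0,0,0,1,0,1,0,1,0,0,1], [0,1,1,0,1,1,0,1,1],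 [1,1,0,0,0,1,0,1,0,1,0,1], [0,1,1,0,0,0,1,1], [1,0,1,0,1,0,0,1], [1,0,1,0,1,1,0,1,1,1], [1,0,0,1,0,1,1,1,0,1,1], [0,0,1,0,0,1,0,1,1,0], [0,1,1,0,0,1,0], [0,1,0,0,1,0,1,0,0,1], [1,0,0,0,1,1,1,1,1], [0,0,1,0,0,1,0,1,1,0,1], [1,1,0,1,1,0,0,1,1,0], [1,1,1,1,0,1,0,1,0,0], [0,1,0,0,1,0,1,1,1,1,0]]

/-- Part of the paths. -/
def pathsCEight10 : List (List ℕ) := [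
[1,1,1,1,0,1,0,1], [1,0,1,1,0,1,1], [1,1,1,1,1,0,1,0,0,1,1], [1,1,1,1,0,1,0,1,0,1], [1,0,1,1,1], [1,1,1,1,1,0,1,1,1,0], [1,1,1,0,1,0,1,1,1,1,0], [0,1,0,1,0,1,1,0,0,1], [1,0,1,0,1,0], [1,1,0,0,0,1,0,1,0,1,1], [1,1,1,0,1,0,0,1,1,1,0,1], [1,0,0,1,1,1,1,0], [1,0,1,1,0,0,1,1], [0,0,1,1,1,0,1,1], [1,1,1,0,1,1,1,1,1,0,0], [0,0,1,1,1,1,0,1,1,0,0,1], [0,0,1,1,0,1,0,1,1,1], [1,1,1,0,1,0,0,0,1,1,0,0,0], [0,1,1,0,0,1,1], [1,1,1,0,0,0], [1,1,1,0,1,1,1,0,1], [0,1,0,0,0,1,1,0], [1,1,1,1,0,1,1,0,0], [0,1,1,0,1,0,0], [1,0,0,1,1,0,1,1], [1,1,0,0,1,1,1,0,1], [1,1,1,0,1,1,1,0,1,1,0,0,0], [0,1,0,0,1,1,1,1,0], [1,0,0,1,1,1,1,0,0,0], [1,0,1,1,0,1,1,0,1,1], [1,0,1,1,1,1,1,1], [0,0,0,1,0,1,0,1,1,1], [1,1,0,0,0,1,1,0,0],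 [1,1,1,0,1,0,1,1,0,1,1], [1,1,1,0,1,1,0,1,0], [1,1,1,1,1,0,1,0,1,0,1], [1,0,1,0,1,1,1,1,1,1], [0,1,1,0,1,1,1,1,0], [1,1,0,0,1,1,1,0,1,0,0], [0,1,0,0,1,0,1,0,1,0,0,1], [1,1,1,0,1,1,1,0,1,0,0], [1,1,0,1,1,1,1,1,0,0], [0,0,1,0,0,1,0,1,1], [1,1,1,1,0,0,0], [0,0,0,1,1,1,1,0,0,0], [1,1,1,0,1,0,1,1], [1,1,0,1,1,1], [0,0,1,1,1,0,1,0,1,0], [1,1,1,1,1,0,1], [1,1,1,0,1,1], [1,1,0,0,1,0,0,1,0,1,1], [1,1,0,0,1,0,1,0,1], [0,1,1,1,1,0,0], [0,1,0,0,1,1,1,0,0,1,1], [1,1,1,1,1,1,0,0,1], [0,1,1,0,1,0,1], [1,1,0,0,1,0], [0,0,1,0,0,0,1,1,0,0], [1,1,1,1,1], [0,0,1,1,0,1,0,1,0,1,0], [0,1,1,1,0,1,0,0,0,1,1], [0,1,0,1,0,0,1,1,1,1,0,0], [0,0,1,1,1,1,0,1,1], [0,1,1,1,1,0,1,0,1,0,0], [0,0,0,1,1,0,1,1,0,1,1],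 [1,1,1,0,1,0,1,0,1,1,1], [0,0,1,0,1,0,0,1], [1,1,1,0,0,1,0,0,0,1,1,0], [1,1,0,1,0,0,1,0], [0,0,1,1,1,1,0,1,0,1,0,0], [1,0,1,0,0,0,1,1], [1,1,0,0,1,1,0,1,1,0,0,1], [1,0,0,1,1,0,1], [0,1,0,1,1,1,1,0,0,1], [1,0,1,1,1,1,0,0,0], [0,1,1,0], [0,1,0,1,0,1,1,1,0], [1,0,1,1,1,1,1,1,0,0], [1,1,0,1,1,1,0,0], [1,1,0,1,1,1,0,1,1,1,0,1], [1,0,0,1,1,0,1,0,1,0], [0,1,1,0,1,1,1,1,0,1,0,1], [0,0,1,1,0,1,1,1], [1,1,1,1,0,1,1,0,0,1,1,0], [0,1,1,0,1,0,1,1,0,1,0], [0,0,1,1,1,1,0,1,0,1,0,1], [1,0,0,1,0,1,1,0], [1,0,1,0,1,1,1,1,0,0,1,0], [0,1,0,0,0,1,1,1,1,0,0], [1,0,1,0,0,1,0,1,1,0], [0,1,0,1,0,1,1,0,1,0], [1,0,0,0,1,1,0,0,0], [1,0,1,1,1,1,0,1,1,0,1,0], [0,0,1,1,1,1,1,1,0], [0,1,0,1,1,1,1,0,1,1,1], [0,0,0,1,0,0,1,1,1,0,0],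 [0,0,1,1,0,0], [0,1,0,1,1,1,0,0,1], [1,1,1,0,1,1,0], [0,1,1,0,0,0,1,1,1,0,1]]

/-- Part of the paths. -/
def pathsCEight11 : List (List ℕ) := [
[1,1,1,0,1,0,1,0,1,1], [0,0,1,0,1,0,1,0,1], [0,1,1,1,1,1,0], [0,1,0,0,0,1,0,0,1,1,0], [0,1,0,1,0,1,1,0], [0,1,0,1,0,0,1,1,1,1,1], [1,1,1,1,1,0,1,0,0,1,0], [1,1,1,1,1,0,0,0,1,1,0,1,0], [1,1,0,1,1,1,1,0,1,1], [1,0,0,1,1,0,1,0,1], [1,1,1,1,1,0,1,1,0,0,1], [1,1,1,0,1,1,0,0,0], [1,0,0,1,1,0,0,0], [0,1,0,1,1,0,1,0,0,1], [1,0,1,1,1,0,1,0,1], [1,0,1,1,0,1,1,1,0,1], [1,0,1,1,1,1,0], [1,0,0,1,0,1,0,1,0,0,1,0], [0,1,1,0,1,1,1,1,0,0,0], [0,1,0,1,0,1,0,0,1,1,0,1], [1,1,0,1,0,0,0,1,1,0,0,0], [1,1,1,1,0,1,0,1,0], [1,1,0,1,0,0,1], [1,1,0,1,1,1,0,0,1], [0,1,0,1,1,0,0,1,1],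 [0,0,1,1,1,1,0,0], [1,1,1,1,0,0,1,1,1,0,0], [0,1,1,0,1,1,0], [0,1,1,0,1,0,1,0,0,1,0], [1,1,0,0,0,1,1,1,1,0,0], [1,0,0,0,1,1,0,1,0,1], [1,0,1,0,0,1,0,1,1,0,0,1], [1,0,0,1,1,1,1,1,0,1], [0,1,0,1,1,0,1,1,0,0,1,0], [0,1,1,1,1,1], [1,0,1,0,1,0,0,1,1,0], [1,1,0,0,0,1,1,0,1], [0,1,1,0,1,1,0,1,0,0,1,1], [0,0,0,1,0,0,0,1,0,0], [1,1,0,1,1,1,1,0,0,1,1], [1,0,1,0,0,0,1,0,1,1,0], [0,1,0,0,1,0,1,1,0,0,1], [0,1,1,1,1,0,1,1,0,1], [1,1,1,1,1,1,0], [1,1,1,1,0,1,1], [1,0,1,0,1,0,1,0,0,1], [0,0,1,0,0,1,1,0,1,0], [0,1,1,0,1,0,0,1,0], [0,0,1,0,1,1,0,1], [1,0,0,0,1,0,0], [1,1,0,1,0,1,1,1,1,1,1,0,0], [0,1,1,1,1,1,1,0], [1,1,1,0,1,1,0,0,1], [1,0,0,1,1,0,1,0], [1,0,1,0,0,1,0,0,0,1,1], [0,0,1,1,0,0,1,1,1,0,1],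 [0,1,0,0,1,0,1,0,0,1,0], [1,0,0,0,1,0,0,0,1,1], [0,1,1,1,1,1,0,0], [0,1,0,0,1,0,1,0,1,0,1], [1,1,1,0,0,0,1,1,0,1,1], [1,0,1,1,0,0,0], [1,1,0,1,0,1], [1,0,0,1,1,1], [1,0,1,0,1,1,1,0], [0,1,0,1,1,1,0,1,1,0,0,1], [1,1,0,1,1,1,0,1,1,1], [0,1,0,1,1,0,1,1,1,1,1,1], [1,1,1,0,1,1,0,0,0,1,1], [0,0,1,0,1,0,0,1,1,1,1,1], [0,1,0,1,1,0,1,1,1,1,0,0,0], [1,0,1,0,0,1,0,1,0,0,1], [1,1,0,1,0,1,1,1,1,0], [1,1,0,1,0,0,1,1,0], [0,1,0,1,0,1,0,1,0,0,1], [1,0,1,0,0,1], [1,0,1,0,1,0,1,1,1], [0,1,1,0,1,0,0,1], [1,0,0,0,1,1,1,0,0], [0,1,0,1,1,1,1,0], [1,0,1,0,1,1,1,0,1,0], [0,1,0,0,0,1,1,0,0,0], [0,0,0,1,1,1,1,1,1,0], [0,1,0,1,0,0,0,1,1,0,1], [1,0,1,0,1,0,1,1,0,1,0], [1,0,0,1,1,1,1,0,1,0,1], [1,1,0,0,0,1,0,0,1,0,1,1],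 [0,0,1,1,0,1,1,0,0,1], [0,1,0,1,0,0,1,1,0], [1,1,0,0,0,1,1,1,1,1,0,1], [1,0,0,1,0,1,0,0,0,1,0,0], [1,0,0,1,1,1,0,0], [0,0,1,0,0,0,1,0,1,0,0,1], [0,0,1,0,1,1,0,1,1], [0,1,1,0,0,1,1,0], [0,1,1,1,1,0,1,1], [0,0,1,0,1,0,0,1,0,1,1,0], [0,0,1,0,1,0,1,0,0,1,1,0,1], [0,1,1,1,1,0,1,0,1,0], [1,0,1,1,0,1,0,1,1,0,1,0]]

/-- Part of the paths. -/
def pathsCEight12 : List (List ℕ) := [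
[1,0,1,1,0,1,0], [1,0,0,1], [1,0,0,1,0,1,1,1], [1,0,1,1,0,1,0,0,1,1,1], [1,1,0,0,0,1,0,1,0,1], [1,0,1,1,0,0,1,1,1,0,1], [0,1,0,0], [1,1,0,0,0,1,1,1,1], [1,0,1,1,1,1,0,1,0,1,0,0], [1,0,1,0,1,1,1,0,1,1], [1,1,0,0,1,0,1,1,0,0,1], [1,1,0,1,0,1,0,0], [0,0,1,0,1,0,1,0,1,0,0], [1,1,0,1,0,1,1,1,0,1,0], [1,1,1,0,1,1,1,1,1,0], [0,0,0,1,0,1,1,0,1,0], [0,0,0,1,0,0,1,1,0,1,0], [0,1,0,0,1,1,0,1,0,1], [0,1,0,1,0,0,1,0,1,1,0], [1,0,1,0,0,0,1,0,0], [1,1,1,0,1,0,1,1,1,0,0,0], [0,1,1,1,0,1,1,0], [1,0,0,1,1,0,0,1,1,1,0,1], [0,1,1,1,1,1,1,0,0,0], [0,1,0,0,0,1,1,0,1,0,1], [0,0,1,1,1,1,1,0,1], [1,0,0,0,1,0,1,1,1,1,0], [1,1,0,1,1,1,1,0,1,0,0], [0,1,1,1,1,1,0,1,0,1,0,0], [0,1,1,0,0,1,1,0,0,0], [1,1,1,0,0,1,0,1,1,1],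 [1,0,1,0,0,0,1,1,0,1]]

/-- The paths. -/
def pathsCEight : List (List ℕ) := ([pathsCEight0, pathsCEight1, pathsCEight2, pathsCEight3, pathsCEight4, pathsCEight5, pathsCEight6, pathsCEight7, pathsCEight8, pathsCEight9, pathsCEight10, pathsCEight11, pathsCEight12] : List (List (List ℕ))).flatten

theorem testsOKCEight : testsOK (plain testsCEight) codeCEight = true := by decide +kernel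

theorem certCEight : certAll triMats (enc (repCEight : GolayPt → ℤ)) (chosen codeCEight) pathsCEight = true ∧
    Nat.beq (chosen codeCEight).length 1232 = true := by decide +kernel

theorem ncardCEight : (pickL testsCEight).ncard = 1232 := by
  rw [ncard_pickL testsOKCEight]; exact Nat.eq_of_beq_eq_true certCEight.2

theorem reachCEight {S : Subgroup Co0} (hS : ∀ g ∈ triElts, g ∈ S) :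
    ∀ y ∈ pickL testsCEight, ∃ g ∈ S, g • repCEight = y :=
  transitive_of_cert isMat_tri hS testsOKCEight (by decide +kernel) certCEight.1

theorem memCEight : repCEight ∈ pickL testsCEight := by
  refine ⟨by decide +kernel, ?_⟩
  simp only [testsCEight, List.forall_mem_cons]
  exact ⟨by decide +kernel, by decide +kernel, by decide +kernel, fun _ h => absurd h List.not_mem_nil⟩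

end CfsgLib.Spor.Leech.Census32
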