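/-
Orbit certificate CZero.
-/
import Cfsg.Agent.Lib.Spor.Leech.Census.Data.Gens

set_option autoImplicit false
set_option maxRecDepth 20000
set_option maxHeartbeats 0

namespace CfsgLib.Spor.Leech.Census32

open Cfsg

/-- The tests. -/
def testsCZero : List (leechLattice × ℤ) := [(v1L, 0), (w1L, 16), (xCL, 0)]

/-- Their numbers. -/
def codeCZero : List (ℕ × ℕ) := [(112562520735956409447851611267016991984580410813578825706846029514451041733003352209561054719109825197491232, 4160), (46902362677612083329841369420501148483485120768910627702136384129516390938716187177239554680883980250622852, 4272), (65662474007103583870780591362828905542112848156290796382635709269712160369254433284269702560940545210644004, 4192)]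

/-- The representative. -/
def repCZero : leechLattice :=
  ⟨fun p => [-1, 1, 1, 1, 1, 1, 1, 1, -1, 1, 1, -1, 3, 1, -1, 1, -1, 1, 1, -1, -1, 1, 1, 1].getD (ptIdx p) 0, leechTest_spec (by decide +kernel)⟩

/-- Part of the paths. -/
def pathsCZero0 : List (List ℕ) := [
[], [0,1,0,1,1,1,1,0], [1,0,0,1,0,1,0], [1,1,0,1,0,1,0,1,1,0], [0,0,1], [1,1,1,1,1,0], [1,1,0,1,1,0,1,0,1,1,0], [1,0,0,0,1,1,1,1,0], [1,0,1,1,1,1,0,0,1], [1,1,0,0,1,1,1,0], [0,1,0,1,0,0,0,1,0,1,0], [1,1,1,1,1,0,0], [0,1,0], [0,1,0,1,1,1,0], [1,0,1,0,1,1,1,1], [1,0,1,1,1,0,1,1,1,0,0], [1,1,1,0,0,0], [0,1,1,1,0,1,1,1], [0,1,1,0,0,1,0,0,1,0,0], [1,1,1,0,1,0,0,1], [0,0,1,0,0,0,1,1,0], [1,0,1,0,0,0,1], [0,1,1,0,1,1,0,0,0], [0,1,0,1,0,0,1,0,1,0], [0,0,0,1,0,1,1,0,0], [1,0], [0,1,0,1,0,1,1,0],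 [1,0,1,0,1,0,0,0,1], [0,1,0,0,1,1,1,1,0], [1,1,0,1,1,0], [1,0,1,0,1,0,1,1,1], [1,0,0,1,0,1,1,1], [0,0,0,1,1,1,1,1,0], [1,1,1,0,0,1,0,1,1,0,0], [0,1,1,0,1,0,0], [0,1,1,1,1,1,0,1,0], [0,1,0,1,0,0], [1,0,0,0,1,0,1,1,0,0], [1,1,1,0,1,0,1,0], [0,0,1,0,1,1,0,0], [1,0,1,0,0,1,1,1,1,0], [1,1,1,1,0,1,0,1,1,0], [1,0,1,1,0,0], [1,1,1,0,1,0,0], [0,1,0,0,1,0,1,1,1], [0,0,1,1,1,1,1,0], [1,0,0,0,1,0,0,0,1], [1,0,0,0], [0,0,0,1,0,0,0,1,1,0], [1,1,1,0,0,1,0,0], [1,1,0,1,1,1,1,1], [0,0,1,0,0], [1,1,0,1,1,1], [1,1,1,0,0,1,1,0,1,0], [1,0,1,1,0,0,0], [1,0,1,0,0,1,0,1,0], [0,0,0,1,0,0,0,1], [1,1], [0,1,1,0,1,0,1,0], [0,0,1,0,0,0,1,0,1,0], [1,0,1,1,0,0,1,0,0], [0,0,0,1,0,1,1,1,1,1], [0,1,0,0,0,1,0,1,0], [1,1,0,0,1,0,0], [1,1,0,0,1], [1,0,1,1,1,0], [0,0,1,1,0,1,0],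 [1,0,0,0,1], [1,1,0,0,1,0,1,1,0,0], [1,1,1,1,1,1,0,0,1], [1,1,1,0,0], [1,0,1,0,0], [1,1,1,0,1,0,1,1,0], [1,0,1,1,1,1,0], [0,1,1,1,0,0,1,0,1,0], [1,1,1,1,1,0,1,0], [1,1,1,1,0,1,1,0], [1,1,1,1,1,0,0,1], [0,1,0,0,0,1], [0,1,1,1,0,1,0,1,0], [0,1,1,0,0,1,1,1,0], [1,0,1,1,1,1,1,0,1,0], [1,0,1,0,0,0,1,0,1,0], [1,1,1,1,0,1,1,0,0,0], [0,1,0,1,0,1,1,1,1], [1,1,0,1,1,1,1,0,1,0], [0,1,1,0,0,1,0,0], [1,1,1,1,0,0,0], [0,1,0,1,1,0], [0,1,1,1,0,1,0,0,1], [0,1,0,0,1,1,1,0,0], [0,1,1,1,1,0,0,0], [1,1,0,1,1,1,0,0], [1,1,1,0,1,1,0,0,0], [0,0,0,1], [1,1,1,1,0,1,1,1,0,0], [1,1,1,1,1,0,0,0], [1,1,0,1,1,1,1,1,0], [0,1,0,1,0,0,1,1,0], [1,1,1,0]]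

/-- Part of the paths. -/
def pathsCZero1 : List (List ℕ) := [
[1,1,1,0,0,1,0,0,1,0,0], [1,0,1,1,1,0,0,1,0,1,0], [0,0,1,0,1,0,1,1,1,1], [1,1,0,0,0,1,1,0], [1,1,0,1,1,1,0], [1,0,0,1,1,1,1,1,0], [0,0,0,1,0,0,1,0,0], [0,1,1,1,0,1,0,0], [1,0,0,0,1,1,0], [1,0,0], [1,0,0,0,1,0,0,1,0,0], [0,1,0,1,1,1], [1,1,0,1,0,0,0,1], [0,1,0,0,1,1,0,1,0], [0,1,1,1,0,0], [1,1,1,1,1], [0,1,0,1,0], [0,0,1,0,1,0,0,1,0,1,0], [0,1,1,1,1,1,1,0], [1,1,1,0,1,0,1,1,1], [0,0,1,0,1,0,1,0,0,1], [0,0,0,1,1,1,1,0,1,0], [1,0,1,0,1,0,0,1], [0,1,1,1,0,1,0], [1,1,0,0], [0,0,0,1,0,1,1,1], [1,1,1,0,1,0,0,0,1], [0,1,1,1,1,1,1,0,0], [0,1,1,1,1,1,1], [1,0,1,0,1,1,1], [1,0,1,0,0,1,1,0,1,0], [0,0,1,1,1,1,0], [1,1,1,1,1,0,1,1,1], [1,0,0,1,0,0,1,0,0], [1,1,1,1], [1,0,0,1], [0,1,1,0,1,1,1],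 [1,1,1,0,1,1,1,0,0], [1,1,0,0,1,1,0,1,0], [0,0,0,1,1,1,1,0], [1,1,0,1,1,0,0,0], [0,0,1,0,1,1,1,0,0], [0,0,1,1,1,1,0,1,1,1], [0,0,1,1,0,1,1,1,0,0], [0,1,1,1,1,1], [0,0,1,0,1,1,1,1,1], [0,1,1,1,0,0,1,0,0,1,0,0], [0,0,1,1,0,1,1,1,1,1,0], [0,1,0,0], [1,1,1,0,0,1,0,1,0], [1,0,0,1,1,1,1,0,1,0], [0,1,1,1,1], [0,1,1,0,1,0], [1,0,1,0,1,1,0], [1,0,0,1,1,1,0,0], [0,1,0,0,0,1,1,0], [0,1,1,1,1,1,0,0,0], [1,1,1,0,1,0], [0,1,1,1,1,0,0,1,0,0], [0,1,0,1,0,1,0,0,1], [1,0,1,1,1], [1,1,0,1,1,1,0,0,1,0,0], [0,0,1,1,1,1,0,1,0], [1,0,1,1,1,0,0], [1,1,1,1,1,1,0], [1,0,1,0,1,0,1,1,0], [1], [1,0,1,1,0], [0,1,1,1], [0,1,1,1,0], [1,1,0,0,1,0,1,0], [1,0,1,1,1,1,1,0], [0,1,1,0,0,1,0,1,1,1], [1,1,0,0,0], [0,1,1,1,0,1,1,1,0,0], [0,1,1,0,1,0,0,1], [0,0,1,1,1,1,1,1], [0,0,1,1,1,0,1,1,0,0,0],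 [1,1,0,0,1,1,1,1,0], [1,0,1,0,0,1,1,1,0], [0,0,1,1,1,1,1,0,1,1,1], [1,0,1,0], [0,1,0,0,1,0,0], [1,0,1,0,0,1,1,1,0,0], [1,1,1,1,1,1,0,0], [0,1,0,0,0,1,0,0,1,0,0], [0,0,0,1,0,1,0], [0,1,1,0,1,1,1,0], [0,1,1,1,1,0,1,0,0], [0,0,1,1,1,1,1,1,0], [1,1,1,1,0,1,0], [0,1,0,1,1,0,1,0], [1,0,0,1,1,0,1,0,1,0], [1,1,0,1,1,0,1,1,1,0], [1,0,0,1,0,0], [1,1,1,1,0,0,1,1,0,1,0], [0,1,1,1,1,0,1,1,1], [0,0,1,0,1,0], [1,1,0], [1,0,1,1,0,1,0]]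

/-- Part of the paths. -/
def pathsCZero2 : List (List ℕ) := [
[0,0,0,1,1,1,0,1,0], [0,0,1,0,0,1,1,1,0,0], [0,1,0,0,1], [0,1,0,1,1,1,1,1], [0,1,0,1,0,1,1,1], [1,1,1,1,0,1,1,1], [1,1,1,1,1,0,0,1,0,0], [0,0,0,1,0,0,1,1,1,0,0], [0,1,1,0,1,1,1,0,0], [1,0,1,1,1,0,1,0], [1,0,0,1,0,1,1,0,0], [0,1,0,1,1,1,1], [0,0,0,1,1,0], [0,1,1,1,1,0,1,0], [1,1,0,1,1,1,1], [0,0,1,1,0,1,1,1,0], [1,1,0,1,0,0,1], [0,1,1,1,0,1,1,0,0,0], [0,1,1,1,1,1,0,1,1,1], [0,1,0,0,1,0,1,1,0,0], [0,0,1,1,0], [1,1,0,1,1,0,0], [1,1,1,1,0,1,0,0], [0,1,1,0], [0,0,0,1,1,1,1,1,1,0], [0,0,1,1,1,1,0,1,1,0], [0,0,1,1,1,0,1,0], [1,0,1,1,1,0,1,1,1], [1,1,0,0,1,0,1,1,1], [1,0,0,0,1,1,1,1,1,0], [0,0,1,1,1,1,1,1,0,0], [0,1,1,0,1,1,1,1,1,0], [1,1,1,0,1,1,0], [1,1,0,0,1,1,1,1,1,1], [1,1,1,0,1,1,1],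 [1,0,0,1,1,0,1,0], [1,1,1,0,0,1,1,1,0], [0,1,1,0,0], [0,1,1,1,1,0,0,1], [0,0,1,1,1,0,1,0,0], [1,1,0,1,0,0], [0,1,0,1,1,0,1,1,0], [1,0,1,1,1,0,0,1,0,0], [1,0,1,1,0,1,1,0], [1,0,1,1,1,1,0,0,0], [0,1,0,0,1,0,1,0], [1,1,0,1,0,1,0,1,1,1], [0,1,1,1,1,0,1,1,0], [0,0,1,1,1,0,1,1,1,0,0], [1,1,1,1,0,0,1], [1,1,1], [1,0,1,1,1,1], [1,1,1,1,0,0,1,0,0], [1,1,1,1,0,0,1,1,1,1,0], [0,1,1,1,1,1,0], [1,0,0,1,1,0], [0,1,0,0,1,1,1,1,0,1,0], [0], [0,1,0,0,1,1,0], [0,1,0,0,1,1,1,0], [1,0,1,1,1,1,1,1,0,0], [1,1,0,1,0,1,1,0], [1,1,1,0,0,1], [0,1,1,1,0,0,1,0,0], [1,0,0,0,1,0,1,0], [0,0,1,1,1,0], [1,1,0,0,1,0,0,1,0,0], [0,0,1,1,0,1,0,1,0], [0,1,0,0,0,1,0,0,0,1], [0,1,1,1,1,0], [1,0,1,0,0,1,1,0], [0,1,0,1,0,0,1], [0,0,0,1,1,0,1,1,1,0,0], [0,1,1,0,0,0], [0,0,1,0,1,1,0,0,1,0,0],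 [0,0], [0,1,0,1,1,0,0,1,0,0], [1,0,0,1,1,0,1,1,1,0], [1,0,1,1,1,1,0,1,1,1], [0,1,0,1,1,0,0], [0,0,1,0,0,1,0,0], [0,1,1,0,0,1,1,1,1,0], [1,0,1,1,1,1,0,1,0], [1,1,1,1,0], [0,0,0], [0,1,0,1,0,0,0,1], [0,0,1,0,1,0,1,0], [1,1,0,1,0,1,0], [0,1,1,0,1,1,0,0,1,0,0], [1,1,1,1,1,1], [1,1,0,1,0,0,1,1,0,1,0], [0,0,0,1,0,0], [0,1], [0,0,1,1,1,1,1,0,0,0], [0,1,1,0,1,1,0], [0,1,0,1,1,1,1,1,0,1,0], [0,0,1,0,0,0,1], [0,0,0,1,0,1,0,1,0], [0,0,0,1,1,1,1,1,0,0,0], [1,1,0,0,1,1,1,0,0]]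

/-- Part of the paths. -/
def pathsCZero3 : List (List ℕ) := [
[1,1,0,1,1,0,1,0], [1,1,1,1,0,0], [1,1,0,1,1,1,1,1,1,0,0], [1,0,1,1,0,1,1,1,0], [1,0,1,0,1,0], [1,0,1,1,1,1,1], [1,1,0,1,0], [0,1,1,0,0,1,0,1,0], [1,1,1,0,0,1,1,1,1,0], [1,1,1,0,1,1,0,1,0], [0,1,1,0,1,0,1,1,0], [1,1,0,1,1,1,0,1,0], [0,0,1,1,1,1,0,0,1], [0,1,0,1,1,1,0,0], [1,1,0,1,0,0,1,1,1,0,0], [0,1,0,0,1,1,1,1,1,1], [1,0,1,0,1,0,1,0], [0,0,1,0,1,1,1], [1,0,0,1,0,0,1,1,1,0,0], [0,0,1,1,1,0,0], [0,0,0,1,1,0,1,1,1,0], [1,1,0,1,0,1,1,1], [1,0,0,1,1,1,1,0], [1,0,1,1,0,1,1,1,0,0], [1,1,0,1,1,0,0,1,0,0], [0,1,0,1,0,1,0], [1,0,1,0,0,1], [1,0,1,1,0,1,0,1,1,0], [1,0,0,1,1,1,0], [1,0,0,1,1,1,1,1,1]]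

/-- The paths. -/
def pathsCZero : List (List ℕ) := ([pathsCZero0, pathsCZero1, pathsCZero2, pathsCZero3] : List (List (List ℕ))).flatten

theorem testsOKCZero : testsOK (plain testsCZero) codeCZero = true := by decide +kernel

theorem certCZero : certAll triMats (enc (repCZero : GolayPt → ℤ)) (chosen codeCZero) pathsCZero = true ∧
    Nat.beq (chosen codeCZero).length 330 = true := by decide +kernel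

theorem ncardCZero : (pickL testsCZero).ncard = 330 := by
  rw [ncard_pickL testsOKCZero]; exact Nat.eq_of_beq_eq_true certCZero.2

theorem reachCZero {S : Subgroup Co0} (hS : ∀ g ∈ triElts, g ∈ S) :
    ∀ y ∈ pickL testsCZero, ∃ g ∈ S, g • repCZero = y :=
  transitive_of_cert isMat_tri hS testsOKCZero (by decide +kernel) certCZero.1

theorem memCZero : repCZero ∈ pickL testsCZero := by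
  refine ⟨by decide +kernel, ?_⟩
  simp only [testsCZero, List.forall_mem_cons]
  exact ⟨by decide +kernel, by decide +kernel, by decide +kernel, fun _ h => absurd h List.not_mem_nil⟩

end CfsgLib.Spor.Leech.Census32
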